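import Cfsg.Agent.Lib.Lie.BoundedPres.SysHom

/-!
# Systems of relations with known numbers of generators, and the presentations they give

`HasSysJ S k r j`: as `HasSys`, with exactly `k` generators, all but `j` of which are covering words.
-/

set_option autoImplicit false

namespace CfsgLib.Lie.BoundedPres

/-- see the module docstring -/
def HasSysJ (S : Type*) [Group S] (k r j : ℕ) : Prop :=
  ∃ (ι : Type) (_ : Fintype ι) (g : ι → S) (R : List (FreeGroup ι)) (V : Subgroup (FreeGroup ι)) (J : Finset ι),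
    Fintype.card ι = k ∧ R.length ≤ r ∧ (∀ w ∈ R, FreeGroup.lift g w = 1) ∧
    (∀ s : S, ∃ v ∈ V, FreeGroup.lift g v = s) ∧
    (∀ (G : Type) [Group G] (g' : ι → G), (∀ w ∈ R, FreeGroup.lift g' w = 1) →
      ∃ φ : S →* G, ∀ v ∈ V, φ (FreeGroup.lift g v) = FreeGroup.lift g' v) ∧
    J.card ≤ j ∧ ∀ x, x ∉ J → FreeGroup.of x ∈ V

namespace HasSysJ

variable {S : Type*} [Group S] {k r j : ℕ}

theorem toHasSys (h : HasSysJ S k r j) : HasSys S k r := by
  obtain ⟨ι, i, g, R, V, J, hk, hr, hval, hcov, hhom, -, -⟩ := h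
  exact ⟨ι, i, g, R, V, hk.le, hr, hval, hcov, hhom⟩

theorem mono (h : HasSysJ S k r j) {r' j' : ℕ} (hr : r ≤ r') (hj : j ≤ j') : HasSysJ S k r' j' := by
  obtain ⟨ι, i, g, R, V, J, hk, h2, hval, hcov, hhom, h3, h4⟩ := h
  exact ⟨ι, i, g, R, V, J, hk, h2.trans hr, hval, hcov, hhom, h3.trans hj, h4⟩

theorem of_equiv {T : Type*} [Group T] (h : HasSysJ S k r j) (e : S ≃* T) : HasSysJ T k r j := by
  obtain ⟨ι, i, g, R, V, J, hk, hr, hval, hcov, hhom, h3, h4⟩ := h
  refine ⟨ι, i, fun x => e (g x), R, V, J, hk, hr, fun w hw => ?_, fun t => ?_, fun G _ g' hg' => ?_, h3, h4⟩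
  · have := lift_comp_hom e.toMonoidHom g w
    simpa [hval w hw] using this
  · obtain ⟨v, hv, hs⟩ := hcov (e.symm t)
    refine ⟨v, hv, ?_⟩
    have := lift_comp_hom e.toMonoidHom g v
    simpa [hs] using this
  · obtain ⟨φ, hφ⟩ := hhom G g' hg'
    refine ⟨φ.comp e.symm.toMonoidHom, fun v hv => ?_⟩
    have := lift_comp_hom e.toMonoidHom g v
    simp only [MulEquiv.coe_toMonoidHom] at this
    simp [this, hφ v hv]

/-- a trivial further generator -/
theorem pad (h : HasSysJ S k r j) : HasSysJ S (k + 1) (r + 1) j := by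
  classical
  obtain ⟨ι, i, g, R, V, J, hk, hr, hval, hcov, hhom, h3, h4⟩ := h
  let incl : FreeGroup ι →* FreeGroup (ι ⊕ Unit) := FreeGroup.map Sum.inl
  let g₁ : ι ⊕ Unit → S := Sum.elim g fun _ => 1
  refine ⟨ι ⊕ Unit, inferInstance, g₁, FreeGroup.of (Sum.inr ()) :: R.map incl,
    V.map incl ⊔ Subgroup.zpowers (FreeGroup.of (Sum.inr ())), J.map ⟨Sum.inl, Sum.inl_injective⟩,
    by simp [hk], by simp; omega, ?_, ?_, ?_, by simpa using h3, ?_⟩
  · intro w hw
    simp only [List.mem_cons, List.mem_map] at hw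
    rcases hw with rfl | ⟨v, hv, rfl⟩
    · simp [g₁]
    · simp only [incl]; rw [lift_map]; exact hval v hv
  · intro s
    obtain ⟨v, hv, rfl⟩ := hcov s
    exact ⟨incl v, Subgroup.mem_sup_left ⟨v, hv, rfl⟩, by simp only [incl]; rw [lift_map]; rfl⟩
  · intro G _ g' hg'
    obtain ⟨φ, hφ⟩ := hhom G (fun x => g' (Sum.inl x)) fun w hw => by
      rw [← lift_map]; exact hg' _ (List.mem_cons_of_mem _ (List.mem_map_of_mem hw))
    refine ⟨φ, fun v hv => ?_⟩
    have hle : V.map incl ⊔ Subgroup.zpowers (FreeGroup.of (Sum.inr ())) ≤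
        (φ.comp (FreeGroup.lift g₁)).eqLocus (FreeGroup.lift g') := by
      refine sup_le ?_ (Subgroup.zpowers_le.2 ?_)
      · rintro _ ⟨w, hw, rfl⟩
        show φ (FreeGroup.lift g₁ (incl w)) = FreeGroup.lift g' (incl w)
        simp only [incl]
        rw [lift_map, lift_map]
        exact hφ w hw
      · show φ (FreeGroup.lift g₁ (FreeGroup.of (Sum.inr ()))) = _
        rw [hg' _ List.mem_cons_self]
        simp [g₁]
    exact hle hv
  · rintro (x | x) hx
    · refine Subgroup.mem_sup_left ⟨FreeGroup.of x, h4 x fun hJ => hx ?_, by simp [incl]⟩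
      exact Finset.mem_map.2 ⟨x, hJ, rfl⟩
    · exact Subgroup.mem_sup_right (Subgroup.mem_zpowers _)

/-- one more relation for the quotient by a cyclic subgroup -/
theorem quotient {Q : Type*} [Group Q] (h : HasSysJ S k r j) (π : S →* Q) (hπ : Function.Surjective π)
    (z : S) (hker : π.ker = Subgroup.zpowers z) : HasSysJ Q k (r + 1) j := by
  obtain ⟨ι, i, g, R, V, J, hk, hr, hval, hcov, hhom, h3, h4⟩ := h
  obtain ⟨vz, hvz, rfl⟩ := hcov z
  refine ⟨ι, i, fun x => π (g x), vz :: R, V, J, hk, by simp [hr], fun w hw => ?_, fun t => ?_,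
    fun G _ g' hg' => ?_, h3, h4⟩
  · rw [lift_comp_hom]
    rcases List.mem_cons.1 hw with rfl | hw
    · rw [← MonoidHom.mem_ker, hker]; exact Subgroup.mem_zpowers _
    · rw [hval w hw, map_one]
  · obtain ⟨s, rfl⟩ := hπ t
    obtain ⟨v, hv, rfl⟩ := hcov s
    exact ⟨v, hv, lift_comp_hom π g v⟩
  · obtain ⟨φ, hφ⟩ := hhom G g' fun w hw => hg' w (List.mem_cons_of_mem _ hw)
    have hk : π.ker ≤ φ.ker := by
      rw [hker, Subgroup.zpowers_le, MonoidHom.mem_ker, hφ vz hvz]
      exact hg' vz List.mem_cons_self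
    refine ⟨π.liftOfSurjective hπ ⟨φ, hk⟩, fun v hv => ?_⟩
    rw [lift_comp_hom, ← hφ v hv]
    exact π.liftOfRightInverse_comp_apply _ _ ⟨φ, hk⟩ _

/-- the presentation -/
theorem presentation (h : HasSysJ S k r j) :
    ∃ rels : Finset (FreeGroup (Fin k)), rels.card ≤ r + j ∧
      Nonempty (PresentedGroup (↑rels : Set (FreeGroup (Fin k))) ≃* S) := by
  classical
  obtain ⟨ι, i, g, R, V, J, hk, hr, hval, hcov, hhom, h3, h4⟩ := h
  let e : ι ≃ Fin k := Fintype.equivFinOfCardEq hk
  choose w hw hw' using hcov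
  let L : List (FreeGroup ι) := R ++ J.toList.map fun x => FreeGroup.of x * (w (g x))⁻¹
  let W : FreeGroup ι →* FreeGroup (Fin k) := FreeGroup.map e
  refine ⟨(L.map W).toFinset, (List.toFinset_card_le _).trans (by simp [L]; omega), ?_⟩
  set rels : Set (FreeGroup (Fin k)) := ↑(L.map W).toFinset
  have hψ : ∀ x ∈ rels, FreeGroup.lift (fun x => g (e.symm x)) x = 1 := by
    intro x hx
    simp only [rels, List.coe_toFinset, Set.mem_ofPred_eq, List.mem_map] at hx
    obtain ⟨v, hv, rfl⟩ := hx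
    simp only [W, lift_map, Equiv.symm_apply_apply]
    rcases List.mem_append.1 hv with hv | hv
    · exact hval v hv
    · obtain ⟨y, -, rfl⟩ := List.mem_map.1 hv
      simp [hw']
  let g' : ι → PresentedGroup rels := fun x => PresentedGroup.of (e x)
  have hg' : ∀ v, FreeGroup.lift g' v = PresentedGroup.mk rels (W v) := fun v =>
    DFunLike.congr_fun (FreeGroup.ext_hom (FreeGroup.lift g') ((PresentedGroup.mk rels).comp W) fun x => by
      simp [g', W]; rfl) v
  have hmem : ∀ v ∈ L, FreeGroup.lift g' v = 1 := fun v hv => by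
    rw [hg']
    exact PresentedGroup.one_of_mem (by
      simp only [rels, List.coe_toFinset, Set.mem_ofPred_eq, List.mem_map]; exact ⟨v, hv, rfl⟩)
  obtain ⟨φ, hφ⟩ := hhom (PresentedGroup rels) g' fun v hv => hmem v (List.mem_append_left _ hv)
  have hgen : ∀ x, φ (g x) = g' x := by
    intro x
    by_cases hx : x ∈ J
    · have h1 := hmem _ (List.mem_append_right _
        (List.mem_map_of_mem (f := fun x => FreeGroup.of x * (w (g x))⁻¹) (Finset.mem_toList.2 hx)))
      rw [map_mul, map_inv, mul_inv_eq_one, FreeGroup.lift_apply_of] at h1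
      rw [h1, ← hφ _ (hw _), hw']
    · have := hφ _ (h4 x hx)
      rwa [FreeGroup.lift_apply_of, FreeGroup.lift_apply_of] at this
  let ψ : PresentedGroup rels →* S := PresentedGroup.toGroup hψ
  have hψof : ∀ x, ψ (PresentedGroup.of x) = g (e.symm x) := fun x => PresentedGroup.toGroup.of hψ
  refine ⟨MonoidHom.toMulEquiv ψ φ ?_ ?_⟩
  · refine PresentedGroup.ext fun x => ?_
    simp [hψof, hgen, g']
  · refine MonoidHom.ext fun s => ?_
    have : (φ : S → _) s = FreeGroup.lift g' (w s) := by rw [← hφ _ (hw s), hw']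
    show ψ (φ s) = s
    rw [this, ← lift_comp_hom]
    simp only [g', hψof, Equiv.symm_apply_apply]
    exact hw' s

/-- a finite group on given generators -/
theorem of_gens [Fintype S] (g : Fin k → S) (hg : Subgroup.closure (Set.range g) = ⊤) :
    HasSysJ S k (Fintype.card S * k) 0 := by
  classical
  have hsurj : ∀ s : S, ∃ w : FreeGroup (Fin k), FreeGroup.lift g w = s := by
    have : (FreeGroup.lift g).range = ⊤ := by rw [FreeGroup.range_lift_eq_closure, hg]
    exact fun s => (this ▸ Subgroup.mem_top s : s ∈ (FreeGroup.lift g).range)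
  choose w₀ hw₀ using hsurj
  let w : S → FreeGroup (Fin k) := fun s => if s = 1 then 1 else w₀ s
  have hw : ∀ s, FreeGroup.lift g (w s) = s := fun s => by
    simp only [w]; split_ifs with h
    · rw [map_one, h]
    · exact hw₀ s
  refine ⟨Fin k, inferInstance, g, (Finset.univ : Finset (S × Fin k)).toList.map fun x =>
    w x.1 * FreeGroup.of x.2 * (w (x.1 * g x.2))⁻¹, ⊤, ∅, Fintype.card_fin k, by simp, ?_,
    fun s => ⟨w s, trivial, hw s⟩, fun G _ g' hg' => ?_, by simp, fun _ _ => trivial⟩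
  · intro v hv
    simp only [List.mem_map] at hv
    obtain ⟨x, -, rfl⟩ := hv
    simp [hw]
  · let f : S → G := fun s => FreeGroup.lift g' (w s)
    have h1 : ∀ s x, f (s * g x) = f s * g' x := fun s x => by
      have := hg' _ (List.mem_map.2 ⟨(s, x), by simp, rfl⟩)
      rw [map_mul, map_mul, map_inv, mul_inv_eq_one, FreeGroup.lift_apply_of] at this
      exact this.symm
    have h2 : ∀ v s, f (s * FreeGroup.lift g v) = f s * FreeGroup.lift g' v := by
      intro v
      induction v using FreeGroup.induction_on with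
      | C1 => intro s; simp
      | of x => intro s; simp [h1]
      | inv_of x _ =>
        intro s
        have := h1 (s * (g x)⁻¹) x
        rw [inv_mul_cancel_right] at this
        rw [map_inv, map_inv, FreeGroup.lift_apply_of, FreeGroup.lift_apply_of, eq_mul_inv_iff_mul_eq]
        exact this.symm
      | mul x y hx hy => intro s; rw [map_mul, map_mul, ← mul_assoc, hy, hx, mul_assoc]
    have hm : ∀ s t, f (s * t) = f s * f t := fun s t => by
      conv_lhs => rw [← hw t]
      exact h2 _ s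
    refine ⟨MonoidHom.mk' f hm, fun v _ => ?_⟩
    have h0 : f 1 = 1 := by simp [f, w]
    show f _ = _
    rw [← one_mul (FreeGroup.lift g v), h2, h0, one_mul]

theorem of_presentation {ι : Type} [Fintype ι] (rels : Finset (FreeGroup ι))
    (e : PresentedGroup (↑rels : Set (FreeGroup ι)) ≃* S) : HasSysJ S (Fintype.card ι) rels.card 0 := by
  have hl : ∀ w, FreeGroup.lift (fun i => e (PresentedGroup.of i)) w = e (PresentedGroup.mk _ w) := fun w =>
    DFunLike.congr_fun (FreeGroup.ext_hom (FreeGroup.lift fun i => e (PresentedGroup.of i))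
      (e.toMonoidHom.comp (PresentedGroup.mk _)) fun i => by
        rw [FreeGroup.lift_apply_of]; rfl) w
  refine ⟨ι, inferInstance, fun i => e (PresentedGroup.of i), rels.toList, ⊤, ∅, rfl, by simp, fun w hw => ?_,
    fun s => ?_, fun G _ g' hg' => ?_, by simp, fun _ _ => trivial⟩
  · rw [hl, PresentedGroup.one_of_mem (Finset.mem_toList.1 hw), map_one]
  · obtain ⟨w, hw⟩ := PresentedGroup.mk_surjective _ (e.symm s)
    exact ⟨w, trivial, by rw [hl, hw, MulEquiv.apply_symm_apply]⟩
  · refine ⟨(PresentedGroup.toGroup (rels := (↑rels : Set (FreeGroup ι)))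
      fun w hw => hg' w (Finset.mem_toList.2 hw)).comp e.symm.toMonoidHom, fun v _ => ?_⟩
    rw [hl]
    simp only [MonoidHom.comp_apply, MulEquiv.coe_toMonoidHom, MulEquiv.symm_apply_apply]
    rfl

end HasSysJ

/-- pad with idle generators -/
theorem HasSys.toJ {S : Type*} [Group S] {k r : ℕ} (h : HasSys S k r) : HasSysJ S k r k := by
  classical
  obtain ⟨ι, i, g, R, V, hk, hr, hval, hcov, hhom⟩ := h
  let incl : FreeGroup ι →* FreeGroup (ι ⊕ Fin (k - Fintype.card ι)) := FreeGroup.map Sum.inl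
  refine ⟨ι ⊕ Fin (k - Fintype.card ι), inferInstance, Sum.elim g fun _ => 1, R.map incl, V.map incl,
    Finset.univ, by simp; omega, by simpa using hr, ?_, ?_, ?_, by simp; omega, fun x hx => absurd (Finset.mem_univ x) hx⟩
  · intro w hw
    simp only [List.mem_map] at hw
    obtain ⟨v, hv, rfl⟩ := hw
    simp only [incl]; rw [lift_map]; exact hval v hv
  · intro s
    obtain ⟨v, hv, rfl⟩ := hcov s
    exact ⟨incl v, ⟨v, hv, rfl⟩, by simp only [incl]; rw [lift_map]; rfl⟩
  · intro G _ g' hg'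
    obtain ⟨φ, hφ⟩ := hhom G (fun x => g' (Sum.inl x)) fun w hw => by
      rw [← lift_map]; exact hg' _ (List.mem_map_of_mem hw)
    refine ⟨φ, ?_⟩
    rintro _ ⟨w, hw, rfl⟩
    simp only [incl]
    rw [lift_map, lift_map]
    exact hφ w hw

end CfsgLib.Lie.BoundedPres
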