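import Cfsg.Agent.Lib.Lie.BoundedPres.Sys

/-!
# Elementary facts about systems of relations
-/

set_option autoImplicit false

namespace CfsgLib.Lie.BoundedPres

theorem lift_prod {ι S G : Type*} [Group S] [Group G] (g : ι → S) (g' : ι → G) (w : FreeGroup ι) :
    FreeGroup.lift (fun i => (g i, g' i)) w = (FreeGroup.lift g w, FreeGroup.lift g' w) :=
  DFunLike.congr_fun (FreeGroup.ext_hom (FreeGroup.lift fun i => (g i, g' i))
    ((FreeGroup.lift g).prod (FreeGroup.lift g')) fun i => by simp) w

theorem lift_map {ι κ G : Type*} [Group G] (f : ι → κ) (h : κ → G) (v : FreeGroup ι) :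
    FreeGroup.lift h (FreeGroup.map f v) = FreeGroup.lift (fun i => h (f i)) v :=
  DFunLike.congr_fun (FreeGroup.ext_hom ((FreeGroup.lift h).comp (FreeGroup.map f))
    (FreeGroup.lift fun i => h (f i)) fun i => by simp) v

/-- a homomorphism defined through a covering subgroup of words -/
theorem exists_hom_of_cover {ι S G : Type*} [Group S] [Group G] (g : ι → S) (g' : ι → G)
    (V : Subgroup (FreeGroup ι)) (hcov : ∀ s : S, ∃ v ∈ V, FreeGroup.lift g v = s)
    (hker : ∀ v ∈ V, FreeGroup.lift g v = 1 → FreeGroup.lift g' v = 1) :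
    ∃ φ : S →* G, ∀ v ∈ V, φ (FreeGroup.lift g v) = FreeGroup.lift g' v := by
  let f : ↥V →* S := (FreeGroup.lift g).comp V.subtype
  have hf : Function.Surjective f := fun s => by
    obtain ⟨v, hv, e⟩ := hcov s
    exact ⟨⟨v, hv⟩, e⟩
  have hk : f.ker ≤ ((FreeGroup.lift g').comp V.subtype).ker := fun v hv => hker v.1 v.2 hv
  refine ⟨f.liftOfSurjective hf ⟨(FreeGroup.lift g').comp V.subtype, hk⟩, fun v hv => ?_⟩
  exact f.liftOfRightInverse_comp_apply _ _ ⟨(FreeGroup.lift g').comp V.subtype, hk⟩ ⟨v, hv⟩

/-- the multiplication table -/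
theorem HasSys.table (S : Type) [Group S] [Fintype S] :
    HasSys S (Fintype.card S) (Fintype.card S * Fintype.card S) := by
  classical
  refine ⟨S, inferInstance, id, (Finset.univ : Finset (S × S)).toList.map fun x =>
    FreeGroup.of x.1 * FreeGroup.of x.2 * (FreeGroup.of (x.1 * x.2))⁻¹, ⊤, le_rfl, ?_, ?_,
    fun s => ⟨FreeGroup.of s, trivial, by simp⟩, fun G _ g' hg' => ?_⟩
  · simp
  · intro w hw
    simp only [List.mem_map] at hw
    obtain ⟨x, -, rfl⟩ := hw
    simp
  · have hm : ∀ a b : S, g' (a * b) = g' a * g' b := fun a b => by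
      have := hg' _ (List.mem_map.2 ⟨(a, b), by simp, rfl⟩)
      rw [map_mul, map_mul, map_inv, mul_inv_eq_one, FreeGroup.lift_apply_of, FreeGroup.lift_apply_of,
        FreeGroup.lift_apply_of] at this
      exact this.symm
    refine ⟨MonoidHom.mk' g' hm, fun v _ => ?_⟩
    exact DFunLike.congr_fun (FreeGroup.ext_hom ((MonoidHom.mk' g' hm).comp (FreeGroup.lift id))
      (FreeGroup.lift g') fun i => by simp) v

theorem commute_closure {G : Type*} [Group G] {s t : Set G} (h : ∀ a ∈ s, ∀ b ∈ t, Commute a b) {a b : G}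
    (ha : a ∈ Subgroup.closure s) (hb : b ∈ Subgroup.closure t) : Commute a b := by
  induction ha using Subgroup.closure_induction with
  | mem x hx =>
    induction hb using Subgroup.closure_induction with
    | mem y hy => exact h x hx y hy
    | one => exact Commute.one_right _
    | mul y z _ _ hy hz => exact hy.mul_right hz
    | inv y _ hy => exact hy.inv_right
  | one => exact Commute.one_left _
  | mul x y _ _ hx hy => exact hx.mul_left hy
  | inv x _ hx => exact hx.inv_left

end CfsgLib.Lie.BoundedPres
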