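import Cfsg.Agent.Lib.Lie.BoundedPres.Carmichael

/-!
# Permutations of the free points inside the alternating group
-/

set_option autoImplicit false

namespace CfsgLib.Lie.BoundedPres

open Equiv Equiv.Perm

/-- the parity as a permutation of the two extra points -/
def twoPerm : ℤˣ →* Perm (Fin 2) :=
  MonoidHom.mk' (fun u => if u = 1 then 1 else swap 0 1) (by decide)

theorem sign_twoPerm : ∀ u : ℤˣ, sign (twoPerm u) = u := by decide

variable {m : ℕ}

/-- a permutation of the free points, made even on the two extra points -/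
def evenExt : Perm (Fin m) →* alternatingGroup (Pt m) :=
  ((sumCongrHom (Fin 2) (Fin m)).comp ((twoPerm.comp sign).prod (MonoidHom.id _))).codRestrict _ fun f => by
    simp only [MonoidHom.comp_apply, MonoidHom.prod_apply, sumCongrHom_apply, MonoidHom.id_apply,
      mem_alternatingGroup]
    rw [sign_sumCongr, sign_twoPerm, Int.units_mul_self]

theorem evenExt_val (f : Perm (Fin m)) :
    (evenExt f : Perm (Pt m)) = Equiv.Perm.sumCongr (twoPerm (sign f)) f := rfl

theorem cyc_inv (i : Fin m) : ((cyc i : alternatingGroup (Pt m))⁻¹ : Perm (Pt m)) =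
    swap (.inl 1) (.inr i) * swap (.inl 0) (.inl 1) := by
  show (cycP i)⁻¹ = _
  rw [cycP, _root_.mul_inv_rev, Equiv.swap_inv, Equiv.swap_inv]

theorem evenExt_cyc (f : Perm (Fin m)) (i : Fin m) :
    evenExt f * cyc i * (evenExt f)⁻¹ = cyc (f i) ^ ((sign f : ℤˣ) : ℤ) := by
  apply Subtype.ext
  set g : Perm (Pt m) := (evenExt f : Perm (Pt m)) with hg
  have e : ∀ a b, g * swap a b * g⁻¹ = swap (g a) (g b) := fun a b => (swap_apply_apply g a b).symm
  show g * cycP i * g⁻¹ = _
  rw [cycP, show g * (swap (Sum.inl 0) (Sum.inl 1) * swap (Sum.inl 1) (Sum.inr i)) * g⁻¹ =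
    (g * swap (Sum.inl 0) (Sum.inl 1) * g⁻¹) * (g * swap (Sum.inl 1) (Sum.inr i) * g⁻¹) by group, e, e]
  have g1 : ∀ a, g (Sum.inl a) = Sum.inl (twoPerm (sign f) a) := fun a => by simp [hg, evenExt_val]
  have g2 : g (Sum.inr i) = Sum.inr (f i) := by simp [hg, evenExt_val]
  rw [g1, g1, g2]
  rcases Int.units_eq_one_or (sign f) with h | h
  · rw [h, Units.val_one, zpow_one, map_one]
    rfl
  · rw [h]
    simp only [Units.val_neg, Units.val_one, zpow_neg, zpow_one, Subgroup.coe_inv, cyc_inv,
      show twoPerm (-1 : ℤˣ) 0 = 1 by decide, show twoPerm (-1 : ℤˣ) 1 = 0 by decide]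
    ext x
    rcases x with x | x
    · fin_cases x <;> simp [swap_apply_def]
    · by_cases hi : x = f i
      · subst hi; simp [swap_apply_def]
      · simp [swap_apply_def, hi]

/-- the embedding of points -/
def ptMap {k : ℕ} (ι : Fin k ↪ Fin m) : Pt k ↪ Pt m := Function.Embedding.sumMap (.refl _) ι

theorem sign_viaEmb {α β : Type*} [Fintype α] [DecidableEq α] [Fintype β] [DecidableEq β] (e : α ↪ β)
    (f : Perm α) : sign (viaEmbedding f e) = sign f := by
  classical
  rw [viaEmbedding]
  convert sign_extendDomain f (Equiv.ofInjective e.1 e.2) using 3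

/-- the embedding of alternating groups -/
noncomputable def altMap {k : ℕ} (ι : Fin k ↪ Fin m) :
    alternatingGroup (Pt k) →* alternatingGroup (Pt m) :=
  ((viaEmbeddingHom (ptMap ι)).comp (alternatingGroup (Pt k)).subtype).codRestrict _ fun f => by
    simp only [MonoidHom.comp_apply, viaEmbeddingHom_apply, mem_alternatingGroup, sign_viaEmb]
    exact f.2

theorem altMap_val {k : ℕ} (ι : Fin k ↪ Fin m) (f : alternatingGroup (Pt k)) :
    (altMap ι f : Perm (Pt m)) = viaEmbedding (f : Perm (Pt k)) (ptMap ι) := rfl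

theorem viaEmb_ext {α β : Type*} (e : α ↪ β) (f : Perm α) (g : Perm β)
    (h1 : ∀ a, g (e a) = e (f a)) (h2 : ∀ b, (∀ a, e a ≠ b) → g b = b) : viaEmbedding f e = g := by
  refine Equiv.ext fun b => ?_
  by_cases hb : b ∈ Set.range e
  · obtain ⟨a, rfl⟩ := hb
    rw [viaEmbedding_apply, h1]
  · rw [viaEmbedding_apply_of_notMem _ _ _ hb, h2 b fun a e' => hb ⟨a, e'⟩]

theorem altMap_cyc {k : ℕ} (ι : Fin k ↪ Fin m) (i : Fin k) : altMap ι (cyc i) = cyc (ι i) := by
  apply Subtype.ext
  rw [altMap_val]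
  refine viaEmb_ext _ _ _ (fun a => ?_) fun b hb => ?_
  · show cycP (ι i) _ = _
    rcases a with a | a
    · fin_cases a <;> simp [ptMap, cyc, cycP, swap_apply_def]
    · by_cases hi : a = i
      · subst hi; simp [ptMap, cyc, cycP, swap_apply_def]
      · simp [ptMap, cyc, cycP, swap_apply_def, hi]
  · show cycP (ι i) b = b
    rcases b with b | b
    · exact absurd rfl (hb (.inl b))
    · have : b ≠ ι i := fun e => hb (.inr i) (by simp [ptMap, e])
      simp [cycP, swap_apply_def, this]

theorem altMap_evenExt {k : ℕ} (ι : Fin k ↪ Fin m) (f : Perm (Fin k)) :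
    altMap ι (evenExt f) = evenExt (viaEmbedding f ι) := by
  apply Subtype.ext
  rw [altMap_val, evenExt_val, evenExt_val, sign_viaEmb]
  refine viaEmb_ext _ _ _ (fun a => ?_) fun b hb => ?_
  · rcases a with a | a <;> simp [ptMap, viaEmbedding_apply]
  · rcases b with b | b
    · exact absurd rfl (hb (.inl b))
    · have : b ∉ Set.range ι := by
        rintro ⟨a, rfl⟩
        exact hb (.inr a) rfl
      simp [viaEmbedding_apply_of_notMem _ _ _ this]

theorem viaEmb_comp {α β γ : Type*} (e : α ↪ β) (e' : β ↪ γ) (f : Perm α) :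
    viaEmbedding (viaEmbedding f e) e' = viaEmbedding f (e.trans e') := by
  refine viaEmb_ext _ _ _ (fun b => ?_) fun c hc => ?_
  · by_cases hb : b ∈ Set.range e
    · obtain ⟨a, rfl⟩ := hb
      rw [viaEmbedding_apply, show e' (e a) = (e.trans e') a from rfl, viaEmbedding_apply]
      rfl
    · rw [viaEmbedding_apply_of_notMem _ _ _ hb, viaEmbedding_apply_of_notMem]
      rintro ⟨a, ha⟩
      exact hb ⟨a, e'.injective ha⟩
  · rw [viaEmbedding_apply_of_notMem]
    rintro ⟨a, ha⟩
    exact hc (e a) ha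

theorem viaEmb_commute {α β γ : Type*} (e : α ↪ γ) (e' : β ↪ γ) (h : ∀ a b, e a ≠ e' b) (f : Perm α)
    (g : Perm β) : Commute (viaEmbedding f e) (viaEmbedding g e') := by
  refine Equiv.ext fun x => ?_
  simp only [Perm.mul_apply]
  by_cases h1 : x ∈ Set.range e
  · obtain ⟨a, rfl⟩ := h1
    have na : ∀ a, e a ∉ Set.range e' := fun a ⟨b, hb⟩ => h a b hb.symm
    rw [viaEmbedding_apply_of_notMem _ _ _ (na a), viaEmbedding_apply,
      viaEmbedding_apply_of_notMem _ _ _ (na _)]
  · rw [viaEmbedding_apply_of_notMem _ e _ h1]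
    by_cases h2 : x ∈ Set.range e'
    · obtain ⟨b, rfl⟩ := h2
      rw [viaEmbedding_apply, viaEmbedding_apply_of_notMem _ e]
      rintro ⟨a, ha⟩
      exact h a _ ha
    · rw [viaEmbedding_apply_of_notMem _ _ _ h2, viaEmbedding_apply_of_notMem _ e _ h1]

end CfsgLib.Lie.BoundedPres
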