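import Cfsg.Agent.Lib.Lie.BoundedPres.Sys
import Cfsg.Agent.Lib.Lie.BoundedPres.AltMaps

/-!
# Five relations for `A_{p+2}`

The affine group of the line over `ZMod p` acts two-transitively, so two pairs of relations give all of
Carmichael's.
-/

set_option autoImplicit false

namespace CfsgLib.Lie.BoundedPres

open Equiv Equiv.Perm

theorem zpow_zpow_unit {G : Type*} [Group G] (a : G) (u : ℤˣ) : (a ^ (u : ℤ)) ^ (u : ℤ) = a := by
  rw [← zpow_mul, ← Units.val_mul, Int.units_mul_self, Units.val_one, zpow_one]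

/-- conjugation by `g` with exponent `u` in both entries keeps `(ab)^2 = 1` -/
theorem sq_conj_unit {G : Type*} [Group G] {a b a' b' g : G} (u : ℤˣ) (ha : g * a * g⁻¹ = a' ^ (u : ℤ))
    (hb : g * b * g⁻¹ = b' ^ (u : ℤ)) (h : (a * b) ^ 2 = 1) : (a' * b') ^ 2 = 1 := by
  have h' : (a' ^ (u : ℤ) * b' ^ (u : ℤ)) ^ 2 = 1 := by
    rw [← ha, ← hb, show g * a * g⁻¹ * (g * b * g⁻¹) = g * (a * b) * g⁻¹ by group, conj_pow, h]
    group
  rcases Int.units_eq_one_or u with rfl | rfl
  · simpa using h'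
  · simp only [Units.val_neg, Units.val_one, zpow_neg, zpow_one] at h'
    rw [← _root_.mul_inv_rev, inv_pow, inv_eq_one] at h'
    calc (a' * b') ^ 2 = a' * (b' * a') ^ 2 * a'⁻¹ := by rw [sq, sq]; group
      _ = 1 := by rw [h']; group

theorem sq_flip {G : Type*} [Group G] {a b : G} (h : (a * b) ^ 2 = 1) : (b * a) ^ 2 = 1 := by
  calc (b * a) ^ 2 = b * (a * b) ^ 2 * b⁻¹ := by rw [sq, sq]; group
    _ = 1 := by rw [h]; group

/-- Carmichael's relations from a two-transitive affine action -/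
theorem sys_of_affine {k : ℕ} (hk : 1 ≤ k) (R S : Perm (Fin k)) (i0 i1 : Fin k) (N P : ℕ) (hR : sign R = 1)
    (hS : S i0 = i0) (hSR : S * R * S⁻¹ = R ^ N) (hRP : R ^ P = 1) (hi1 : R i0 = i1) (hne : i0 ≠ i1)
    (hcov : ∀ i, ∃ a, (R ^ a) i0 = i) (huniq : ∀ a b, (R ^ a) i0 = (R ^ b) i0 → a ≡ b [MOD P])
    (hpair : ∀ i j : Fin k, i ≠ j → ∃ a b : ℕ, (R ^ a * S ^ b) i0 = i ∧ (R ^ a * S ^ b) i1 = j) :
    HasSys (alternatingGroup (Pt k)) 3 5 := by
  classical
  let g : Fin 3 → alternatingGroup (Pt k) := ![evenExt R, evenExt S, cyc i0]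
  let r : FreeGroup (Fin 3) := FreeGroup.of 0
  let s : FreeGroup (Fin 3) := FreeGroup.of 1
  let c : FreeGroup (Fin 3) := FreeGroup.of 2
  let A : Set (FreeGroup (Fin 3)) := Set.range fun a : ℕ => r ^ a * c * (r ^ a)⁻¹
  let L : List (FreeGroup (Fin 3)) :=
    [c ^ 3, r ^ P, s * r * s⁻¹ * (r ^ N)⁻¹, s * c * s⁻¹ * (c ^ ((sign S : ℤˣ) : ℤ))⁻¹,
      (c * (r * c * r⁻¹)) ^ 2]
  have hg : FreeGroup.lift g r = evenExt R ∧ FreeGroup.lift g s = evenExt S ∧ FreeGroup.lift g c = cyc i0 :=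
    ⟨FreeGroup.lift_apply_of, FreeGroup.lift_apply_of, FreeGroup.lift_apply_of⟩
  have hrot : ∀ a : ℕ, evenExt (R ^ a) * cyc i0 * (evenExt (R ^ a))⁻¹ = cyc ((R ^ a) i0) := fun a => by
    rw [evenExt_cyc, map_pow, hR, one_pow, Units.val_one, zpow_one]
  have hA : ∀ a : ℕ, FreeGroup.lift g (r ^ a * c * (r ^ a)⁻¹) = cyc ((R ^ a) i0) := fun a => by
    rw [← hrot, map_mul, map_mul, map_inv, map_pow, hg.1, hg.2.2, map_pow]
  refine ⟨Fin 3, inferInstance, g, L, Subgroup.closure A, by simp, by simp [L], ?_, ?_, ?_⟩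
  · intro w hw
    simp only [L, List.mem_cons, List.not_mem_nil, or_false] at hw
    rcases hw with rfl | rfl | rfl | rfl | rfl
    · rw [map_pow, hg.2.2, cyc_cube]
    · rw [map_pow, hg.1, ← map_pow, hRP, map_one]
    · simp only [map_mul, map_inv, map_pow, hg.1, hg.2.1]
      rw [← map_inv evenExt, ← map_mul, ← map_mul, hSR, map_pow, mul_inv_cancel]
    · simp only [map_mul, map_inv, map_zpow, hg.2.1, hg.2.2]
      rw [evenExt_cyc, hS, mul_inv_cancel]
    · simp only [map_pow, map_mul, map_inv, hg.1, hg.2.2]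
      have := hrot 1
      rw [pow_one] at this
      rw [this, hi1, cyc_pair hne]
  · refine cover_closure g A ?_
    rw [eq_top_iff, ← closure_cyc k, Subgroup.closure_le]
    rintro _ ⟨i, rfl⟩
    obtain ⟨a, rfl⟩ := hcov i
    exact Subgroup.subset_closure ⟨_, ⟨a, rfl⟩, hA a⟩
  · intro G _ g' hg'
    simp only [L, List.forall_mem_cons, List.not_mem_nil, IsEmpty.forall_iff, implies_true, and_true,
      map_mul, map_inv, map_pow, map_zpow, mul_inv_eq_one] at hg'
    set r' := FreeGroup.lift g' r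
    set s' := FreeGroup.lift g' s
    set c' := FreeGroup.lift g' c
    obtain ⟨h3, hP, hsr, hsc, hcc⟩ := hg'
    choose a ha using hcov
    let y : Fin k → G := fun i => r' ^ a i * c' * (r' ^ a i)⁻¹
    have hy : ∀ b : ℕ, r' ^ b * c' * (r' ^ b)⁻¹ = y ((R ^ b) i0) := fun b => by
      have e : r' ^ b = r' ^ a ((R ^ b) i0) :=
        pow_eq_pow_iff_modEq.2 ((huniq b _ (ha _).symm).of_dvd (orderOf_dvd_of_pow_eq_one hP))
      simp only [y, e]
    have hy3 : ∀ i, y i ^ 3 = 1 := fun i => by simp [y, conj_pow, h3]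
    have hrconj : ∀ i, r' * y i * r'⁻¹ = y (R i) := fun i => by
      rw [show R i = (R ^ (1 + a i)) i0 by rw [pow_add, pow_one, Perm.mul_apply, ha], ← hy, pow_add, pow_one]
      simp only [y]; group
    have hsN : ∀ b : ℕ, s' * r' ^ b * s'⁻¹ = r' ^ (N * b) := fun b => by
      rw [← conj_pow, hsr, ← pow_mul]
    have hsconj : ∀ i, s' * y i * s'⁻¹ = y (S i) ^ ((sign S : ℤˣ) : ℤ) := fun i => by
      have e : S i = (R ^ (N * a i)) i0 := by
        calc S i = (S * R ^ a i) i0 := by rw [Perm.mul_apply, ha]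
          _ = (R ^ (N * a i) * S) i0 := by rw [pow_mul, ← hSR, conj_pow]; group
          _ = (R ^ (N * a i)) i0 := by rw [Perm.mul_apply, hS]
      rw [e, ← hy, conj_zpow, ← hsN, ← hsc]
      simp only [y]; group
    have htrans : ∀ (b e : ℕ) (i : Fin k), (r' ^ b * s' ^ e) * y i * (r' ^ b * s' ^ e)⁻¹ =
        y ((R ^ b * S ^ e) i) ^ (((sign S) ^ e : ℤˣ) : ℤ) := by
      intro b e i
      have h1 : ∀ e : ℕ, s' ^ e * y i * (s' ^ e)⁻¹ = y ((S ^ e) i) ^ (((sign S) ^ e : ℤˣ) : ℤ) := by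
        intro e
        induction e with
        | zero => simp
        | succ e ih =>
          rw [pow_succ', pow_succ', pow_succ', Units.val_mul, zpow_mul, Perm.mul_apply,
            show s' * s' ^ e * y i * (s' * s' ^ e)⁻¹ = s' * (s' ^ e * y i * (s' ^ e)⁻¹) * s'⁻¹ by group, ih,
            ← conj_zpow, hsconj]
      have h2 : ∀ (b : ℕ) (l : Fin k), r' ^ b * y l * (r' ^ b)⁻¹ = y ((R ^ b) l) := by
        intro b
        induction b with
        | zero => simp
        | succ b ih =>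
          intro l
          rw [pow_succ', show r' * r' ^ b * y l * (r' * r' ^ b)⁻¹ = r' * (r' ^ b * y l * (r' ^ b)⁻¹) * r'⁻¹ by
            group, ih, hrconj, pow_succ', Perm.mul_apply]
      rw [Perm.mul_apply, ← h2, conj_zpow, ← h1]; group
    have hc0 : y i0 = c' := by
      have := hy 0
      simpa using this.symm
    have hbase : (y i0 * y i1) ^ 2 = 1 := by
      rw [hc0, ← hi1, ← hrconj, hc0]; exact hcc
    have hpairs : ∀ i j, i ≠ j → (y i * y j) ^ 2 = 1 := by
      intro i j hij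
      obtain ⟨b, e, h1, h2⟩ := hpair i j hij
      refine sq_conj_unit ((sign S) ^ e) (g := r' ^ b * s' ^ e) ?_ ?_ hbase
      · rw [htrans, h1]
      · rw [htrans, h2]
    obtain ⟨φ, hφ⟩ := exists_alt_hom hk y hy3 hpairs
    refine ⟨φ, agree_closure φ g g' A ?_⟩
    rintro _ ⟨b, rfl⟩
    rw [hA, hφ, ← hy]
    simp only [map_mul, map_inv, map_pow]
    rfl

theorem sys_prime (p : ℕ) [hp : Fact p.Prime] (h2 : p ≠ 2) : HasSys (alternatingGroup (Pt p)) 3 5 := by
  classical
  let e : ZMod p ≃ Fin p := (ZMod.finEquiv p).symm.toEquiv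
  obtain ⟨g, hg⟩ := IsCyclic.exists_monoid_generator (α := (ZMod p)ˣ)
  let C : Perm (ZMod p) →* Perm (Fin p) := (Equiv.permCongrHom e).toMonoidHom
  have hC : ∀ (f : Perm (ZMod p)) x, C f (e x) = e (f x) := fun f x => by
    simp [C, Equiv.permCongrHom]
  let T : Perm (ZMod p) := Equiv.addRight 1
  let M : Perm (ZMod p) := Equiv.mulLeft₀ (g : ZMod p) g.ne_zero
  have hT : ∀ a : ℕ, ∀ x, (T ^ a) x = x + a := by
    intro a
    induction a with
    | zero => simp
    | succ a ih => intro x; rw [pow_succ', Perm.mul_apply, ih]; simp [T, add_assoc]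
  have hM : ∀ b : ℕ, ∀ x, (M ^ b) x = (g : ZMod p) ^ b * x := by
    intro b
    induction b with
    | zero => simp
    | succ b ih => intro x; rw [pow_succ', Perm.mul_apply, ih, pow_succ']; simp [M, mul_assoc]
  have hT1 : ∀ a : ℕ, (C (T) ^ a) (e 0) = e (a : ZMod p) := fun a => by
    rw [← map_pow, hC, hT, zero_add]
  refine sys_of_affine hp.out.one_le (C T) (C M) (e 0) (e 1) ((g : ZMod p).val) p ?_ ?_ ?_ ?_ ?_ ?_ ?_ ?_ ?_
  · have hTp : T ^ p = 1 := Equiv.ext fun x => by simp [hT]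
    rcases Int.units_eq_one_or (sign (C T)) with h | h
    · exact h
    · have := congrArg sign (show C T ^ p = 1 by rw [← map_pow, hTp, map_one])
      rw [map_pow, h, map_one, (hp.out.odd_of_ne_two h2).neg_one_pow] at this
      exact absurd this (by decide)
  · rw [hC]; simp [M]
  · rw [← map_inv, ← map_mul, ← map_mul, ← map_pow]
    refine congrArg C (mul_inv_eq_iff_eq_mul.2 (Equiv.ext fun x => ?_))
    simp only [Perm.mul_apply, hT, ZMod.natCast_val, ZMod.cast_id', id_eq]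
    simp [T, M, mul_add]
  · rw [← map_pow, ← map_one C]
    exact congrArg C (Equiv.ext fun x => by simp [hT])
  · rw [hC]; simp [T]
  · exact fun h => zero_ne_one (e.injective h)
  · intro i
    refine ⟨(e.symm i).val, ?_⟩
    rw [hT1, ZMod.natCast_val, ZMod.cast_id', id_eq, Equiv.apply_symm_apply]
  · intro a b h
    rw [hT1, hT1] at h
    exact (ZMod.natCast_eq_natCast_iff _ _ _).1 (e.injective h)
  · intro i j hij
    have hd : e.symm j - e.symm i ≠ 0 := sub_ne_zero.2 fun h => hij (e.symm.injective h).symm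
    obtain ⟨b, hb⟩ := Submonoid.mem_powers_iff (Units.mk0 _ hd) g |>.1 (hg _)
    have hb' : (g : ZMod p) ^ b = e.symm j - e.symm i := by
      rw [← Units.val_pow_eq_pow_val, hb]; rfl
    refine ⟨(e.symm i).val, b, ?_, ?_⟩
    · rw [Perm.mul_apply, ← map_pow, ← map_pow, hC, hC, hT, hM, mul_zero, zero_add, ZMod.natCast_val,
        ZMod.cast_id', id_eq, Equiv.apply_symm_apply]
    · rw [Perm.mul_apply, ← map_pow, ← map_pow, hC, hC, hT, hM, mul_one, hb', ZMod.natCast_val,
        ZMod.cast_id', id_eq, sub_add_cancel, Equiv.apply_symm_apply]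

end CfsgLib.Lie.BoundedPres
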