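import Cfsg.Agent.Lib.Lie.BoundedPres.AltStab
import Cfsg.Agent.Lib.Lie.BoundedPres.SysPres

/-!
# Every alternating group by four elements and eleven relations

The second copy of `A_{p+2}` is a conjugate of the first one, so it needs no relations of its own.
-/

set_option autoImplicit false

namespace CfsgLib.Lie.BoundedPres

open Equiv Equiv.Perm

/-- conjugation by an even extension carries one embedded alternating group onto the other -/
theorem exists_twist {k m : ℕ} (f : Perm (Fin m)) (e1 e2 : Fin k ↪ Fin m) (hf : ∀ i, f (e1 i) = e2 i) :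
    ∃ β : MulAut (alternatingGroup (Pt k)), ∀ x,
      evenExt f * altMap e1 x * (evenExt f)⁻¹ = altMap e2 (β x) := by
  classical
  let τ : Perm (Pt k) := Perm.sumCongr (twoPerm (sign f)) 1
  refine ⟨MulAut.conjNormal τ, fun x => Subtype.ext ?_⟩
  show (evenExt f : Perm (Pt m)) * (altMap e1 x : Perm (Pt m)) * (evenExt f : Perm (Pt m))⁻¹ = _
  rw [altMap_val, altMap_val, MulAut.conjNormal_apply]
  have hg : ∀ a, (evenExt f : Perm (Pt m)) (ptMap e1 a) = ptMap e2 (τ a) := fun a => by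
    rcases a with a | a <;> simp [evenExt_val, ptMap, τ, hf]
  symm
  refine viaEmb_ext _ _ _ (fun a => ?_) fun b hb => ?_
  · obtain ⟨a, rfl⟩ := τ.surjective a
    have h : (evenExt f : Perm (Pt m))⁻¹ (ptMap e2 (τ a)) = ptMap e1 a := by
      rw [Perm.inv_def, symm_apply_eq, hg]
    simp only [Perm.mul_apply]
    rw [h, viaEmbedding_apply, hg]
    simp [Perm.inv_def]
  · simp only [Perm.mul_apply]
    rw [viaEmbedding_apply_of_notMem]
    · simp [Perm.inv_def]
    · rintro ⟨a, ha⟩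
      refine hb (τ a) ?_
      rw [← hg, ha]
      simp [Perm.inv_def]

theorem sys_alt_small {m : ℕ} (hm : 1 ≤ m) :
    HasSys (alternatingGroup (Pt m)) m (m + ((Finset.univ : Finset (Fin m × Fin m)).filter fun x => x.1 < x.2).card) := by
  classical
  let P : Finset (Fin m × Fin m) := Finset.univ.filter fun x => x.1 < x.2
  let L : List (FreeGroup (Fin m)) := (List.finRange m).map (fun i => FreeGroup.of i ^ 3) ++
    P.toList.map fun x => (FreeGroup.of x.1 * FreeGroup.of x.2) ^ 2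
  refine ⟨Fin m, inferInstance, cyc, L, ⊤, by rw [Fintype.card_fin], ?_, ?_, ?_, ?_⟩
  · simp [L, P]
  · intro w hw
    simp only [L, List.mem_append, List.mem_map, Finset.mem_toList, P, Finset.mem_filter] at hw
    rcases hw with ⟨i, -, rfl⟩ | ⟨⟨i, j⟩, ⟨-, h⟩, rfl⟩
    · rw [map_pow, FreeGroup.lift_apply_of, cyc_cube]
    · rw [map_pow, map_mul, FreeGroup.lift_apply_of, FreeGroup.lift_apply_of, cyc_pair (ne_of_lt h)]
  · intro s
    have : (FreeGroup.lift (cyc (m := m))).range = ⊤ := by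
      rw [eq_top_iff, ← closure_cyc m, Subgroup.closure_le]
      rintro _ ⟨i, rfl⟩
      exact ⟨FreeGroup.of i, FreeGroup.lift_apply_of⟩
    obtain ⟨v, hv⟩ := (this ▸ Subgroup.mem_top s : s ∈ (FreeGroup.lift (cyc (m := m))).range)
    exact ⟨v, trivial, hv⟩
  · intro G _ g' hg'
    have h3 : ∀ i, g' i ^ 3 = 1 := fun i => by
      have h := hg' (FreeGroup.of i ^ 3) (by simp [L])
      rwa [map_pow, FreeGroup.lift_apply_of] at h
    have hlt : ∀ i j, i < j → (g' i * g' j) ^ 2 = 1 := fun i j h => by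
      have h' := hg' ((FreeGroup.of i * FreeGroup.of j) ^ 2) (by simp [L, P]; exact Or.inr ⟨i, j, h, rfl⟩)
      rwa [map_pow, map_mul, FreeGroup.lift_apply_of, FreeGroup.lift_apply_of] at h'
    obtain ⟨φ, hφ⟩ := exists_alt_hom hm g' h3 fun i j h => by
      rcases lt_or_gt_of_ne h with h' | h'
      · exact hlt i j h'
      · exact sq_flip (hlt j i h')
    refine ⟨φ, fun v _ => ?_⟩
    rw [← lift_comp_hom]
    simp only [hφ]

theorem sys_glue_conj {m p : ℕ} [hp : Fact p.Prime] (hp2 : p ≠ 2) (hlo : m < 2 * p) (hhi : p < m) :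
    HasSys (alternatingGroup (Pt m)) 4 11 := by
  classical
  obtain ⟨L1, rfl⟩ : ∃ L1, m = L1 + p := ⟨m - p, by omega⟩
  obtain ⟨Lc, rfl⟩ : ∃ Lc, p = L1 + Lc := ⟨p - L1, by omega⟩
  have hL1 : 0 < L1 := by omega
  have hLc : 0 < Lc := by omega
  obtain ⟨ι, hι, g1, R1, V, hk, hr, hval, hcov, hhom⟩ := sys_prime (L1 + Lc) hp2
  let k := L1 + Lc
  let e1 : Fin k ↪ Fin (L1 + k) := ⟨fun i => ⟨i.val, by omega⟩, fun a b h => by simpa [Fin.ext_iff] using h⟩
  let e2 : Fin k ↪ Fin (L1 + k) := ⟨fun i => ⟨L1 + i.val, by omega⟩, fun a b h => by simpa [Fin.ext_iff] using h⟩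
  let eC1 : Fin Lc ↪ Fin k := ⟨fun i => ⟨L1 + i.val, by omega⟩, fun a b h => by simpa [Fin.ext_iff] using h⟩
  let eC2 : Fin Lc ↪ Fin k := ⟨fun i => ⟨i.val, by omega⟩, fun a b h => by simpa [Fin.ext_iff] using h⟩
  let eD1 : Fin L1 ↪ Fin k := ⟨fun i => ⟨i.val, by omega⟩, fun a b h => by simpa [Fin.ext_iff] using h⟩
  let eD2 : Fin L1 ↪ Fin k := ⟨fun i => ⟨Lc + i.val, by omega⟩, fun a b h => by simpa [Fin.ext_iff] using h⟩
  have hee : eC1.trans e1 = eC2.trans e2 := Function.Embedding.ext fun i => rfl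
  have v1 : ∀ i, (e1 i).val = i.val := fun _ => rfl
  have v2 : ∀ i, (e2 i).val = L1 + i.val := fun _ => rfl
  have vd1 : ∀ i, (eD1 i).val = i.val := fun _ => rfl
  have vd2 : ∀ i, (eD2 i).val = Lc + i.val := fun _ => rfl
  set δC : ℤˣ := sign (finRotate Lc)
  set δD : ℤˣ := sign (finRotate L1)
  let sC1 := viaEmbedding (finRotate Lc) eC1
  let sC2 := viaEmbedding (finRotate Lc) eC2
  let sD1 := viaEmbedding (finRotate L1) eD1
  let sD2 := viaEmbedding (finRotate L1) eD2
  obtain ⟨vC1, mC1, hC1⟩ := hcov (evenExt sC1)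
  obtain ⟨f, hf⟩ := Equiv.Perm.exists_extending_pair e1 e2 e1.injective e2.injective
  obtain ⟨β, hβ⟩ := exists_twist f e1 e2 hf
  obtain ⟨vC2, mC2, hC2⟩ := hcov (β.symm (evenExt sC2))
  obtain ⟨vD1, mD1, hD1⟩ := hcov (evenExt sD1)
  obtain ⟨vD2, mD2, hD2⟩ := hcov (β.symm (evenExt sD2))
  obtain ⟨u10, m10, h10⟩ := hcov (cyc (eD1 ⟨0, hL1⟩))
  obtain ⟨u1c, m1c, h1c⟩ := hcov (cyc (eC1 ⟨0, hLc⟩))
  obtain ⟨u2c, m2c, h2c⟩ := hcov (β.symm (cyc (eC2 ⟨0, hLc⟩)))
  obtain ⟨u2j, m2j, h2j⟩ := hcov (β.symm (cyc (eD2 ⟨0, hL1⟩)))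
  let g : ι ⊕ Unit → alternatingGroup (Pt (L1 + k)) := Sum.elim (fun i => altMap e1 (g1 i)) fun _ => evenExt f
  let inL : FreeGroup ι →* FreeGroup (ι ⊕ Unit) := FreeGroup.map Sum.inl
  let inR : FreeGroup ι →* FreeGroup (ι ⊕ Unit) :=
    (MulAut.conj (FreeGroup.of (Sum.inr ()))).toMonoidHom.comp inL
  have hl : ∀ {G : Type _} [Group G] (h : ι ⊕ Unit → G) w,
      FreeGroup.lift h (inL w) = FreeGroup.lift (h ∘ Sum.inl) w := fun h w => lift_map Sum.inl h w
  have hr' : ∀ {G : Type _} [Group G] (h : ι ⊕ Unit → G) w, FreeGroup.lift h (inR w) =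
      h (Sum.inr ()) * FreeGroup.lift (h ∘ Sum.inl) w * (h (Sum.inr ()))⁻¹ := fun h w => by
    show FreeGroup.lift h (_ * inL w * _⁻¹) = _
    rw [map_mul, map_mul, map_inv, hl, FreeGroup.lift_apply_of]
  have gl : ∀ w, FreeGroup.lift g (inL w) = altMap e1 (FreeGroup.lift g1 w) := fun w => by
    rw [hl, ← lift_comp_hom]; rfl
  have gr : ∀ w, FreeGroup.lift g (inR w) = altMap e2 (β (FreeGroup.lift g1 w)) := fun w => by
    rw [← hβ, hr', show FreeGroup.lift (g ∘ Sum.inl) w = altMap e1 (FreeGroup.lift g1 w) by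
      rw [← lift_comp_hom]; rfl]
    rfl
  let L : List (FreeGroup (ι ⊕ Unit)) := R1.map inL ++ (
    [inL u1c * (inR u2c)⁻¹, inL vC1 * (inR vC2)⁻¹, inL vD1 * inR vD2 * (inR vD2 * inL vD1)⁻¹,
      inL vD1 * inR u2j * (inL vD1)⁻¹ * (inR u2j ^ (δD : ℤ))⁻¹,
      inR vD2 * inL u10 * (inR vD2)⁻¹ * (inL u10 ^ (δD : ℤ))⁻¹, (inL u10 * inR u2j) ^ 2])
  refine ⟨ι ⊕ Unit, inferInstance, g, L, V.map inL ⊔ V.map inR, ?_, ?_, ?_, ?_, ?_⟩
  · rw [Fintype.card_sum, Fintype.card_unit]; omega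
  · simp only [L, List.length_append, List.length_map, List.length_cons, List.length_nil]; omega
  · intro w hw
    simp only [L, List.mem_append, List.mem_map, List.mem_cons, List.not_mem_nil, or_false] at hw
    rcases hw with ⟨v, hv, rfl⟩ | rfl | rfl | rfl | rfl | rfl | rfl
    · rw [gl, hval v hv, map_one]
    · rw [map_mul, map_inv, gl, gr, h1c, h2c, MulEquiv.apply_symm_apply, altMap_cyc, altMap_cyc, mul_inv_eq_one]
      exact congrArg cyc (DFunLike.congr_fun hee _)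
    · rw [map_mul, map_inv, gl, gr, hC1, hC2, MulEquiv.apply_symm_apply, altMap_evenExt, altMap_evenExt, viaEmb_comp, viaEmb_comp, hee,
        mul_inv_cancel]
    · simp only [map_mul, map_inv, gl, gr, hD1, hD2, MulEquiv.apply_symm_apply, altMap_evenExt, sD1, sD2, viaEmb_comp]
      rw [mul_inv_eq_one, ← map_mul, ← map_mul]
      refine congrArg evenExt (viaEmb_commute _ _ (fun a b h => ?_) _ _).eq
      simp only [Function.Embedding.trans_apply, Fin.ext_iff, v1, v2, vd1, vd2] at h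
      omega
    · simp only [map_mul, map_inv, map_zpow, gl, gr, hD1, h2j, MulEquiv.apply_symm_apply, altMap_evenExt, altMap_cyc, sD1, viaEmb_comp,
        evenExt_cyc, sign_viaEmb]
      rw [mul_inv_eq_one, viaEmbedding_apply_of_notMem]
      rintro ⟨a, ha⟩
      simp only [Function.Embedding.trans_apply, Fin.ext_iff, v1, v2, vd1, vd2] at ha
      omega
    · simp only [map_mul, map_inv, map_zpow, gl, gr, hD2, h10, MulEquiv.apply_symm_apply, altMap_evenExt, altMap_cyc, sD2, viaEmb_comp,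
        evenExt_cyc, sign_viaEmb]
      rw [mul_inv_eq_one, viaEmbedding_apply_of_notMem]
      rintro ⟨a, ha⟩
      simp only [Function.Embedding.trans_apply, Fin.ext_iff, v1, v2, vd1, vd2] at ha
      omega
    · rw [map_pow, map_mul, gl, gr, h10, h2j, MulEquiv.apply_symm_apply, altMap_cyc, altMap_cyc, cyc_pair]
      simp only [ne_eq, Fin.ext_iff, v1, v2, vd1, vd2]
      omega
  · intro s
    have hmap : (V.map inL ⊔ V.map inR).map (FreeGroup.lift g) = ⊤ := by
      rw [eq_top_iff, ← closure_cyc, Subgroup.closure_le]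
      rintro _ ⟨i, rfl⟩
      by_cases hi : i.val < k
      · obtain ⟨v, hv, hgv⟩ := hcov (cyc ⟨i.val, hi⟩)
        exact ⟨inL v, Subgroup.mem_sup_left ⟨v, hv, rfl⟩, by rw [gl, hgv, altMap_cyc]; rfl⟩
      · obtain ⟨v, hv, hgv⟩ := hcov (β.symm (cyc ⟨i.val - L1, by omega⟩))
        refine ⟨inR v, Subgroup.mem_sup_right ⟨v, hv, rfl⟩, ?_⟩
        rw [gr, hgv, MulEquiv.apply_symm_apply, altMap_cyc]
        exact congrArg cyc (Fin.ext (show L1 + (i.val - L1) = i.val by omega))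
    obtain ⟨v, hv, rfl⟩ := (hmap ▸ Subgroup.mem_top s : s ∈ (V.map inL ⊔ V.map inR).map (FreeGroup.lift g))
    exact ⟨v, hv, rfl⟩
  · intro G _ g' hg'
    obtain ⟨φ1, hφ1⟩ := hhom G (g' ∘ Sum.inl) fun w hw => by
      rw [← hl g']; exact hg' _ (List.mem_append_left _ (List.mem_map_of_mem hw))
    let φ2 : alternatingGroup (Pt k) →* G :=
      ((MulAut.conj (g' (Sum.inr ()))).toMonoidHom.comp φ1).comp β.symm.toMonoidHom
    have hφ2 : ∀ w ∈ V, φ2 (β (FreeGroup.lift g1 w)) = FreeGroup.lift g' (inR w) := fun w hw => by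
      rw [hr', ← hφ1 w hw]
      show g' (Sum.inr ()) * φ1 (β.symm (β (FreeGroup.lift g1 w))) * (g' (Sum.inr ()))⁻¹ = _
      rw [MulEquiv.symm_apply_apply]
    have hglue : ∀ w ∈ [inL u1c * (inR u2c)⁻¹, inL vC1 * (inR vC2)⁻¹, inL vD1 * inR vD2 * (inR vD2 * inL vD1)⁻¹,
        inL vD1 * inR u2j * (inL vD1)⁻¹ * (inR u2j ^ (δD : ℤ))⁻¹,
        inR vD2 * inL u10 * (inR vD2)⁻¹ * (inL u10 ^ (δD : ℤ))⁻¹, (inL u10 * inR u2j) ^ 2],
        FreeGroup.lift g' w = 1 := fun w hw =>
      hg' w (List.mem_append_right _ hw)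
    simp only [List.forall_mem_cons, List.not_mem_nil, IsEmpty.forall_iff, implies_true, and_true, map_mul,
      map_inv, map_pow, map_zpow, hl, ← hφ1 _ m10, ← hφ1 _ m1c, ← hφ1 _ mC1, ← hφ1 _ mD1, ← hφ2 _ m2c,
      ← hφ2 _ mC2, ← hφ2 _ mD2, ← hφ2 _ m2j, h10, h1c, h2c, h2j, hC1, hC2, hD1, hD2, MulEquiv.apply_symm_apply, mul_inv_eq_one] at hglue
    obtain ⟨qc, qs, qcomm, qj, q0, qsq⟩ := hglue
    let x1 : Fin k → G := fun i => φ1 (cyc i)
    let x2 : Fin k → G := fun i => φ2 (cyc i)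
    have move : ∀ (φ : alternatingGroup (Pt k) →* G) {L : ℕ} (e : Fin L ↪ Fin k) (i : Fin L),
        φ (evenExt (viaEmbedding (finRotate L) e)) * φ (cyc (e i)) * (φ (evenExt (viaEmbedding (finRotate L) e)))⁻¹ =
          φ (cyc (e (finRotate L i))) ^ ((sign (finRotate L) : ℤˣ) : ℤ) := by
      intro φ L e i
      rw [← map_inv, ← map_mul, ← map_mul, evenExt_cyc, viaEmbedding_apply, sign_viaEmb, map_zpow]
    have hC : ∀ i : Fin Lc, x1 (eC1 i) = x2 (eC2 i) := by
      refine orbit_ind hLc _ qc fun i hi => ?_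
      have a1 := move φ1 eC1 i
      have a2 := move φ2 eC2 i
      rw [show φ1 (cyc (eC1 i)) = x2 (eC2 i) from hi, show φ1 (evenExt (viaEmbedding (finRotate Lc) eC1)) =
        φ2 (evenExt (viaEmbedding (finRotate Lc) eC2)) from qs, a2] at a1
      have := congrArg (fun a : G => a ^ (δC : ℤ)) a1.symm
      exact (zpow_zpow_unit _ δC).symm.trans (this.trans (zpow_zpow_unit _ δC))
    have hD2' : ∀ i : Fin L1, φ2 (evenExt sD2) * x1 (eD1 i) * (φ2 (evenExt sD2))⁻¹ = x1 (eD1 i) ^ (δD : ℤ) := by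
      refine orbit_ind hL1 _ q0 fun i hi => ?_
      have a1 := move φ1 eD1 i
      set A := φ1 (evenExt sD1)
      set B := φ2 (evenExt sD2)
      have e : x1 (eD1 (finRotate L1 i)) = (A * x1 (eD1 i) * A⁻¹) ^ (δD : ℤ) := by
        show φ1 (cyc (eD1 (finRotate L1 i))) = _
        rw [a1, zpow_zpow_unit]
      calc B * x1 (eD1 (finRotate L1 i)) * B⁻¹ = (B * (A * x1 (eD1 i) * A⁻¹) * B⁻¹) ^ (δD : ℤ) := by
            rw [e, ← conj_zpow]
        _ = (A * (B * x1 (eD1 i) * B⁻¹) * A⁻¹) ^ (δD : ℤ) := by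
            rw [show B * (A * x1 (eD1 i) * A⁻¹) * B⁻¹ = (B * A) * x1 (eD1 i) * (B * A)⁻¹ by group, ← qcomm]
            group
        _ = (A * x1 (eD1 i) ^ (δD : ℤ) * A⁻¹) ^ (δD : ℤ) := by rw [hi]
        _ = _ := by rw [← conj_zpow, e]
    have hcrossA : ∀ i : Fin L1, (x1 (eD1 i) * x2 (eD2 ⟨0, hL1⟩)) ^ 2 = 1 := by
      refine orbit_ind hL1 _ qsq fun i hi => ?_
      exact sq_conj_unit δD (move φ1 eD1 i) qj hi
    have hcross : ∀ i j : Fin L1, (x1 (eD1 i) * x2 (eD2 j)) ^ 2 = 1 := by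
      intro i j
      revert i
      refine orbit_ind hL1 (fun j => ∀ i : Fin L1, (x1 (eD1 i) * x2 (eD2 j)) ^ 2 = 1) hcrossA (fun j hj i => ?_) j
      exact sq_conj_unit δD (hD2' i) (move φ2 eD2 j) (hj i)
    have h3 : ∀ i, φ1 (cyc i) ^ 3 = 1 ∧ φ2 (cyc i) ^ 3 = 1 := fun i =>
      ⟨by rw [← map_pow, cyc_cube, map_one], by rw [← map_pow, cyc_cube, map_one]⟩
    have hp' : ∀ (φ : alternatingGroup (Pt k) →* G) i j, i ≠ j → (φ (cyc i) * φ (cyc j)) ^ 2 = 1 :=
      fun φ i j h => by rw [← map_mul, ← map_pow, cyc_pair h, map_one]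
    let y : Fin (L1 + k) → G := fun i =>
      if h : i.val < k then x1 ⟨i.val, h⟩ else x2 ⟨i.val - L1, by omega⟩
    have y1 : ∀ i, y (e1 i) = x1 i := fun i => dif_pos (show (e1 i).val < k from i.isLt)
    have y2 : ∀ i, y (e2 i) = x2 i := fun i => by
      by_cases h : (e2 i).val < k
      · have hh : i.val < Lc := by rw [v2] at h; omega
        exact (dif_pos h).trans (hC ⟨i.val, hh⟩)
      · exact (dif_neg h).trans (congrArg x2 (Fin.ext (show (e2 i).val - L1 = i.val by rw [v2]; omega)))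
    have split : ∀ i : Fin (L1 + k), (∃ a, i = e1 a) ∧ i.val < k ∨ (∃ a, i = e2 a) ∧ k ≤ i.val := fun i => by
      rcases Nat.lt_or_ge i.val k with h | h
      · exact Or.inl ⟨⟨⟨i.val, h⟩, rfl⟩, h⟩
      · exact Or.inr ⟨⟨⟨i.val - L1, by omega⟩, Fin.ext (show i.val = L1 + (i.val - L1) by omega)⟩, h⟩
    have mixed : ∀ i j : Fin (L1 + k), i.val < k → k ≤ j.val → (y i * y j) ^ 2 = 1 := by
      intro i j hi hj
      have ej : j = e2 (eD2 ⟨j.val - k, by omega⟩) :=
        Fin.ext (show j.val = L1 + (Lc + (j.val - k)) by omega)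
      rw [ej, y2]
      rcases Nat.lt_or_ge i.val L1 with h | h
      · rw [show i = e1 (eD1 ⟨i.val, h⟩) from rfl, y1]
        exact hcross _ _
      · rw [show i = e2 ⟨i.val - L1, by omega⟩ from Fin.ext (show i.val = L1 + (i.val - L1) by omega), y2]
        exact hp' φ2 _ _ (fun e => by
          have := congrArg Fin.val e
          simp only [vd2] at this
          omega)
    obtain ⟨φ, hφ⟩ := exists_alt_hom (m := L1 + k) (by omega) y
      (fun i => by
        rcases split i with ⟨⟨a, rfl⟩, -⟩ | ⟨⟨a, rfl⟩, -⟩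
        · rw [y1]; exact (h3 a).1
        · rw [y2]; exact (h3 a).2)
      (fun i j hij => by
        rcases split i with ⟨⟨a, rfl⟩, ha⟩ | ⟨⟨a, rfl⟩, ha⟩ <;> rcases split j with ⟨⟨b, rfl⟩, hb⟩ | ⟨⟨b, rfl⟩, hb⟩
        · rw [y1, y1]; exact hp' φ1 _ _ fun e => hij (e ▸ rfl)
        · exact mixed _ _ ha hb
        · exact sq_flip (mixed _ _ hb ha)
        · rw [y2, y2]; exact hp' φ2 _ _ fun e => hij (e ▸ rfl))
    have c1 : φ.comp (altMap e1) = φ1 := MonoidHom.eq_of_eqOn_dense (closure_cyc k) (by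
      rintro _ ⟨i, rfl⟩; rw [MonoidHom.comp_apply, altMap_cyc, hφ, y1])
    have c2 : φ.comp (altMap e2) = φ2 := MonoidHom.eq_of_eqOn_dense (closure_cyc k) (by
      rintro _ ⟨i, rfl⟩; rw [MonoidHom.comp_apply, altMap_cyc, hφ, y2])
    refine ⟨φ, fun v hv => ?_⟩
    have hle : V.map inL ⊔ V.map inR ≤ (φ.comp (FreeGroup.lift g)).eqLocus (FreeGroup.lift g') := by
      refine sup_le ?_ ?_
      · rintro _ ⟨w, hw, rfl⟩
        show φ (FreeGroup.lift g (inL w)) = FreeGroup.lift g' (inL w)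
        rw [gl, hl, ← MonoidHom.comp_apply φ, c1, hφ1 w hw]
      · rintro _ ⟨w, hw, rfl⟩
        show φ (FreeGroup.lift g (inR w)) = FreeGroup.lift g' (inR w)
        rw [gr, ← MonoidHom.comp_apply φ, c2, hφ2 w hw]
    exact hle hv

/-- four elements and eleven relations suffice -/
theorem sys_alt_four {m : ℕ} (hm : 1 ≤ m) : HasSys (alternatingGroup (Pt m)) 4 11 := by
  rcases Nat.lt_or_ge m 5 with h4 | h5
  · exact (sys_alt_small hm).mono (by omega) (by interval_cases m <;> decide)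
  by_cases hprime : m.Prime
  · haveI := Fact.mk hprime
    exact (sys_prime m (by omega)).mono (by omega) (by omega)
  obtain ⟨p, hp, hlt, hle⟩ := Nat.exists_prime_lt_and_le_two_mul (m / 2) (by omega)
  haveI := Fact.mk hp
  have : p ≠ m := fun e => hprime (e ▸ hp)
  exact sys_glue_conj (p := p) (by omega) (by omega) (by omega)

/-- the same on `n` points -/
theorem sys_alt_four_fin {n : ℕ} (hn : 3 ≤ n) : HasSys (alternatingGroup (Fin n)) 4 11 :=
  (sys_alt_four (m := n - 2) (by omega)).of_equiv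
    (Equiv.altCongrHom (finSumFinEquiv.trans (finCongr (by omega))))

/-- on four or five points -/
theorem sys_alt_three_fin {n : ℕ} (hn : 3 ≤ n) (hn5 : n ≤ 5) : HasSys (alternatingGroup (Fin n)) 3 6 :=
  ((sys_alt_small (m := n - 2) (by omega)).mono (by omega) (by interval_cases n <;> decide)).of_equiv
    (Equiv.altCongrHom (finSumFinEquiv.trans (finCongr (by omega))))

/-- two generators -/
theorem exists_alt_two (α : Type*) [Fintype α] [DecidableEq α] :
    ∃ f : Fin 2 → alternatingGroup α, Subgroup.closure (Set.range f) = ⊤ := by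
  classical
  rcases Nat.lt_or_ge (Fintype.card α) 3 with h | h
  · obtain ⟨f, hf⟩ := exists_six_gens α
    haveI : Subsingleton (alternatingGroup α) := by
      rw [← Finite.card_le_one_iff_subsingleton]
      rcases Nat.lt_or_ge (Fintype.card α) 2 with h1 | h1
      · have := Fintype.card_le_one_iff_subsingleton.1 (show Fintype.card α ≤ 1 by omega)
        exact Finite.card_le_one_iff_subsingleton.2 inferInstance
      · haveI : Nontrivial α := Fintype.one_lt_card_iff_nontrivial.1 (by omega)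
        have := two_mul_nat_card_alternatingGroup (α := α)
        rw [Nat.card_perm, Nat.card_eq_fintype_card (α := α), show Fintype.card α = 2 by omega] at this
        rw [show (2 : ℕ).factorial = 2 from rfl] at this
        omega
    refine ⟨fun _ => 1, eq_top_iff.2 fun x _ => ?_⟩
    rw [Subsingleton.elim x 1]
    exact one_mem _
  · obtain ⟨m, hm⟩ : ∃ m, Fintype.card α = m + 2 := ⟨Fintype.card α - 2, by omega⟩
    have hm1 : 0 < m := by omega
    let E : alternatingGroup (Pt m) ≃* alternatingGroup α :=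
      Equiv.altCongrHom ((finSumFinEquiv.trans (finCongr (by omega))).trans (Fintype.equivFin α).symm)
    let u : alternatingGroup (Pt m) := cyc ⟨0, hm1⟩
    let v : alternatingGroup (Pt m) := evenExt (finRotate m)
    have key : Subgroup.closure (Set.range ![u, v]) = ⊤ := by
      set H := Subgroup.closure (Set.range ![u, v])
      have hu : u ∈ H := Subgroup.subset_closure ⟨0, rfl⟩
      have hv : v ∈ H := Subgroup.subset_closure ⟨1, rfl⟩
      rw [eq_top_iff, ← closure_cyc m, Subgroup.closure_le]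
      rintro _ ⟨i, rfl⟩
      refine orbit_ind hm1 (fun i => cyc i ∈ H) hu (fun i hi => ?_) i
      have := H.zpow_mem (H.mul_mem (H.mul_mem hv hi) (H.inv_mem hv)) ((sign (finRotate m) : ℤˣ) : ℤ)
      rwa [evenExt_cyc, zpow_zpow_unit] at this
    refine ⟨fun i => E (![u, v] i), ?_⟩
    have := congrArg (Subgroup.map E.toMonoidHom) key
    rwa [MonoidHom.map_closure, Subgroup.map_top_of_surjective _ E.surjective, ← Set.range_comp] at this

end CfsgLib.Lie.BoundedPres
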