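import Cfsg.Agent.Lib.Lie.BoundedPres.AltAll

/-!
# Orbits and stabilisers of pairs in alternating groups
-/

set_option autoImplicit false

namespace CfsgLib.Lie.BoundedPres

open Equiv Equiv.Perm

theorem sys_alt_fin (n : ℕ) (hn : 3 ≤ n) : HasSys (alternatingGroup (Fin n)) 6 16 :=
  (sys_alt (n - 2) (by omega)).of_equiv
    (Equiv.altCongrHom (finSumFinEquiv.trans (finCongr (by omega))))

theorem exists_six_gens (α : Type*) [Fintype α] [DecidableEq α] :
    ∃ f : Fin 6 → alternatingGroup α, Subgroup.closure (Set.range f) = ⊤ := by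
  rcases Nat.lt_or_ge (Fintype.card α) 3 with h | h
  · haveI : Subsingleton (alternatingGroup α) := by
      rw [← Finite.card_le_one_iff_subsingleton]
      rcases Nat.lt_or_ge (Fintype.card α) 2 with h1 | h1
      · have := Fintype.card_le_one_iff_subsingleton.1 (show Fintype.card α ≤ 1 by omega)
        exact Finite.card_le_one_iff_subsingleton.2 inferInstance
      · haveI : Nontrivial α := Fintype.one_lt_card_iff_nontrivial.1 (by omega)
        have := two_mul_nat_card_alternatingGroup (α := α)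
        rw [Nat.card_perm, Nat.card_eq_fintype_card (α := α), show Fintype.card α = 2 by omega] at this
        rw [show (2 : ℕ).factorial = 2 from rfl] at this
        omega
    refine ⟨fun _ => 1, eq_top_iff.2 fun x _ => ?_⟩
    rw [Subsingleton.elim x 1]
    exact one_mem _
  · exact ((sys_alt_fin _ h).of_equiv (Equiv.altCongrHom (Fintype.equivFin α).symm)).exists_generators

variable {n : ℕ}

/-- six elements generate the even permutations fixing two points -/
theorem exists_stab_gens (a b : Fin n) :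
    ∃ f : Fin 6 → alternatingGroup (Fin n), (∀ i, (f i).1 a = a ∧ (f i).1 b = b) ∧
      ∀ σ : alternatingGroup (Fin n), σ.1 a = a → σ.1 b = b → σ ∈ Subgroup.closure (Set.range f) := by
  classical
  set s : Finset (Fin n) := Finset.univ.filter fun x => x ≠ a ∧ x ≠ b with hs
  obtain ⟨f, hf⟩ := exists_six_gens s
  refine ⟨fun i => alternatingGroup.ofSubtype s (f i), fun i => ?_, fun σ ha hb => ?_⟩
  · constructor <;>
    · show Perm.ofSubtype ((f i : Perm s)) _ = _
      exact Perm.ofSubtype_apply_of_not_mem _ (by simp [hs])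
  · have hmem : ∀ x, σ.1 x ∈ s ↔ x ∈ s := fun x => by
      simp only [hs, Finset.mem_filter, Finset.mem_univ, true_and, ne_eq]
      constructor
      · rintro ⟨h1, h2⟩
        exact ⟨fun e => h1 (e ▸ ha), fun e => h2 (e ▸ hb)⟩
      · rintro ⟨h1, h2⟩
        exact ⟨fun e => h1 (σ.1.injective (e.trans ha.symm)), fun e => h2 (σ.1.injective (e.trans hb.symm))⟩
    have e : Perm.ofSubtype (σ.1.subtypePerm hmem) = σ.1 := by
      refine Perm.ofSubtype_subtypePerm _ fun x hx => ?_
      simp only [hs, Finset.mem_filter, Finset.mem_univ, true_and, ne_eq]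
      exact ⟨fun h => hx (by rw [h, ha]), fun h => hx (by rw [h, hb])⟩
    have hev : σ.1.subtypePerm hmem ∈ alternatingGroup s := by
      rw [mem_alternatingGroup, ← sign_ofSubtype, e]
      exact σ.2
    have h2 : alternatingGroup.ofSubtype s ⟨_, hev⟩ = σ := Subtype.ext e
    rw [← h2, show (fun i => alternatingGroup.ofSubtype s (f i)) = alternatingGroup.ofSubtype s ∘ f from rfl,
      Set.range_comp, ← MonoidHom.map_closure, hf]
    exact ⟨_, trivial, rfl⟩

theorem exists_even_map {r : ℕ} (f g : Fin r → Fin n) (hf : Function.Injective f) (hg : Function.Injective g)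
    (x y : Fin n) (hxy : x ≠ y) :
    ∃ σ : alternatingGroup (Fin n), (∀ i, σ.1 (f i) = g i) ∨ ∀ i, σ.1 (swap x y (f i)) = g i := by
  classical
  obtain ⟨σ, hσ⟩ := Equiv.Perm.exists_extending_pair f g hf hg
  rcases Int.units_eq_one_or (sign σ) with h | h
  · exact ⟨⟨σ, h⟩, Or.inl hσ⟩
  · refine ⟨⟨σ * swap x y, ?_⟩, Or.inr fun i => ?_⟩
    · rw [mem_alternatingGroup, map_mul, h, sign_swap hxy, Int.units_mul_self]
    · simp [hσ]

/-- transitivity on ordered pairs -/
theorem exists_pair_map (hn : 4 ≤ n) (a b i j : Fin n) (hab : a ≠ b) (hij : i ≠ j) :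
    ∃ σ : alternatingGroup (Fin n), σ.1 a = i ∧ σ.1 b = j := by
  classical
  obtain ⟨x, y, hx, hy, hxy⟩ : ∃ x y, (x ≠ a ∧ x ≠ b) ∧ (y ≠ a ∧ y ≠ b) ∧ x ≠ y := by
    have : 1 < (Finset.univ.filter fun z : Fin n => z ≠ a ∧ z ≠ b).card := by
      have h1 : (Finset.univ.filter fun z : Fin n => z ≠ a ∧ z ≠ b) = Finset.univ \ {a, b} := by
        ext z; simp
      rw [h1, Finset.card_univ_diff, Fintype.card_fin, Finset.card_pair hab]
      omega
    obtain ⟨x, hx, y, hy, hxy⟩ := Finset.one_lt_card.1 this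
    exact ⟨x, y, by simpa using hx, by simpa using hy, hxy⟩
  obtain ⟨σ, hσ⟩ := exists_even_map ![a, b] ![i, j]
    (by intro p q; fin_cases p <;> fin_cases q <;> simp [hab, hab.symm])
    (by intro p q; fin_cases p <;> fin_cases q <;> simp [hij, hij.symm]) x y hxy
  refine ⟨σ, ?_⟩
  rcases hσ with h | h
  · exact ⟨h 0, h 1⟩
  · have h0 := h 0
    have h1 := h 1
    simp [swap_apply_of_ne_of_ne hx.1.symm hy.1.symm, swap_apply_of_ne_of_ne hx.2.symm hy.2.symm] at h0 h1
    exact ⟨h0, h1⟩

/-- the first four points -/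
def four (hn : 4 ≤ n) (t : Fin 4) : Fin n := ⟨t.val, by omega⟩

theorem four_inj (hn : 4 ≤ n) : Function.Injective (four hn) := fun a b h =>
  Fin.ext (congrArg (fun x : Fin n => x.val) h)

/-- every pair comes from a pair among the first four points, fixing the first two -/
theorem exists_stab_pair (hn : 4 ≤ n) (i j : Fin n) (hij : i ≠ j) :
    ∃ (σ : alternatingGroup (Fin n)) (k l : Fin 4), k ≠ l ∧ σ.1 (four hn 0) = four hn 0 ∧
      σ.1 (four hn 1) = four hn 1 ∧ σ.1 (four hn k) = i ∧ σ.1 (four hn l) = j := by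
  classical
  set a := four hn 0 with ha
  set b := four hn 1 with hb
  have hab : a ≠ b := fun h => absurd (four_inj hn h) (by decide)
  obtain ⟨P, hP, hsub⟩ : ∃ P : Fin 4 → Fin n, (Function.Injective P ∧ P 0 = a ∧ P 1 = b) ∧
      i ∈ Set.range P ∧ j ∈ Set.range P := by
    set S : Finset (Fin n) := ({i, j} : Finset (Fin n)) \ {a, b} with hS
    have hS2 : S.card ≤ 2 := le_trans (Finset.card_le_card Finset.sdiff_subset) Finset.card_le_two
    obtain ⟨T, hST, hTu, hT⟩ := Finset.exists_subsuperset_card_eq (s := S) (t := Finset.univ \ {a, b})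
      (fun x hx => by
        simp only [hS, Finset.mem_sdiff] at hx ⊢
        exact ⟨Finset.mem_univ _, hx.2⟩) hS2
      (by rw [Finset.card_univ_diff, Fintype.card_fin, Finset.card_pair hab]; omega)
    obtain ⟨p, q, hpq, hT2⟩ := Finset.card_eq_two.1 hT
    have hp : p ≠ a ∧ p ≠ b := by
      have := hTu (show p ∈ T by simp [hT2])
      simpa using this
    have hq : q ≠ a ∧ q ≠ b := by
      have := hTu (show q ∈ T by simp [hT2])
      simpa using this
    refine ⟨![a, b, p, q], ⟨?_, rfl, rfl⟩, ?_⟩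
    · intro x y
      fin_cases x <;> fin_cases y <;>
        simp [hab, hab.symm, hp.1, hp.2, hq.1, hq.2, hp.1.symm, hp.2.symm, hq.1.symm, hq.2.symm, hpq, hpq.symm]
    · have key : ∀ z ∈ ({i, j} : Finset (Fin n)), z ∈ Set.range ![a, b, p, q] := by
        intro z hz
        by_cases h : z ∈ ({a, b} : Finset (Fin n))
        · simp only [Finset.mem_insert, Finset.mem_singleton] at h
          rcases h with rfl | rfl
          · exact ⟨0, rfl⟩
          · exact ⟨1, rfl⟩
        · have := hST (Finset.mem_sdiff.2 ⟨hz, h⟩)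
          rw [hT2, Finset.mem_insert, Finset.mem_singleton] at this
          rcases this with rfl | rfl
          · exact ⟨2, rfl⟩
          · exact ⟨3, rfl⟩
      exact ⟨key i (by simp), key j (by simp)⟩
  obtain ⟨hPi, hP0, hP1⟩ := hP
  obtain ⟨⟨k, hk⟩, ⟨l, hl⟩⟩ := hsub
  have hkl : k ≠ l := fun e => hij (by rw [← hk, ← hl, e])
  obtain ⟨σ, hσ⟩ := exists_even_map (four hn) P (four_inj hn) hPi (four hn 2) (four hn 3)
    fun h => absurd (four_inj hn h) (by decide)
  rcases hσ with h | h
  · exact ⟨σ, k, l, hkl, (h 0).trans hP0, (h 1).trans hP1, (h k).trans hk, (h l).trans hl⟩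
  · have sw : ∀ t, swap (four hn 2) (four hn 3) (four hn t) = four hn (swap 2 3 t) := fun t =>
      ((four_inj hn).swap_apply 2 3 t)
    simp only [sw] at h
    exact ⟨σ, swap 2 3 k, swap 2 3 l, (swap 2 3).injective.ne hkl, (h 0).trans hP0, (h 1).trans hP1,
      (h k).trans hk, (h l).trans hl⟩

end CfsgLib.Lie.BoundedPres
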