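import Mathlib

/-!
# Carmichael's presentation of the alternating group

`A_{m+2}` on `Fin 2 ⊕ Fin m` is presented by the three-cycles `cyc i` through the two extra points with the
relations `x_i^3 = 1` and `(x_i x_j)^2 = 1`.
-/

set_option autoImplicit false

namespace CfsgLib.Lie.BoundedPres

open Equiv Equiv.Perm

/-- the points -/
abbrev Pt (m : ℕ) : Type := Fin 2 ⊕ Fin m

/-- the three-cycle through `i` -/
def cycP {m : ℕ} (i : Fin m) : Perm (Pt m) := swap (.inl 0) (.inl 1) * swap (.inl 1) (.inr i)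

theorem cycP_mem {m : ℕ} (i : Fin m) : cycP i ∈ alternatingGroup (Pt m) := by
  rw [mem_alternatingGroup, cycP, map_mul, sign_swap (by simp), sign_swap (by simp)]
  simp

/-- the three-cycle as an element of the alternating group -/
def cyc {m : ℕ} (i : Fin m) : alternatingGroup (Pt m) := ⟨cycP i, cycP_mem i⟩

theorem sq_cycP {m : ℕ} (i : Fin m) :
    cycP i * cycP i = swap (.inl 1) (.inr i) * swap (.inl 0) (.inl 1) := by
  ext x
  rcases x with x | x
  · fin_cases x <;> simp [cycP, swap_apply_def]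
  · by_cases hi : x = i
    · subst hi; simp [cycP, swap_apply_def]
    · simp [cycP, swap_apply_def, hi]

theorem cyc_cube {m : ℕ} (i : Fin m) : cyc i ^ 3 = 1 := by
  apply Subtype.ext
  show cycP i ^ 3 = 1
  rw [pow_succ, pow_two, sq_cycP, cycP]
  simp [mul_assoc]

theorem cyc_pair {m : ℕ} {i j : Fin m} (h : i ≠ j) : (cyc i * cyc j) ^ 2 = 1 := by
  apply Subtype.ext
  show (cycP i * cycP j) ^ 2 = 1
  ext x
  rw [sq]
  rcases x with x | x
  · fin_cases x <;> simp [cycP, swap_apply_def, h, h.symm]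
  · by_cases hi : x = i
    · subst hi; simp [cycP, swap_apply_def, h, h.symm]
    · by_cases hj : x = j
      · subst hj; simp [cycP, swap_apply_def, h, h.symm]
      · simp [cycP, swap_apply_def, hi, hj]

theorem closure_cyc (m : ℕ) : Subgroup.closure (Set.range (cyc (m := m))) = ⊤ := by
  set H : Subgroup (Perm (Pt m)) := Subgroup.closure (Set.range cycP)
  set τ : Perm (Pt m) := swap (.inl 0) (.inl 1) with hτ
  have hττ : τ * τ = 1 := swap_mul_self _ _
  have hτi : τ⁻¹ = τ := inv_eq_of_mul_eq_one_right hττ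
  have hnorm : ∀ h ∈ H, τ * h * τ ∈ H := by
    intro h hh
    induction hh using Subgroup.closure_induction with
    | mem x hx =>
      obtain ⟨i, rfl⟩ := hx
      have : τ * cycP i * τ = cycP i * cycP i := by
        rw [sq_cycP, cycP, ← hτ, ← mul_assoc τ, hττ, one_mul]
      rw [this]
      exact mul_mem (Subgroup.subset_closure ⟨i, rfl⟩) (Subgroup.subset_closure ⟨i, rfl⟩)
    | one => rw [mul_one, hττ]; exact one_mem _
    | mul x y _ _ hx hy =>
      rw [show τ * (x * y) * τ = (τ * x * τ) * (τ * y * τ) by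
        calc τ * (x * y) * τ = τ * x * (τ * τ) * y * τ := by rw [hττ]; group
          _ = _ := by group]
      exact mul_mem hx hy
    | inv x _ hx =>
      have e : τ * x⁻¹ * τ = (τ * x * τ)⁻¹ := by simp [mul_assoc, hτi]
      exact e ▸ inv_mem hx
  have hnorm' : ∀ h ∈ H, ∃ h' ∈ H, τ * h = h' * τ := fun h hh =>
    ⟨τ * h * τ, hnorm h hh, by rw [mul_assoc _ τ τ, hττ, mul_one]⟩
  have key : ∀ g : Perm (Pt m), g ∈ H ∨ g * τ ∈ H := by
    intro g
    let T : Subgroup (Perm (Pt m)) :=
      { carrier := {g | g ∈ H ∨ g * τ ∈ H}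
        one_mem' := Or.inl (one_mem _)
        mul_mem' := by
          rintro a b (ha | ha) (hb | hb)
          · exact Or.inl (mul_mem ha hb)
          · exact Or.inr (by rw [mul_assoc]; exact mul_mem ha hb)
          · refine Or.inr ?_
            have := mul_mem ha (hnorm _ hb)
            rwa [show a * τ * (τ * b * τ) = a * b * τ by
              calc a * τ * (τ * b * τ) = a * (τ * τ) * b * τ := by group
                _ = a * b * τ := by rw [hττ]; group] at this
          · refine Or.inl ?_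
            have := mul_mem ha (hnorm _ hb)
            rwa [show a * τ * (τ * (b * τ) * τ) = a * b by
              calc a * τ * (τ * (b * τ) * τ) = a * (τ * τ) * b * (τ * τ) := by group
                _ = a * b := by rw [hττ]; group] at this
        inv_mem' := by
          rintro a (ha | ha)
          · exact Or.inl (inv_mem ha)
          · refine Or.inr ?_
            have := hnorm _ (inv_mem ha)
            rwa [_root_.mul_inv_rev, hτi, ← mul_assoc τ τ, hττ, one_mul] at this }
    have hb : ∀ i : Fin m, swap (.inl 1) (.inr i) ∈ T := fun i => by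
      refine Or.inr ?_
      rw [← sq_cycP]
      exact mul_mem (Subgroup.subset_closure ⟨i, rfl⟩) (Subgroup.subset_closure ⟨i, rfl⟩)
    have hT0 : τ ∈ T := Or.inr (by rw [hττ]; exact one_mem _)
    have h1 : ∀ y, swap (.inl 1) y ∈ T := by
      rintro (y | y)
      · fin_cases y
        · rw [swap_comm]; exact hT0
        · exact (swap_self (Sum.inl 1 : Pt m)).symm ▸ one_mem T
      · exact hb y
    have hall : ∀ x y, swap x y ∈ T := by
      intro x y
      rcases eq_or_ne x y with rfl | hxy
      · rw [swap_self]; exact one_mem T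
      rcases eq_or_ne x (.inl 1) with rfl | hx
      · exact h1 y
      rcases eq_or_ne y (.inl 1) with rfl | hy
      · exact swap_comm (Sum.inl 1) x ▸ h1 x
      rw [swap_comm x y, ← swap_mul_swap_mul_swap (x := x) (y := (Sum.inl 1 : Pt m)) (z := y) hx hxy]
      have e1 : swap x (Sum.inl 1 : Pt m) ∈ T := swap_comm (Sum.inl 1) x ▸ h1 x
      exact mul_mem (mul_mem (h1 y) e1) (h1 y)
    have : T = ⊤ := by
      rw [eq_top_iff, ← closure_isSwap, Subgroup.closure_le]
      rintro g ⟨x, y, -, rfl⟩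
      exact hall x y
    exact (this ▸ Subgroup.mem_top g : g ∈ T)
  have hHA : H ≤ alternatingGroup (Pt m) :=
    (Subgroup.closure_le _).2 (by rintro _ ⟨i, rfl⟩; exact cycP_mem i)
  rw [eq_top_iff]
  rintro ⟨g, hg⟩ -
  have hgH : g ∈ H := by
    refine (key g).resolve_right fun h => ?_
    have h2 := hHA h
    rw [mem_alternatingGroup] at h2 hg
    rw [map_mul, hg, one_mul, hτ, sign_swap (by simp)] at h2
    exact absurd h2 (by decide)
  have : g ∈ (Subgroup.closure (Set.range (cyc (m := m)))).map (alternatingGroup (Pt m)).subtype := by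
    rw [MonoidHom.map_closure, ← Set.range_comp]
    exact hgH
  obtain ⟨y, hy, e⟩ := this
  exact (show y = ⟨g, hg⟩ from Subtype.ext e) ▸ hy

/-- the relations -/
def carmRels (m : ℕ) : Set (FreeGroup (Fin m)) :=
  {r | ∃ i, r = FreeGroup.of i ^ 3} ∪ {r | ∃ i j, i ≠ j ∧ r = (FreeGroup.of i * FreeGroup.of j) ^ 2}

theorem carm_gen_rels (m : ℕ) (i j : Fin m) :
    (PresentedGroup.of (rels := carmRels m) i) ^ 3 = 1 ∧
    (i ≠ j → (PresentedGroup.of (rels := carmRels m) i * PresentedGroup.of j) ^ 2 = 1) :=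
  ⟨PresentedGroup.one_of_mem (Or.inl ⟨i, rfl⟩),
    fun h => PresentedGroup.one_of_mem (Or.inr ⟨i, j, h, rfl⟩)⟩

theorem prod_flip {G : Type*} [Group G] {z a : G} (h : z * a * (z * a) = 1) :
    z * a = a⁻¹ * z⁻¹ ∧ a * z = z⁻¹ * a⁻¹ := by
  have za : z * a = a⁻¹ * z⁻¹ := by rw [← _root_.mul_inv_rev]; exact eq_inv_of_mul_eq_one_right h
  refine ⟨za, ?_⟩
  calc a * z = z⁻¹ * (z * a) * z := by group
    _ = z⁻¹ * (a⁻¹ * z⁻¹) * z := by rw [za]
    _ = z⁻¹ * a⁻¹ := by group

theorem moves_one {G : Type*} [Group G] {z a : G} (hz : z * (z * z) = 1) (ha : a * (a * a) = 1)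
    (hza : z * a * (z * a) = 1) :
    z * a = a⁻¹ * (z * z) ∧ z * z * a = a * (z * a * a) ∧ z * a * a * z = a * a * (z * a * a) := by
  have iz : z⁻¹ = z * z := inv_eq_of_mul_eq_one_right hz
  have ia : a⁻¹ = a * a := inv_eq_of_mul_eq_one_right ha
  obtain ⟨za, az⟩ := prod_flip hza
  have l1 : z⁻¹ * a = a * z * a⁻¹ := by
    calc z⁻¹ * a = z⁻¹ * a⁻¹ * (a * a) := by group
      _ = a * z * a⁻¹ := by rw [← az, ← ia]
  refine ⟨by rw [← iz]; exact za, ?_, ?_⟩
  · rw [← iz, l1, ia]; group
  · have e1 : a⁻¹ = z * a * z := by rw [za]; group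
    calc z * a * a * z = z * a⁻¹ * z := by rw [ia]; group
      _ = (z * z) * a * (z * z) := by rw [e1]; group
      _ = (z⁻¹ * a) * z⁻¹ := by rw [← iz]
      _ = a * z * (a⁻¹ * z⁻¹) := by rw [l1]; group
      _ = a * (z * z) * a := by rw [← za]; group
      _ = a * (z⁻¹ * a) := by rw [← iz]; group
      _ = a * a * (z * a * a) := by rw [l1, ia]; group

theorem moves_two {G : Type*} [Group G] {z a b : G} (hz : z * (z * z) = 1) (ha : a * (a * a) = 1)
    (hb : b * (b * b) = 1) (hza : z * a * (z * a) = 1) (hzb : z * b * (z * b) = 1)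
    (hab : a * b * (a * b) = 1) : z * b * b * a = a⁻¹ * b * a⁻¹ * b * (z * b * b) := by
  have ia : a⁻¹ = a * a := inv_eq_of_mul_eq_one_right ha
  have ib : b⁻¹ = b * b := inv_eq_of_mul_eq_one_right hb
  obtain ⟨za, -⟩ := prod_flip hza
  obtain ⟨-, bz⟩ := prod_flip hzb
  obtain ⟨ab, -⟩ := prod_flip hab
  have l1 : z⁻¹ * b = b * z * b⁻¹ := by
    calc z⁻¹ * b = z⁻¹ * b⁻¹ * (b * b) := by group
      _ = b * z * b⁻¹ := by rw [← bz, ← ib]
  have e1 : b⁻¹ * a = a * b * a⁻¹ := by
    calc b⁻¹ * a = (b⁻¹ * a⁻¹) * (a * a) := by group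
      _ = a * b * a⁻¹ := by rw [← ab, ← ia]
  calc z * b * b * a = z * (b⁻¹ * a) := by rw [ib]; group
    _ = (z * a) * b * a⁻¹ := by rw [e1]; group
    _ = a⁻¹ * (z⁻¹ * b) * a⁻¹ := by rw [za]; group
    _ = a⁻¹ * b * z * (b⁻¹ * a⁻¹) := by rw [l1]; group
    _ = a⁻¹ * b * (z * a) * b := by rw [← ab]; group
    _ = a⁻¹ * b * a⁻¹ * (z⁻¹ * b) := by rw [za]; group
    _ = a⁻¹ * b * a⁻¹ * b * (z * b * b) := by rw [l1, ib]; group

theorem card_carm_le : ∀ m : ℕ, 1 ≤ m → Finite (PresentedGroup (carmRels m)) ∧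
    2 * Nat.card (PresentedGroup (carmRels m)) ≤ (m + 2).factorial := by
  intro m
  induction m with
  | zero => intro h; omega
  | succ m ih =>
    intro _
    set G := PresentedGroup (carmRels (m + 1))
    set y : Fin (m + 1) → G := fun i => PresentedGroup.of i
    have h3 : ∀ i, y i * (y i * y i) = 1 := fun i => by
      rw [← mul_assoc, ← pow_two, ← pow_succ]; exact (carm_gen_rels (m + 1) i i).1
    have hp : ∀ i j, i ≠ j → y i * y j * (y i * y j) = 1 := fun i j h => by
      rw [← pow_two]; exact (carm_gen_rels (m + 1) i j).2 h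
    have hinv : ∀ i, (y i)⁻¹ = y i * y i := fun i => inv_eq_of_mul_eq_one_right (h3 i)
    have hqr : ∀ i j, i ≠ j → y i * y j = (y j)⁻¹ * (y i)⁻¹ := fun i j h => by
      rw [eq_inv_mul_iff_mul_eq, eq_inv_iff_mul_eq_one]
      have := hp j i (Ne.symm h)
      rw [← this]; group
    -- the subgroup of the first `m` generators
    let ι : PresentedGroup (carmRels m) →* G := PresentedGroup.toGroup (f := fun i => y i.castSucc) (by
      rintro r (⟨i, rfl⟩ | ⟨i, j, hij, rfl⟩)
      · simp only [map_pow, FreeGroup.lift_apply_of]; exact (carm_gen_rels (m + 1) _ i.castSucc).1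
      · simp only [map_pow, map_mul, FreeGroup.lift_apply_of]
        exact (carm_gen_rels (m + 1) _ _).2 (fun e => hij (Fin.castSucc_injective _ e)))
    set H : Subgroup G := ι.range
    have hHfin : Finite H ∧ 2 * Nat.card H ≤ (m + 2).factorial := by
      rcases Nat.eq_zero_or_pos m with rfl | hm
      · haveI : Subsingleton (PresentedGroup (carmRels 0)) := by
          constructor
          intro a b
          obtain ⟨a, rfl⟩ := PresentedGroup.mk_surjective _ a
          obtain ⟨b, rfl⟩ := PresentedGroup.mk_surjective _ b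
          rw [Subsingleton.elim a b]
        haveI : Finite (PresentedGroup (carmRels 0)) := Finite.of_subsingleton
        refine ⟨Finite.of_surjective _ ι.rangeRestrict_surjective, ?_⟩
        have h1 := Nat.card_le_card_of_surjective _ ι.rangeRestrict_surjective
        rw [Nat.card_unique (α := PresentedGroup (carmRels 0))] at h1
        exact le_trans (Nat.mul_le_mul_left 2 h1) (by simp [Nat.factorial])
      · obtain ⟨hf, hle⟩ := ih hm
        exact ⟨Finite.of_surjective _ ι.rangeRestrict_surjective,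
          (Nat.mul_le_mul_left 2 (Nat.card_le_card_of_surjective _ ι.rangeRestrict_surjective)).trans hle⟩
    have hyH : ∀ i : Fin m, y i.castSucc ∈ H := fun i => ⟨_, PresentedGroup.toGroup.of _⟩
    set z := y (Fin.last m) with hz
    have hne : ∀ i : Fin m, Fin.last m ≠ i.castSucc := fun i => (Fin.castSucc_ne_last i).symm
    -- the coset representatives
    let rep : Fin 3 ⊕ Fin m → G := fun k => match k with
      | .inl 0 => 1
      | .inl 1 => z
      | .inl 2 => z * z
      | .inr j => z * y j.castSucc * y j.castSucc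
    let U : Set G := {g | ∃ h ∈ H, ∃ k, g = h * rep k}
    have hU0 : ∀ k, ∀ h ∈ H, h * rep k ∈ U := fun k h hh => ⟨h, hh, k, rfl⟩
    have hstep : ∀ g ∈ U, ∀ i, g * y i ∈ U := by
      rintro _ ⟨h, hh, k, rfl⟩ i
      rw [mul_assoc]
      suffices ∃ h' ∈ H, ∃ k', rep k * y i = h' * rep k' by
        obtain ⟨h', hh', k', e⟩ := this
        exact ⟨h * h', mul_mem hh hh', k', by rw [e, mul_assoc]⟩
      rcases Fin.eq_castSucc_or_eq_last i with ⟨a, rfl⟩ | rfl
      · rcases k with k | b
        · obtain ⟨m1, m2, -⟩ := moves_one (h3 (Fin.last m)) (h3 a.castSucc) (hp _ _ (hne a))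
          fin_cases k
          · exact ⟨y a.castSucc, hyH a, .inl 0, by simp [rep]⟩
          · exact ⟨_, inv_mem (hyH a), .inl 2, m1⟩
          · exact ⟨y a.castSucc, hyH a, .inr a, m2⟩
        · rcases eq_or_ne b a with rfl | hba
          · refine ⟨1, one_mem _, .inl 1, ?_⟩
            show z * y b.castSucc * y b.castSucc * y b.castSucc = 1 * z
            rw [one_mul, mul_assoc z, mul_assoc z, mul_assoc (y b.castSucc), h3, mul_one]
          · have m3 := moves_two (h3 (Fin.last m)) (h3 a.castSucc) (h3 b.castSucc)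
              (hp _ _ (hne a)) (hp _ _ (hne b)) (hp _ _ (fun e => hba (Fin.castSucc_injective _ e).symm))
            exact ⟨_, mul_mem (mul_mem (mul_mem (inv_mem (hyH a)) (hyH b)) (inv_mem (hyH a))) (hyH b), .inr b, m3⟩
      · rcases k with k | b
        · fin_cases k
          · exact ⟨1, one_mem _, .inl 1, by simp [rep, hz]⟩
          · exact ⟨1, one_mem _, .inl 2, by simp [rep, hz]⟩
          · refine ⟨1, one_mem _, .inl 0, ?_⟩
            show z * z * z = 1 * 1
            rw [one_mul, mul_assoc]; exact h3 _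
        · exact ⟨_, mul_mem (hyH b) (hyH b), .inr b,
            (moves_one (h3 (Fin.last m)) (h3 b.castSucc) (hp _ _ (hne b))).2.2⟩
    have hUtop : U = Set.univ := by
      haveI := hHfin.1
      have hUfin : U.Finite := by
        refine Set.Finite.subset (Set.finite_range fun x : H × (Fin 3 ⊕ Fin m) => (x.1 : G) * rep x.2) ?_
        rintro _ ⟨h, hh, k, rfl⟩
        exact ⟨(⟨h, hh⟩, k), rfl⟩
      refine Set.eq_univ_iff_forall.2 fun g => ?_
      have h1 : (1 : G) ∈ U := ⟨1, one_mem _, .inl 0, by simp [rep]⟩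
      have hinvstep : ∀ u ∈ U, ∀ i, u * (y i)⁻¹ ∈ U := fun u hu i => by
        rw [hinv, ← mul_assoc]; exact hstep _ (hstep _ hu i) i
      let T : Subgroup G :=
        { carrier := {g | (∀ u ∈ U, u * g ∈ U) ∧ ∀ u ∈ U, u * g⁻¹ ∈ U}
          one_mem' := ⟨fun u hu => by simpa using hu, fun u hu => by simpa using hu⟩
          mul_mem' := fun {a b} ha hb => ⟨fun u hu => by rw [← mul_assoc]; exact hb.1 _ (ha.1 u hu),
            fun u hu => by rw [_root_.mul_inv_rev, ← mul_assoc]; exact ha.2 _ (hb.2 u hu)⟩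
          inv_mem' := fun {a} ha => ⟨ha.2, fun u hu => by rw [inv_inv]; exact ha.1 u hu⟩ }
      have hT : T = ⊤ := by
        rw [eq_top_iff, ← PresentedGroup.closure_range_of, Subgroup.closure_le]
        rintro _ ⟨i, rfl⟩
        exact ⟨fun u hu => hstep u hu i, fun u hu => hinvstep u hu i⟩
      have := (hT ▸ Subgroup.mem_top g : g ∈ T).1 1 h1
      rwa [one_mul] at this
    haveI := hHfin.1
    have hsurj : Function.Surjective (fun x : H × (Fin 3 ⊕ Fin m) => (x.1 : G) * rep x.2) := fun g => by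
      obtain ⟨h, hh, k, rfl⟩ := (hUtop ▸ Set.mem_univ g : g ∈ U)
      exact ⟨(⟨h, hh⟩, k), rfl⟩
    refine ⟨Finite.of_surjective _ hsurj, ?_⟩
    have hc := Nat.card_le_card_of_surjective _ hsurj
    rw [Nat.card_prod, Nat.card_sum, Nat.card_fin, Nat.card_fin] at hc
    calc 2 * Nat.card G ≤ 2 * (Nat.card H * (3 + m)) := Nat.mul_le_mul_left 2 hc
      _ = 2 * Nat.card H * (3 + m) := by ring
      _ ≤ (m + 2).factorial * (3 + m) := Nat.mul_le_mul_right _ hHfin.2
      _ = (m + 1 + 2).factorial := by rw [Nat.factorial_succ (m + 2), mul_comm]; ring_nf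

/-- elements with the relations give a map from the alternating group -/
theorem exists_alt_hom {m : ℕ} (hm : 1 ≤ m) {G : Type*} [Group G] (x : Fin m → G) (h3 : ∀ i, x i ^ 3 = 1)
    (hp : ∀ i j, i ≠ j → (x i * x j) ^ 2 = 1) :
    ∃ φ : alternatingGroup (Pt m) →* G, ∀ i, φ (cyc i) = x i := by
  let f : PresentedGroup (carmRels m) →* alternatingGroup (Pt m) := PresentedGroup.toGroup (f := cyc) (by
    rintro r (⟨i, rfl⟩ | ⟨i, j, hij, rfl⟩)
    · simp only [map_pow, FreeGroup.lift_apply_of]; exact cyc_cube i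
    · simp only [map_pow, map_mul, FreeGroup.lift_apply_of]; exact cyc_pair hij)
  have hf : ∀ i, f (PresentedGroup.of i) = cyc i := fun i => PresentedGroup.toGroup.of _
  have hsurj : Function.Surjective f := by
    rw [← MonoidHom.range_eq_top, eq_top_iff, ← closure_cyc m, Subgroup.closure_le]
    rintro _ ⟨i, rfl⟩
    exact ⟨_, hf i⟩
  obtain ⟨hfin, hle⟩ := card_carm_le m hm
  haveI : Nontrivial (Pt m) := ⟨⟨.inl 0, .inl 1, by simp⟩⟩
  have hcard : 2 * Nat.card (alternatingGroup (Pt m)) = (m + 2).factorial := by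
    rw [two_mul_nat_card_alternatingGroup, Nat.card_perm, Nat.card_sum, Nat.card_fin, Nat.card_fin, add_comm]
  have hbij : Function.Bijective f := (Nat.bijective_iff_surjective_and_card f).2 ⟨hsurj,
    le_antisymm (by omega) (Nat.card_le_card_of_surjective f hsurj)⟩
  let g : PresentedGroup (carmRels m) →* G := PresentedGroup.toGroup (f := x) (by
    rintro r (⟨i, rfl⟩ | ⟨i, j, hij, rfl⟩)
    · simp only [map_pow, FreeGroup.lift_apply_of]; exact h3 i
    · simp only [map_pow, map_mul, FreeGroup.lift_apply_of]; exact hp i j hij)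
  refine ⟨g.comp (MulEquiv.ofBijective f hbij).symm.toMonoidHom, fun i => ?_⟩
  have : (MulEquiv.ofBijective f hbij).symm (cyc i) = PresentedGroup.of i := by
    rw [MulEquiv.symm_apply_eq]; exact (hf i).symm
  simp [this, g]

end CfsgLib.Lie.BoundedPres
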