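import Cfsg.Agent.Lib.Char.SingleBond.SteinbergHom

/-!
# Even permutation matrices and diagonal elements of `SL_n(F)`
-/

set_option autoImplicit false

namespace CfsgLib.Lie.BoundedPres

open Matrix CfsgLib.Char.SingleBond

variable {F : Type*} [Field F] {n : ℕ}

theorem pmat_det (σ : alternatingGroup (Fin n)) : (permMatrixHom (R := F) σ.1).det = 1 := by
  rw [permMatrixHom_apply, det_permutation, map_inv, show Equiv.Perm.sign σ.1 = 1 from σ.2]
  simp

/-- the permutation matrix of an even permutation -/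
def pmat : alternatingGroup (Fin n) →* Matrix.SpecialLinearGroup (Fin n) F where
  toFun σ := ⟨permMatrixHom σ.1, pmat_det σ⟩
  map_one' := Subtype.ext (by simp)
  map_mul' σ τ := Subtype.ext (map_mul (permMatrixHom (R := F)) σ.1 τ.1)

theorem pmat_apply (σ : alternatingGroup (Fin n)) (i j : Fin n) :
    (pmat σ : Matrix.SpecialLinearGroup (Fin n) F).1 i j = if σ.1 j = i then 1 else 0 := by
  show (permMatrixHom σ.1 : Matrix (Fin n) (Fin n) F) i j = _
  rw [permMatrixHom_apply, Equiv.Perm.permMatrix, PEquiv.toMatrix_apply]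
  simp [Equiv.toPEquiv_apply, eq_comm, Equiv.Perm.inv_def, Equiv.eq_symm_apply]

theorem pmat_conj (σ : alternatingGroup (Fin n)) {i j : Fin n} (h : i ≠ j) (c : F) :
    pmat σ * slX i j c * (pmat σ)⁻¹ = slX (σ.1 i) (σ.1 j) c := by
  rw [mul_inv_eq_iff_eq_mul]
  refine Subtype.ext ?_
  show (pmat σ).1 * (slX i j c).1 = (slX (σ.1 i) (σ.1 j) c).1 * (pmat σ).1
  rw [coe_slX h, coe_slX (σ.1.injective.ne h), Matrix.mul_add, Matrix.add_mul, Matrix.mul_one, Matrix.one_mul]
  congr 1
  ext a b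
  rw [Matrix.mul_apply, Matrix.mul_apply, Finset.sum_eq_single i, Finset.sum_eq_single (σ.1 j)]
  · rw [pmat_apply, pmat_apply]
    by_cases hb : j = b
    · subst hb
      by_cases ha : σ.1 i = a
      · subst ha; simp
      · simp [Matrix.single, ha]
    · simp [Matrix.single, hb, σ.1.injective.ne (Ne.symm hb)]
  · intro x _ hx
    simp [Matrix.single, Ne.symm hx]
  · simp
  · intro x _ hx
    simp [Matrix.single, Ne.symm hx]
  · simp

theorem hdiag_det (i j : Fin n) (a : Fˣ) :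
    (Matrix.diagonal fun x => (Pi.mulSingle i (a : F) : Fin n → F) x *
      (Pi.mulSingle j ((a⁻¹ : Fˣ) : F) : Fin n → F) x).det = 1 := by
  rw [det_diagonal, Finset.prod_mul_distrib, Finset.prod_pi_mulSingle', Finset.prod_pi_mulSingle']
  simp

/-- the diagonal element with `a` at `i` and `a⁻¹` at `j` -/
def hdiag (i j : Fin n) (a : Fˣ) : Matrix.SpecialLinearGroup (Fin n) F :=
  ⟨_, hdiag_det i j a⟩

theorem coe_hdiag (i j : Fin n) (a : Fˣ) :
    (hdiag i j a : Matrix.SpecialLinearGroup (Fin n) F).1 = Matrix.diagonal fun x =>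
      (Pi.mulSingle i (a : F) : Fin n → F) x * (Pi.mulSingle j ((a⁻¹ : Fˣ) : F) : Fin n → F) x := rfl

/-- the scalar by which `hdiag i j` acts on the root element `(k, l)` -/
def wgt (i j : Fin n) (a : Fˣ) (k l : Fin n) : F :=
  (Pi.mulSingle i (a : F) : Fin n → F) k * (Pi.mulSingle j ((a⁻¹ : Fˣ) : F) : Fin n → F) k *
    ((Pi.mulSingle i (a : F) : Fin n → F) l * (Pi.mulSingle j ((a⁻¹ : Fˣ) : F) : Fin n → F) l)⁻¹

theorem wgt_map {m : ℕ} (f : Fin n → Fin m) (hf : Function.Injective f) (i j k l : Fin n) (a : Fˣ) :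
    wgt (f i) (f j) a (f k) (f l) = wgt i j a k l := by
  simp [wgt, Pi.mulSingle_apply, hf.eq_iff]

theorem mulSingle_ne_zero' (i x : Fin n) (a : Fˣ) : (Pi.mulSingle i (a : F) : Fin n → F) x ≠ 0 := by
  rw [Pi.mulSingle_apply]; split <;> simp

theorem wgt_ne_zero (i j k l : Fin n) (a : Fˣ) : wgt i j a k l ≠ 0 :=
  mul_ne_zero (mul_ne_zero (mulSingle_ne_zero' _ _ _) (mulSingle_ne_zero' _ _ _))
    (inv_ne_zero (mul_ne_zero (mulSingle_ne_zero' _ _ _) (mulSingle_ne_zero' _ _ _)))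

theorem hdiag_conj (i j : Fin n) (a : Fˣ) {k l : Fin n} (h : k ≠ l) (c : F) :
    hdiag i j a * slX k l c * (hdiag i j a)⁻¹ = slX k l (wgt i j a k l * c) := by
  rw [mul_inv_eq_iff_eq_mul]
  refine Subtype.ext ?_
  show (hdiag i j a).1 * (slX k l c).1 = (slX k l (wgt i j a k l * c)).1 * (hdiag i j a).1
  rw [coe_slX h, coe_slX h, Matrix.mul_add, Matrix.add_mul, Matrix.mul_one, Matrix.one_mul]
  congr 1
  ext x y
  rw [coe_hdiag, Matrix.diagonal_mul, Matrix.mul_diagonal]
  by_cases hx : k = x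
  · subst hx
    by_cases hy : l = y
    · subst hy
      have h1 := mulSingle_ne_zero' (n := n) i l a
      have h2 := mulSingle_ne_zero' (n := n) j l a⁻¹
      simp only [Matrix.single_apply_same, wgt]
      field_simp
    · simp [Matrix.single, hy]
  · simp [Matrix.single, hx]

theorem pmat_hdiag (σ : alternatingGroup (Fin n)) (i j : Fin n) (a : Fˣ) :
    pmat σ * hdiag i j a * (pmat σ)⁻¹ = hdiag (σ.1 i) (σ.1 j) a := by
  rw [mul_inv_eq_iff_eq_mul]
  refine Subtype.ext ?_
  ext x y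
  rw [Matrix.SpecialLinearGroup.coe_mul, Matrix.SpecialLinearGroup.coe_mul, coe_hdiag, coe_hdiag,
    Matrix.mul_diagonal, Matrix.diagonal_mul, pmat_apply]
  by_cases h : σ.1 y = x
  · subst h; simp [Pi.mulSingle_apply, σ.1.injective.eq_iff]
  · simp [h]

theorem hdiag_commute (i j k l : Fin n) (a b : Fˣ) : Commute (hdiag (F := F) i j a) (hdiag k l b) := by
  refine Subtype.ext ?_
  rw [Matrix.SpecialLinearGroup.coe_mul, Matrix.SpecialLinearGroup.coe_mul, coe_hdiag, coe_hdiag]
  rw [diagonal_mul_diagonal, diagonal_mul_diagonal]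
  simp [mul_comm]

end CfsgLib.Lie.BoundedPres
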