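import Cfsg.Agent.Lib.Lie.BoundedPres.AltStab
import Cfsg.Agent.Lib.Lie.BoundedPres.SLMat
import Cfsg.Agent.Lib.Lie.ShortPres.B2Prm
import Cfsg.Agent.Lib.Lie.ShortPres.Torus

/-!
# Steinberg's relations from boundedly many, using an action of the alternating group
-/

set_option autoImplicit false

namespace CfsgLib.Lie.BoundedPres

open Polynomial CfsgLib.Lie.ShortPres CfsgLib.Char.SingleBond

variable {F : Type*} [Field F] {n : ℕ} {G : Type*} [Group G]

/-- the family of root subgroups -/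
noncomputable def famX (hn : 4 ≤ n) (ρ : alternatingGroup (Fin n) →* G) (x : F → G) (i j : Fin n) (c : F) : G :=
  if h : i ≠ j then
    (fun π => ρ π * x c * (ρ π)⁻¹)
      (exists_pair_map hn (four hn 0) (four hn 1) i j (fun e => absurd (four_inj hn e) (by decide)) h).choose
  else 1

section Core

variable (hn : 4 ≤ n) (ρ : alternatingGroup (Fin n) →* G) (x : F → G)

theorem four01 : four hn 0 ≠ four hn 1 := fun e => absurd (four_inj hn e) (by decide)

/-- the stabiliser of the basic pair fixes the basic family -/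
def Stable : Prop :=
  ∀ σ : alternatingGroup (Fin n), σ.1 (four hn 0) = four hn 0 → σ.1 (four hn 1) = four hn 1 →
    ∀ c, ρ σ * x c * (ρ σ)⁻¹ = x c

variable {hn ρ x}

theorem famX_eq (hst : Stable hn ρ x) (π : alternatingGroup (Fin n)) (c : F) :
    famX hn ρ x (π.1 (four hn 0)) (π.1 (four hn 1)) c = ρ π * x c * (ρ π)⁻¹ := by
  have hne := π.1.injective.ne (four01 hn)
  rw [famX, dif_pos hne]
  set π0 := (exists_pair_map hn (four hn 0) (four hn 1) _ _ (four01 hn) hne).choose with hπ0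
  obtain ⟨h0, h1⟩ := (exists_pair_map hn (four hn 0) (four hn 1) _ _ (four01 hn) hne).choose_spec
  rw [← hπ0] at h0 h1
  have key := hst (π⁻¹ * π0) (by simp [h0]) (by simp [h1]) c
  conv_rhs => rw [← key]
  simp only [map_mul, map_inv]
  group

theorem famX_conj (hst : Stable hn ρ x) (σ : alternatingGroup (Fin n)) {i j : Fin n} (h : i ≠ j) (c : F) :
    ρ σ * famX hn ρ x i j c * (ρ σ)⁻¹ = famX hn ρ x (σ.1 i) (σ.1 j) c := by
  obtain ⟨π, rfl, rfl⟩ := exists_pair_map hn _ _ i j (four01 hn) h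
  rw [famX_eq hst, show σ.1 (π.1 (four hn 0)) = (σ * π).1 (four hn 0) from rfl,
    show σ.1 (π.1 (four hn 1)) = (σ * π).1 (four hn 1) from rfl, famX_eq hst, map_mul]
  group

end Core

variable [Fintype F] {p : ℕ} [hp : Fact p.Prime] [Algebra (ZMod p) F]

omit [Fintype F] in
/-- spread a relation that is additive in both arguments -/
theorem spread {w : F} (hgen : ∀ β : F, ∃ f : (ZMod p)[X], aeval w f = β) (S : F → F → Prop)
    (h0l : ∀ b, S 0 b) (h0r : S 1 0) (haddr : ∀ b c, S 1 b → S 1 c → S 1 (b + c))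
    (haddl : ∀ a c, (∀ b, S a b) → (∀ b, S c b) → ∀ b, S (a + c) b)
    (hr : ∀ b, S 1 b → S 1 (w * b)) (hl : ∀ a, (∀ b, S a b) → ∀ b, S (w * a) b) (h1 : S 1 1) (a b : F) :
    S a b := by
  have e1 : ∀ b, S 1 b := forall_of_generated (p := p) w hgen (fun b => S 1 b) h0r h1 haddr hr
  exact forall_of_generated (p := p) w hgen (fun a => ∀ b, S a b) h0l e1 haddl hl a b

variable (P : BTwo.Prm p) (ω : Fˣ)

/-- the data of the presentation -/
structure Rels (hn : 4 ≤ n) (ρ : alternatingGroup (Fin n) →* G) (gens : Fin 6 → alternatingGroup (Fin n))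
    (poly : F → (ZMod p)[X]) (u d : G) : Prop where
  hup : u ^ p = 1
  hu1 : Commute u (conjPow u (d ^ P.m) 1)
  hu2 : P.big = true → d ^ P.k * u * (d ^ P.k)⁻¹ = u * conjPow u (d ^ P.m) 1
  hμ : pw u (d ^ P.m) P.μ' = 1
  hd : d * u * d⁻¹ = pw u (d ^ P.m) (poly ((ω : F) ^ 2))
  hgu : ∀ i, Commute (ρ (gens i)) u
  hgd : ∀ i, Commute (ρ (gens i)) d
  htc : ∀ π : Fin 4 → Fin 4 → alternatingGroup (Fin n), (∀ k l, k ≠ l →
      (π k l).1 (four hn 0) = four hn k ∧ (π k l).1 (four hn 1) = four hn l) → ∀ k l, k ≠ l →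
      Commute (ρ (π k l) * d * (ρ (π k l))⁻¹) (d ^ P.m) ∧
      ρ (π k l) * d * (ρ (π k l))⁻¹ * u * (ρ (π k l) * d * (ρ (π k l))⁻¹)⁻¹ =
        pw u (d ^ P.m) (poly (wgt (four hn k) (four hn l) ω (four hn 0) (four hn 1)))

/-- the eight base equations for a family -/
structure Base (X : Fin n → Fin n → F → G) (i j k l : Fin n) : Prop where
  row : X i j 1 * X i k 1 = X i k 1 * X i j 1
  col : X i j 1 * X k j 1 = X k j 1 * X i j 1
  dis : X i j 1 * X k l 1 = X k l 1 * X i j 1
  prod : X i j 1 * X j k 1 * (X i j 1)⁻¹ * (X j k 1)⁻¹ = X i k 1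

variable {P ω}

theorem stRel_of_rels (hP : P.Ok (ω : F)) (hn : 4 ≤ n) (ρ : alternatingGroup (Fin n) →* G)
    (gens : Fin 6 → alternatingGroup (Fin n))
    (hgens : ∀ σ : alternatingGroup (Fin n), σ.1 (four hn 0) = four hn 0 → σ.1 (four hn 1) = four hn 1 →
      σ ∈ Subgroup.closure (Set.range gens))
    (poly : F → (ZMod p)[X]) (hpoly : ∀ v, aeval (((ω : F) ^ P.m) ^ 2) (poly v) = v) {u d : G}
    (R : Rels P ω hn ρ gens poly u d)
    (x : F → G) (hxadd : ∀ b c, x (b + c) = x b * x c) (hx1 : x 1 = u)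
    (hxd : ∀ b, x ((((ω : F) ^ P.m) ^ 2) * b) = d ^ P.m * x b * (d ^ P.m)⁻¹)
    (hxpw : ∀ f : (ZMod p)[X], pw u (d ^ P.m) f = x (aeval (((ω : F) ^ P.m) ^ 2) f))
    (hbase : Base (famX hn ρ x) (four hn 0) (four hn 1) (four hn 2) (four hn 3))
    (hbase' : Base (famX hn ρ x) (four hn 1) (four hn 0) (four hn 2) (four hn 3)) :
    Stable hn ρ x ∧ StRel (famX hn ρ x) := by
  have adx : Act d x ((ω : F) ^ 2) := fun b => (param_equivariant ((Commute.refl d).pow_left P.m) x hxadd _ _
    hP.genm hxd (by rw [hx1, R.hd, hxpw, hpoly]) b).symm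
  -- the stabiliser
  have hstd : ∀ σ : alternatingGroup (Fin n), σ.1 (four hn 0) = four hn 0 → σ.1 (four hn 1) = four hn 1 →
      Commute (ρ σ) u ∧ Commute (ρ σ) d := by
    intro σ h0 h1
    have hm := hgens σ h0 h1
    clear h0 h1
    induction hm using Subgroup.closure_induction with
    | mem y hy => obtain ⟨i, rfl⟩ := hy; exact ⟨R.hgu i, R.hgd i⟩
    | one => rw [map_one]; exact ⟨Commute.one_left _, Commute.one_left _⟩
    | mul y z _ _ hy hz => rw [map_mul]; exact ⟨hy.1.mul_left hz.1, hy.2.mul_left hz.2⟩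
    | inv y _ hy => rw [map_inv]; exact ⟨hy.1.inv_left, hy.2.inv_left⟩
  have hst : Stable hn ρ x := by
    intro σ h0 h1 c
    obtain ⟨hu, hd⟩ := hstd σ h0 h1
    have := param_equivariant (hd.symm.pow_left P.m) x hxadd _ (1 : F) hP.genm hxd
      (by rw [hx1, hu.eq, mul_inv_cancel_right]) c
    rw [one_mul] at this
    exact this.symm
  set X := famX hn ρ x with hX
  have hne01 := four01 hn
  have hX01 : ∀ c, X (four hn 0) (four hn 1) c = x c := fun c => by
    have := famX_eq hst (1 : alternatingGroup (Fin n)) c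
    simpa [hX] using this
  have hXadd : ∀ {i j}, i ≠ j → ∀ a b, X i j (a + b) = X i j a * X i j b := by
    intro i j hij a b
    obtain ⟨π, rfl, rfl⟩ := exists_pair_map hn _ _ i j hne01 hij
    simp only [hX, famX_eq hst, hxadd]
    group
  have hX0 : ∀ {i j}, i ≠ j → X i j 0 = 1 := fun {i j} hij => by
    have := hXadd hij 0 0
    rwa [add_zero, left_eq_mul] at this
  have hXc : ∀ (σ : alternatingGroup (Fin n)) {i j}, i ≠ j → ∀ c,
      ρ σ * X i j c * (ρ σ)⁻¹ = X (σ.1 i) (σ.1 j) c := fun σ {i j} h c => famX_conj hst σ h c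
  -- the tori
  have tor : ∀ i j, i ≠ j → ∃ h : G, ∀ k l, k ≠ l → Act h (X k l) (wgt i j ω k l) := by
    classical
    have hd4 : ∀ (π : alternatingGroup (Fin n)) (k l : Fin 4), k ≠ l →
        π.1 (four hn 0) = four hn k → π.1 (four hn 1) = four hn l →
        Act (ρ π * d * (ρ π)⁻¹) x (wgt (four hn k) (four hn l) ω (four hn 0) (four hn 1)) := by
      intro π k l hkl h0 h1
      have hsel : ∀ a b : Fin 4, ∃ π' : alternatingGroup (Fin n), (a ≠ b →
          π'.1 (four hn 0) = four hn a ∧ π'.1 (four hn 1) = four hn b) ∧ (a = k ∧ b = l → π' = π) := by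
        intro a b
        by_cases he : a = k ∧ b = l
        · exact ⟨π, fun _ => by rw [he.1, he.2]; exact ⟨h0, h1⟩, fun _ => rfl⟩
        by_cases hab : a ≠ b
        · obtain ⟨π', e⟩ := exists_pair_map hn _ _ _ _ hne01 ((four_inj hn).ne hab)
          exact ⟨π', fun _ => e, fun h => absurd h he⟩
        · exact ⟨1, fun h => absurd h hab, fun h => absurd h he⟩
      choose sel hsel' using hsel
      obtain ⟨hc, he⟩ := R.htc sel (fun a b hab => (hsel' a b).1 hab) k l hkl
      rw [(hsel' k l).2 ⟨rfl, rfl⟩] at hc he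
      exact fun b => (param_equivariant hc.symm x hxadd _ _ hP.genm hxd
        (by rw [hx1, he, hxpw, hpoly]) b).symm
    -- `d` conjugated to any pair acts on the basic family
    have hgen : ∀ (π : alternatingGroup (Fin n)) i j, i ≠ j → π.1 (four hn 0) = i → π.1 (four hn 1) = j →
        Act (ρ π * d * (ρ π)⁻¹) x (wgt i j ω (four hn 0) (four hn 1)) := by
      intro π i j hij h0 h1
      obtain ⟨σ, k, l, hkl, f0, f1, fk, fl⟩ := exists_stab_pair hn i j hij
      obtain ⟨π', g0, g1⟩ := exists_pair_map hn _ _ _ _ hne01 ((four_inj hn).ne hkl)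
      have e : ρ π * d * (ρ π)⁻¹ = ρ σ * (ρ π' * d * (ρ π')⁻¹) * (ρ σ)⁻¹ := by
        have hs := (hstd (π⁻¹ * (σ * π')) (by simp [g0, fk, ← h0]) (by simp [g1, fl, ← h1])).2
        have : ρ π * (ρ (π⁻¹ * (σ * π')) * d * (ρ (π⁻¹ * (σ * π')))⁻¹) * (ρ π)⁻¹ = ρ π * d * (ρ π)⁻¹ := by
          rw [hs.eq, mul_inv_cancel_right]
        rw [← this, map_mul, map_inv, map_mul]
        group
      intro b
      have hw := hd4 π' k l hkl g0 g1 b
      have hb : (ρ σ)⁻¹ * x b * ρ σ = x b := by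
        calc (ρ σ)⁻¹ * x b * ρ σ = (ρ σ)⁻¹ * (ρ σ * x b * (ρ σ)⁻¹) * ρ σ := by rw [hst σ f0 f1]
          _ = x b := by group
      rw [e]
      calc ρ σ * (ρ π' * d * (ρ π')⁻¹) * (ρ σ)⁻¹ * x b * (ρ σ * (ρ π' * d * (ρ π')⁻¹) * (ρ σ)⁻¹)⁻¹
          = ρ σ * ((ρ π' * d * (ρ π')⁻¹) * ((ρ σ)⁻¹ * x b * ρ σ) * (ρ π' * d * (ρ π')⁻¹)⁻¹) * (ρ σ)⁻¹ := by
            group
        _ = x (wgt (four hn k) (four hn l) ω (four hn 0) (four hn 1) * b) := by rw [hb, hw, hst σ f0 f1]
        _ = _ := by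
            congr 2
            conv_rhs => rw [← fk, ← fl, ← f0, ← f1]
            exact (wgt_map σ.1 σ.1.injective _ _ _ _ _).symm
    intro i j hij
    obtain ⟨π, h0, h1⟩ := exists_pair_map hn _ _ i j hne01 hij
    refine ⟨ρ π * d * (ρ π)⁻¹, fun k l hkl b => ?_⟩
    obtain ⟨τ, t0, t1⟩ := exists_pair_map hn _ _ k l hne01 hkl
    have hh := hgen (τ⁻¹ * π) _ _ ((τ⁻¹).1.injective.ne hij) (by simp [h0]) (by simp [h1]) b
    have eX : ∀ c, X k l c = ρ τ * x c * (ρ τ)⁻¹ := fun c => by rw [← t0, ← t1]; exact famX_eq hst τ c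
    calc ρ π * d * (ρ π)⁻¹ * X k l b * (ρ π * d * (ρ π)⁻¹)⁻¹
        = ρ τ * (ρ (τ⁻¹ * π) * d * (ρ (τ⁻¹ * π))⁻¹ * x b * (ρ (τ⁻¹ * π) * d * (ρ (τ⁻¹ * π))⁻¹)⁻¹) *
            (ρ τ)⁻¹ := by rw [eX, map_mul, map_inv]; group
      _ = _ := by
          rw [hh, eX]
          congr 3
          conv_rhs => rw [← wgt_map (τ⁻¹).1 (τ⁻¹).1.injective]
          have e0 : (τ⁻¹).1 k = four hn 0 := by simp [← t0]
          have e1 : (τ⁻¹).1 l = four hn 1 := by simp [← t1]
          rw [e0, e1]
  -- spreading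
  have fourth : ∀ i j k : Fin n, ∃ l, l ≠ i ∧ l ≠ j ∧ l ≠ k := by
    intro i j k
    have : (({i, j, k} : Finset (Fin n))ᶜ).Nonempty := by
      rw [← Finset.card_pos, Finset.card_compl, Fintype.card_fin]
      have := Finset.card_le_three (a := i) (b := j) (c := k)
      omega
    obtain ⟨l, hl⟩ := this
    exact ⟨l, by simpa using hl⟩
  have wA : ∀ {i j k l : Fin n}, i ≠ j → k ≠ i → k ≠ j → l ≠ i → l ≠ j → wgt i j ω k l = 1 := by
    intro i j k l _ h1 h2 h3 h4
    simp [wgt, h1, h2, h3, h4]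
  have commute_spread : ∀ {i j k l : Fin n}, i ≠ j → k ≠ l → i ≠ l → j ≠ k → (i = k → j ≠ l) → (j = l → i ≠ k) →
      Commute (X i j 1) (X k l 1) → ∀ a b, Commute (X i j a) (X k l b) := by
    intro i j k l hij hkl hil hjk c1 c2 h
    -- two tori, each moving one of the two families only
    obtain ⟨g1, g2, w, hw, a1, a2, b1, b2⟩ : ∃ (g1 g2 : G) (w : F),
        (∀ β : F, ∃ f : (ZMod p)[X], aeval w f = β) ∧
        Act g1 (X i j) w ∧ Act g1 (X k l) 1 ∧ Act g2 (X i j) 1 ∧ Act g2 (X k l) w := by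
      by_cases hik : i = k
      · subst hik
        have hjl := c1 rfl
        obtain ⟨m, m1, m2, m3⟩ := fourth i j l
        obtain ⟨t1, ht1⟩ := tor m j m2
        obtain ⟨t2, ht2⟩ := tor m l m3
        refine ⟨t1, t2, ω, hP.gen, ?_, ?_, ?_, ?_⟩
        · have := ht1 i j hij
          simpa [wgt, hij, m2.symm, m1.symm, m2] using this
        · have := ht1 i l hkl
          simpa [wgt, hij, hjl.symm, m1.symm, m3.symm, hjl] using this
        · have := ht2 i j hij
          simpa [wgt, hkl, hjl, m1.symm, m2.symm] using this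
        · have := ht2 i l hkl
          simpa [wgt, hkl, m1.symm, m3.symm, m3] using this
      by_cases hjl : j = l
      · subst hjl
        obtain ⟨m, m1, m2, m3⟩ := fourth i j k
        obtain ⟨t1, ht1⟩ := tor i m m1.symm
        obtain ⟨t2, ht2⟩ := tor k m m3.symm
        refine ⟨t1, t2, ω, hP.gen, ?_, ?_, ?_, ?_⟩
        · have := ht1 i j hij
          simpa [wgt, hij.symm, m2.symm, m1.symm] using this
        · have := ht1 k j hkl
          simpa [wgt, hij.symm, Ne.symm hik, m2.symm, m3.symm] using this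
        · have := ht2 i j hij
          simpa [wgt, hik, hkl.symm, m1.symm, m2.symm] using this
        · have := ht2 k j hkl
          simpa [wgt, hkl.symm, m2.symm, m3.symm] using this
      · obtain ⟨t1, ht1⟩ := tor i j hij
        obtain ⟨t2, ht2⟩ := tor k l hkl
        refine ⟨t1, t2, (ω : F) ^ 2, hP.gen2, ?_, ?_, ?_, ?_⟩
        · have := ht1 i j hij
          simpa [wgt, hij, hij.symm, sq] using this
        · have := ht1 k l hkl
          rwa [wA hij (Ne.symm hik) (Ne.symm hjk) (Ne.symm hil) (Ne.symm hjl)] at this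
        · have := ht2 i j hij
          rwa [wA hkl hik hil hjk hjl] at this
        · have := ht2 k l hkl
          simpa [wgt, hkl, hkl.symm, sq] using this
    refine spread (p := p) hw (fun a b => Commute (X i j a) (X k l b)) ?_ ?_ ?_ ?_ ?_ ?_ h
    · intro b; rw [hX0 hij]; exact Commute.one_left _
    · rw [hX0 hkl]; exact Commute.one_right _
    · intro b c hb hc; rw [hXadd hkl]; exact hb.mul_right hc
    · intro a c ha hc b; rw [hXadd hij]; exact (ha b).mul_left (hc b)
    · intro b hb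
      have := (Commute.conj_iff g2).2 hb
      rwa [b1, b2, one_mul] at this
    · intro a ha b
      have := (Commute.conj_iff g1).2 (ha b)
      rwa [a1, a2, one_mul] at this
  have getBase : ∀ {r : ℕ} (e f : Fin r → Fin n) (Q : (Fin r → Fin n) → Prop), Function.Injective e →
      Function.Injective f → (∀ (σ : alternatingGroup (Fin n)) h, Q h → Q (fun t => σ.1 (h t))) →
      Q e → Q (fun t => Equiv.swap (four hn 0) (four hn 1) (e t)) → Q f := by
    intro r e f Q he hf hσ h1 h2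
    obtain ⟨σ, hσ'⟩ := exists_even_map e f he hf (four hn 0) (four hn 1) hne01
    rcases hσ' with h | h
    · have := hσ σ e h1
      rwa [show (fun t => σ.1 (e t)) = f from funext h] at this
    · have := hσ σ _ h2
      rwa [show (fun t => σ.1 (Equiv.swap (four hn 0) (four hn 1) (e t))) = f from funext h] at this
  have n02 : four hn 0 ≠ four hn 2 := (four_inj hn).ne (by decide)
  have n12 : four hn 1 ≠ four hn 2 := (four_inj hn).ne (by decide)
  have n03 : four hn 0 ≠ four hn 3 := (four_inj hn).ne (by decide)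
  have n13 : four hn 1 ≠ four hn 3 := (four_inj hn).ne (by decide)
  have n23 : four hn 2 ≠ four hn 3 := (four_inj hn).ne (by decide)
  have conjP : ∀ g a b : G, g * (a * b) * g⁻¹ = (g * a * g⁻¹) * (g * b * g⁻¹) := fun g a b => by group
  have mk3 : ∀ {i j k : Fin n}, i ≠ j → i ≠ k → j ≠ k → Function.Injective ![i, j, k] := by
    intro i j k a b c x y
    fin_cases x <;> fin_cases y <;> simp [a, b, c, a.symm, b.symm, c.symm]
  have mk4 : ∀ {i j k l : Fin n}, i ≠ j → i ≠ k → i ≠ l → j ≠ k → j ≠ l → k ≠ l →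
      Function.Injective ![i, j, k, l] := by
    intro i j k l a b c d e f x y
    fin_cases x <;> fin_cases y <;> simp [a, b, c, d, e, f, a.symm, b.symm, c.symm, d.symm, e.symm, f.symm]
  have sw0 : Equiv.swap (four hn 0) (four hn 1) (four hn 0) = four hn 1 := Equiv.swap_apply_left _ _
  have sw1 : Equiv.swap (four hn 0) (four hn 1) (four hn 1) = four hn 0 := Equiv.swap_apply_right _ _
  have sw2 : Equiv.swap (four hn 0) (four hn 1) (four hn 2) = four hn 2 :=
    Equiv.swap_apply_of_ne_of_ne n02.symm n12.symm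
  have sw3 : Equiv.swap (four hn 0) (four hn 1) (four hn 3) = four hn 3 :=
    Equiv.swap_apply_of_ne_of_ne n03.symm n13.symm
  have row : ∀ {i j k : Fin n}, i ≠ j → i ≠ k → j ≠ k → ∀ a b, Commute (X i j a) (X i k b) := by
    intro i j k a b c
    refine commute_spread a b b a.symm (fun _ => c) (fun h => absurd h c) ?_
    refine (getBase ![four hn 0, four hn 1, four hn 2] ![i, j, k]
      (fun f => f 0 ≠ f 1 ∧ f 0 ≠ f 2 ∧ Commute (X (f 0) (f 1) 1) (X (f 0) (f 2) 1)) (mk3 hne01 n02 n12)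
      (mk3 a b c) (fun σ h hh => ?_) ⟨hne01, n02, hbase.row⟩ ?_).2.2
    · refine ⟨σ.1.injective.ne hh.1, σ.1.injective.ne hh.2.1, ?_⟩
      have := (Commute.conj_iff (ρ σ)).2 hh.2.2
      rwa [hXc σ hh.1, hXc σ hh.2.1] at this
    · simp only [Matrix.cons_val_zero, Matrix.cons_val_one, Matrix.cons_val, sw0, sw1, sw2]
      exact ⟨hne01.symm, n12, hbase'.row⟩
  have col : ∀ {i j k : Fin n}, i ≠ j → i ≠ k → j ≠ k → ∀ a b, Commute (X i j a) (X k j b) := by
    intro i j k a b c
    refine commute_spread a c.symm a c (fun h => absurd h b) (fun _ => b) ?_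
    refine (getBase ![four hn 0, four hn 1, four hn 2] ![i, j, k]
      (fun f => f 0 ≠ f 1 ∧ f 2 ≠ f 1 ∧ Commute (X (f 0) (f 1) 1) (X (f 2) (f 1) 1)) (mk3 hne01 n02 n12)
      (mk3 a b c) (fun σ h hh => ?_) ⟨hne01, n12.symm, hbase.col⟩ ?_).2.2
    · refine ⟨σ.1.injective.ne hh.1, σ.1.injective.ne hh.2.1, ?_⟩
      have := (Commute.conj_iff (ρ σ)).2 hh.2.2
      rwa [hXc σ hh.1, hXc σ hh.2.1] at this
    · simp only [Matrix.cons_val_zero, Matrix.cons_val_one, Matrix.cons_val, sw0, sw1, sw2]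
      exact ⟨hne01.symm, n02.symm, hbase'.col⟩
  have dis : ∀ {i j k l : Fin n}, i ≠ j → i ≠ k → i ≠ l → j ≠ k → j ≠ l → k ≠ l →
      ∀ a b, Commute (X i j a) (X k l b) := by
    intro i j k l a b c d e f
    refine commute_spread a f c d (fun _ => e) (fun _ => b) ?_
    refine (getBase ![four hn 0, four hn 1, four hn 2, four hn 3] ![i, j, k, l]
      (fun g => g 0 ≠ g 1 ∧ g 2 ≠ g 3 ∧ Commute (X (g 0) (g 1) 1) (X (g 2) (g 3) 1))
      (mk4 hne01 n02 n03 n12 n13 n23) (mk4 a b c d e f) (fun σ h hh => ?_) ⟨hne01, n23, hbase.dis⟩ ?_).2.2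
    · refine ⟨σ.1.injective.ne hh.1, σ.1.injective.ne hh.2.1, ?_⟩
      have := (Commute.conj_iff (ρ σ)).2 hh.2.2
      rwa [hXc σ hh.1, hXc σ hh.2.1] at this
    · simp only [Matrix.cons_val_zero, Matrix.cons_val_one, Matrix.cons_val, sw0, sw1, sw2, sw3]
      exact ⟨hne01.symm, n23, hbase'.dis⟩
  have conjC : ∀ g a b : G, g * (a * b * a⁻¹ * b⁻¹) * g⁻¹ =
      (g * a * g⁻¹) * (g * b * g⁻¹) * (g * a * g⁻¹)⁻¹ * (g * b * g⁻¹)⁻¹ := fun g a b => by group
  have prod : ∀ {i j k : Fin n}, i ≠ j → j ≠ k → i ≠ k → ∀ a b,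
      X i j a * X j k b * (X i j a)⁻¹ * (X j k b)⁻¹ = X i k (a * b) := by
    intro i j k hij hjk hik
    obtain ⟨m, m1, m2, m3⟩ := fourth i j k
    obtain ⟨t1, ht1⟩ := tor i m m1.symm
    obtain ⟨t2, ht2⟩ := tor j m m2.symm
    have a1 : Act t1 (X i j) (ω : F) := by
      have := ht1 i j hij
      simpa [wgt, hij.symm, m1.symm, m2.symm] using this
    have a2 : Act t1 (X j k) 1 := by
      have := ht1 j k hjk
      simpa [wgt, hij.symm, hik.symm, m2.symm, m3.symm] using this
    have a3 : Act t1 (X i k) (ω : F) := by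
      have := ht1 i k hik
      simpa [wgt, hik.symm, m1.symm, m3.symm] using this
    have b1 : Act (t1 * t2) (X i j) 1 := by
      have h1 : Act t2 (X i j) (ω : F)⁻¹ := by
        have := ht2 i j hij
        simpa [wgt, hij, m1.symm, m2.symm] using this
      have := a1.mul h1
      rwa [mul_inv_cancel₀ ω.ne_zero] at this
    have b2 : Act (t1 * t2) (X j k) (ω : F) := by
      have h1 : Act t2 (X j k) (ω : F) := by
        have := ht2 j k hjk
        simpa [wgt, hjk.symm, m2.symm, m3.symm] using this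
      have := a2.mul h1
      rwa [one_mul] at this
    have b3 : Act (t1 * t2) (X i k) (ω : F) := by
      have h1 : Act t2 (X i k) 1 := by
        have := ht2 i k hik
        simpa [wgt, hij, hjk.symm, m1.symm, m3.symm] using this
      have := a3.mul h1
      rwa [mul_one] at this
    have h11 : X i j 1 * X j k 1 * (X i j 1)⁻¹ * (X j k 1)⁻¹ = X i k 1 := by
      refine (getBase ![four hn 0, four hn 1, four hn 2] ![i, j, k]
        (fun f => f 0 ≠ f 1 ∧ f 1 ≠ f 2 ∧ f 0 ≠ f 2 ∧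
          X (f 0) (f 1) 1 * X (f 1) (f 2) 1 * (X (f 0) (f 1) 1)⁻¹ * (X (f 1) (f 2) 1)⁻¹ = X (f 0) (f 2) 1)
        (mk3 hne01 n02 n12) (mk3 hij hik hjk) (fun σ h hh => ?_) ⟨hne01, n12, n02, hbase.prod⟩ ?_).2.2.2
      · refine ⟨σ.1.injective.ne hh.1, σ.1.injective.ne hh.2.1, σ.1.injective.ne hh.2.2.1, ?_⟩
        have := congrArg (fun g => ρ σ * g * (ρ σ)⁻¹) hh.2.2.2
        simp only [conjC, hXc σ hh.1, hXc σ hh.2.1, hXc σ hh.2.2.1] at this
        exact this
      · simp only [Matrix.cons_val_zero, Matrix.cons_val_one, Matrix.cons_val, sw0, sw1, sw2]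
        exact ⟨hne01.symm, n02, n12, hbase'.prod⟩
    intro a b
    refine spread (p := p) hP.gen
      (fun a b => X i j a * X j k b * (X i j a)⁻¹ * (X j k b)⁻¹ = X i k (a * b)) ?_ ?_ ?_ ?_ ?_ ?_
      (by rw [one_mul]; exact h11) a b
    · intro b; simp [hX0 hij, hX0 hik]
    · simp [hX0 hjk, hX0 hik]
    · intro b c hb hc
      simp only [one_mul] at hb hc ⊢
      rw [hXadd hjk, hXadd hik]
      calc X i j 1 * (X j k b * X j k c) * (X i j 1)⁻¹ * (X j k b * X j k c)⁻¹
          = (X i j 1 * X j k b * (X i j 1)⁻¹ * (X j k b)⁻¹) *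
              (X j k b * (X i j 1 * X j k c * (X i j 1)⁻¹ * (X j k c)⁻¹) * (X j k b)⁻¹) := by group
        _ = _ := by rw [hb, hc, (col hjk (Ne.symm hij) (Ne.symm hik) b c).eq, mul_inv_cancel_right]
    · intro a c ha hc b
      rw [hXadd hij, add_mul, add_comm (a * b), hXadd hik]
      calc X i j a * X i j c * X j k b * (X i j a * X i j c)⁻¹ * (X j k b)⁻¹
          = X i j a * (X i j c * X j k b * (X i j c)⁻¹ * (X j k b)⁻¹) * (X i j a)⁻¹ *
              (X i j a * X j k b * (X i j a)⁻¹ * (X j k b)⁻¹) := by group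
        _ = _ := by rw [ha, hc, (row hij hik hjk a (c * b)).eq, mul_inv_cancel_right]
    · intro b hb
      have := congrArg (fun g => (t1 * t2) * g * (t1 * t2)⁻¹) hb
      simp only [conjC] at this
      rw [b1, b2, b3] at this
      simpa only [one_mul] using this
    · intro a ha b
      have := congrArg (fun g => t1 * g * t1⁻¹) (ha b)
      simp only [conjC] at this
      rw [a1, a2, a3, one_mul, ← mul_assoc] at this
      exact this
  refine ⟨hst, ⟨fun {i j} h a b => hXadd h a b, ?_, fun {i j k} a b c => prod a b c⟩⟩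
  intro i j k l hij hkl hil hjk a b
  by_cases hik : i = k
  · subst hik
    by_cases hjl : j = l
    · subst hjl; rw [← hXadd hij, ← hXadd hij, add_comm]
    · exact (row hij hkl hjl a b).eq
  by_cases hjl : j = l
  · subst hjl; exact (col hij hik hjk a b).eq
  exact (dis hij hik hil hjk hjl hkl a b).eq

end CfsgLib.Lie.BoundedPres
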