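import Cfsg.Agent.Lib.Lie.BoundedPres.SLRel
import Cfsg.Agent.Lib.Lie.ShortPres.SL3

/-!
# `SL_n(F)`, `n ≥ 4`: boundedly many relations
-/

set_option autoImplicit false

namespace CfsgLib.Lie.BoundedPres

open Polynomial CfsgLib.Lie.ShortPres CfsgLib.Char.SingleBond

variable {n : ℕ} {p : ℕ} {F : Type*} [Field F]

/-- an even permutation taking the first two points to given ones among the first four -/
noncomputable def sel (hn : 4 ≤ n) (k l : Fin 4) : alternatingGroup (Fin n) :=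
  if h : k ≠ l then (exists_pair_map hn _ _ _ _ (four01 hn) ((four_inj hn).ne h)).choose else 1

theorem sel_spec (hn : 4 ≤ n) {k l : Fin 4} (h : k ≠ l) :
    (sel hn k l).1 (four hn 0) = four hn k ∧ (sel hn k l).1 (four hn 1) = four hn l := by
  rw [sel, dif_pos h]
  exact (exists_pair_map hn _ _ _ _ (four01 hn) ((four_inj hn).ne h)).choose_spec

theorem famX_four {G : Type*} [Group G] (hn : 4 ≤ n) (ρ : alternatingGroup (Fin n) →* G) (x : F → G)
    {k l : Fin 4} (h : k ≠ l) (c : F) :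
    famX hn ρ x (four hn k) (four hn l) c = ρ (sel hn k l) * x c * (ρ (sel hn k l))⁻¹ := by
  rw [famX, dif_pos ((four_inj hn).ne h), sel, dif_pos h]

/-- the ordered pairs of distinct elements of `Fin 4` -/
def pairs : List (Fin 4 × Fin 4) :=
  [(0, 1), (0, 2), (0, 3), (1, 0), (1, 2), (1, 3), (2, 0), (2, 1), (2, 3), (3, 0), (3, 1), (3, 2)]

theorem mem_pairs : ∀ k l : Fin 4, (k, l) ∈ pairs ↔ k ≠ l := by decide

variable (P : BTwo.Prm p)

/-- the equations -/
noncomputable def eqs {G : Type*} [Group G] (ω : Fˣ) (hn : 4 ≤ n) (poly : F → (ZMod p)[X])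
    (W : alternatingGroup (Fin n) → G) (gens : Fin 6 → alternatingGroup (Fin n)) (u d : G) : List (G × G) :=
  [(u ^ p, 1), (u * conjPow u (d ^ P.m) 1, conjPow u (d ^ P.m) 1 * u),
    (if P.big then d ^ P.k * u * (d ^ P.k)⁻¹ else 1, if P.big then u * conjPow u (d ^ P.m) 1 else 1),
    (pw u (d ^ P.m) P.μ', 1), (d * u * d⁻¹, pw u (d ^ P.m) (poly ((ω : F) ^ 2)))] ++
  (List.ofFn fun i => (W (gens i) * u, u * W (gens i))) ++
  (List.ofFn fun i => (W (gens i) * d, d * W (gens i))) ++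
  (pairs.map fun x => (W (sel hn x.1 x.2) * d * (W (sel hn x.1 x.2))⁻¹ * d ^ P.m,
    d ^ P.m * (W (sel hn x.1 x.2) * d * (W (sel hn x.1 x.2))⁻¹))) ++
  (pairs.map fun x => (W (sel hn x.1 x.2) * d * (W (sel hn x.1 x.2))⁻¹ * u *
      (W (sel hn x.1 x.2) * d * (W (sel hn x.1 x.2))⁻¹)⁻¹,
    pw u (d ^ P.m) (poly (wgt (four hn x.1) (four hn x.2) ω (four hn 0) (four hn 1))))) ++
  ([(0, 1), (1, 0)] : List (Fin 4 × Fin 4)).flatMap fun q =>
    let X := fun k l => W (sel hn k l) * u * (W (sel hn k l))⁻¹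
    [(X q.1 q.2 * X q.1 2, X q.1 2 * X q.1 q.2), (X q.1 q.2 * X 2 q.2, X 2 q.2 * X q.1 q.2),
      (X q.1 q.2 * X 2 3, X 2 3 * X q.1 q.2),
      (X q.1 q.2 * X q.2 2 * (X q.1 q.2)⁻¹ * (X q.2 2)⁻¹, X q.1 2)]

theorem map_eqs {G H : Type*} [Group G] [Group H] (φ : G →* H) (ω : Fˣ) (hn : 4 ≤ n) (poly : F → (ZMod p)[X])
    (W : alternatingGroup (Fin n) → G) (gens : Fin 6 → alternatingGroup (Fin n)) (u d : G) :
    eqs P ω hn poly (fun σ => φ (W σ)) gens (φ u) (φ d) = (eqs P ω hn poly W gens u d).map (Prod.map φ φ) := by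
  cases hb : P.big <;>
    simp [eqs, hb, map_mul, map_inv, map_pow, map_pw, conjPow, Function.comp_def, List.ofFn_comp']

variable [Fintype F] [hp : Fact p.Prime] [Algebra (ZMod p) F] {P} {ω : Fˣ} {hn : 4 ≤ n}
  {poly : F → (ZMod p)[X]} {gens : Fin 6 → alternatingGroup (Fin n)}

/-- what the equations say -/
theorem rels_of_eqs (hgens : ∀ σ : alternatingGroup (Fin n), σ.1 (four hn 0) = four hn 0 →
      σ.1 (four hn 1) = four hn 1 → σ ∈ Subgroup.closure (Set.range gens))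
    {G : Type*} [Group G] (ρ : alternatingGroup (Fin n) →* G) (u d : G)
    (h : ∀ e ∈ eqs P ω hn poly (fun σ => ρ σ) gens u d, e.1 = e.2) :
    Rels P ω hn ρ gens poly u d ∧ ∀ x : F → G, x 1 = u →
      Base (famX hn ρ x) (four hn 0) (four hn 1) (four hn 2) (four hn 3) ∧
      Base (famX hn ρ x) (four hn 1) (four hn 0) (four hn 2) (four hn 3) := by
  simp only [eqs, List.forall_mem_append, List.forall_mem_cons, List.forall_mem_ofFn_iff, List.forall_mem_map,
    List.not_mem_nil, IsEmpty.forall_iff, implies_true, and_true, List.flatMap_cons, List.flatMap_nil,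
    List.append_nil] at h
  obtain ⟨⟨⟨⟨⟨⟨hup, hu1, hu2, hμ, hd⟩, hgu⟩, hgd⟩, htc⟩, htu⟩, ⟨b1, b2, b3, b4⟩, c1, c2, c3, c4⟩ := h
  refine ⟨⟨hup, hu1, fun hb => by simpa [hb] using hu2, hμ, hd, hgu, hgd, ?_⟩, fun x hx => ?_⟩
  · intro π hπ k l hkl
    obtain ⟨h0, h1⟩ := hπ k l hkl
    obtain ⟨s0, s1⟩ := sel_spec hn hkl
    have hs : Commute (ρ ((sel hn k l)⁻¹ * π k l)) d := by
      have hm := hgens ((sel hn k l)⁻¹ * π k l) (by simp [h0, ← s0]) (by simp [h1, ← s1])
      generalize (sel hn k l)⁻¹ * π k l = σ at hm ⊢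
      induction hm using Subgroup.closure_induction with
      | mem y hy => obtain ⟨i, rfl⟩ := hy; exact hgd i
      | one => rw [map_one]; exact Commute.one_left _
      | mul y z _ _ hy hz => rw [map_mul]; exact hy.mul_left hz
      | inv y _ hy => rw [map_inv]; exact hy.inv_left
    have e : ρ (π k l) * d * (ρ (π k l))⁻¹ = ρ (sel hn k l) * d * (ρ (sel hn k l))⁻¹ := by
      calc ρ (π k l) * d * (ρ (π k l))⁻¹
          = ρ (sel hn k l) * (ρ ((sel hn k l)⁻¹ * π k l) * d * (ρ ((sel hn k l)⁻¹ * π k l))⁻¹) *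
              (ρ (sel hn k l))⁻¹ := by simp only [map_mul, map_inv]; group
        _ = _ := by rw [hs.eq, mul_inv_cancel_right]
    rw [e]
    exact ⟨htc (k, l) ((mem_pairs k l).2 hkl), htu (k, l) ((mem_pairs k l).2 hkl)⟩
  · have e : ∀ k l : Fin 4, k ≠ l →
        famX hn ρ x (four hn k) (four hn l) 1 = ρ (sel hn k l) * u * (ρ (sel hn k l))⁻¹ := fun k l hkl => by
      rw [famX_four hn ρ x hkl, hx]
    refine ⟨⟨?_, ?_, ?_, ?_⟩, ⟨?_, ?_, ?_, ?_⟩⟩ <;>
      simp only [e _ _ (by decide : (0 : Fin 4) ≠ 1), e _ _ (by decide : (1 : Fin 4) ≠ 0),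
        e _ _ (by decide : (0 : Fin 4) ≠ 2), e _ _ (by decide : (1 : Fin 4) ≠ 2),
        e _ _ (by decide : (2 : Fin 4) ≠ 0), e _ _ (by decide : (2 : Fin 4) ≠ 1),
        e _ _ (by decide : (2 : Fin 4) ≠ 3)]
    exacts [b1, b2, b3, b4, c1, c2, c3, c4]

omit [Fintype F] in
/-- the equations hold in `SL_n(F)` -/
theorem eqs_matrix (hP : P.Ok (ω : F)) (hpoly : ∀ v, aeval (((ω : F) ^ P.m) ^ 2) (poly v) = v)
    (hgens : ∀ i, (gens i).1 (four hn 0) = four hn 0 ∧ (gens i).1 (four hn 1) = four hn 1) :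
    ∀ e ∈ eqs P ω hn poly (fun σ => pmat σ) gens (slX (four hn 0) (four hn 1) (1 : F))
      (hdiag (four hn 0) (four hn 1) ω), e.1 = e.2 := by
  haveI : CharP F p := (Algebra.charP_iff (ZMod p) F p).1 inferInstance
  have h01 := four01 hn
  set a := four hn 0 with ha
  set b := four hn 1 with hb
  set d := hdiag (F := F) a b ω with hd
  have R := stRel_slX (F := F) (n := n)
  have hadd : ∀ c c' : F, slX a b (c + c') = slX a b c * slX a b c' := R.add h01
  have hzero : slX a b (0 : F) = 1 := by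
    have := hadd 0 0
    rwa [add_zero, left_eq_mul] at this
  have hw : wgt a b ω a b = (ω : F) ^ 2 := by simp [wgt, h01, h01.symm, sq]
  have act : ∀ k : ℕ, Act (d ^ k) (slX a b) (((ω : F) ^ k) ^ 2) := by
    intro k
    induction k with
    | zero => intro c; simp
    | succ k ih =>
      intro c
      calc d ^ (k + 1) * slX a b c * (d ^ (k + 1))⁻¹
          = d ^ k * (d * slX a b c * d⁻¹) * (d ^ k)⁻¹ := by rw [pow_succ]; group
        _ = _ := by rw [hd, hdiag_conj a b ω h01, ← hd, ih, hw]; congr 1; ring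
  have pwe : ∀ f : (ZMod p)[X],
      pw (slX a b 1) (d ^ P.m) f = slX a b (aeval (((ω : F) ^ P.m) ^ 2) f) :=
    fun f => pw_eq_of_param (slX a b) hadd _ _ (act P.m) f
  have hpow : ∀ k : ℕ, slX a b (1 : F) ^ k = slX a b (k : F) := fun k => by
    induction k with
    | zero => rw [pow_zero, Nat.cast_zero, hzero]
    | succ k ih => rw [pow_succ, ih, ← hadd, Nat.cast_succ]
  have hc1 : conjPow (slX a b (1 : F)) (d ^ P.m) 1 = slX a b (((ω : F) ^ P.m) ^ 2) := by
    rw [conjPow, pow_one, act, mul_one]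
  have hT : ∀ {k l : Fin 4}, k ≠ l →
      pmat (sel hn k l) * d * (pmat (sel hn k l))⁻¹ = hdiag (F := F) (four hn k) (four hn l) ω := by
    intro k l h
    rw [hd, pmat_hdiag, (sel_spec hn h).1, (sel_spec hn h).2]
  have hX : ∀ {k l : Fin 4}, k ≠ l → pmat (sel hn k l) * slX a b (1 : F) * (pmat (sel hn k l))⁻¹ =
      slX (four hn k) (four hn l) 1 := by
    intro k l h
    rw [pmat_conj _ h01, (sel_spec hn h).1, (sel_spec hn h).2]
  simp only [eqs, List.forall_mem_append, List.forall_mem_cons, List.forall_mem_ofFn_iff, List.forall_mem_map,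
    List.not_mem_nil, IsEmpty.forall_iff, implies_true, and_true, List.flatMap_cons, List.flatMap_nil,
    List.append_nil]
  refine ⟨⟨⟨⟨⟨⟨?_, ?_, ?_, ?_, ?_⟩, fun i => ?_⟩, fun i => ?_⟩, fun x hx => ?_⟩, fun x hx => ?_⟩, ?_, ?_⟩
  · rw [hpow, CharP.cast_eq_zero F p, hzero]
  · rw [hc1, ← hadd, ← hadd, add_comm]
  · by_cases hbg : P.big = true
    · rw [if_pos hbg, if_pos hbg, act, hc1, ← hadd, mul_one, hP.hk hbg]
    · rw [if_neg hbg, if_neg hbg]
  · rw [pwe, hP.hμ', minpoly.aeval, hzero]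
  · rw [pwe, hpoly, hd, hdiag_conj a b ω h01, hw, mul_one]
  · rw [← mul_inv_eq_iff_eq_mul, pmat_conj _ h01, (hgens i).1, (hgens i).2]
  · rw [← mul_inv_eq_iff_eq_mul, hd, pmat_hdiag, (hgens i).1, (hgens i).2]
  · obtain ⟨k, l⟩ := x
    rw [hT ((mem_pairs k l).1 hx)]
    exact ((hdiag_commute _ _ a b ω ω).pow_right P.m).eq
  · obtain ⟨k, l⟩ := x
    rw [hT ((mem_pairs k l).1 hx), pwe, hpoly, hdiag_conj _ _ ω h01, mul_one]
  all_goals
    have n02 : four hn 0 ≠ four hn 2 := (four_inj hn).ne (by decide)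
    have n12 : four hn 1 ≠ four hn 2 := (four_inj hn).ne (by decide)
    have n03 : four hn 0 ≠ four hn 3 := (four_inj hn).ne (by decide)
    have n13 : four hn 1 ≠ four hn 3 := (four_inj hn).ne (by decide)
    have n23 : four hn 2 ≠ four hn 3 := (four_inj hn).ne (by decide)
    simp only [hX (by decide : (0 : Fin 4) ≠ 1), hX (by decide : (1 : Fin 4) ≠ 0),
      hX (by decide : (0 : Fin 4) ≠ 2), hX (by decide : (1 : Fin 4) ≠ 2),
      hX (by decide : (2 : Fin 4) ≠ 0), hX (by decide : (2 : Fin 4) ≠ 1),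
      hX (by decide : (2 : Fin 4) ≠ 3)]
  · exact ⟨R.comm h01 n02 n02 h01.symm 1 1, R.comm h01 n12.symm h01 n12 1 1, R.comm h01 n23 n03 n12 1 1,
      by rw [R.prod h01 n12 n02 1 1, one_mul]⟩
  · exact ⟨R.comm h01.symm n12 n12 h01 1 1, R.comm h01.symm n02.symm h01.symm n02 1 1,
      R.comm h01.symm n23 n13 n02 1 1, by rw [R.prod h01.symm n02 n12 1 1, one_mul]⟩

omit [Algebra (ZMod p) F] hp [Fintype F] in
theorem sys_sl [Finite F] (hn : 4 ≤ n) : HasSys (Matrix.SpecialLinearGroup (Fin n) F) 8 65 := by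
  classical
  haveI := Fintype.ofFinite F
  obtain ⟨q, hchar⟩ := CharP.exists F
  haveI hq : Fact q.Prime := ⟨CharP.char_is_prime F q⟩
  obtain ⟨N, -, hN⟩ := FiniteField.card F q
  letI : Algebra (ZMod q) F := ZMod.algebra F q
  obtain ⟨P, ω₀, hP⟩ := BTwo.exists_prm (F := F) hN
  obtain ⟨ω, rfl⟩ : ∃ ω : Fˣ, (ω : F) = ω₀ := ⟨Units.mk0 ω₀ hP.ne_zero, rfl⟩
  choose poly hpoly using hP.genm
  obtain ⟨gens, hfix, hgens⟩ := exists_stab_gens (four hn 0) (four hn 1)
  obtain ⟨ι, hι, gA, RA, VA, hk, hr, hval, hcov, hhom⟩ := sys_alt_fin n (by omega)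
  choose wA hwA hwA' using hcov
  let incl : FreeGroup ι →* FreeGroup (ι ⊕ Fin 2) := FreeGroup.map Sum.inl
  let U : FreeGroup (ι ⊕ Fin 2) := FreeGroup.of (Sum.inr 0)
  let D : FreeGroup (ι ⊕ Fin 2) := FreeGroup.of (Sum.inr 1)
  let g : ι ⊕ Fin 2 → Matrix.SpecialLinearGroup (Fin n) F :=
    Sum.elim (fun i => pmat (gA i)) ![slX (four hn 0) (four hn 1) 1, hdiag (four hn 0) (four hn 1) ω]
  let R : List (FreeGroup (ι ⊕ Fin 2)) :=
    RA.map incl ++ (eqs P ω hn poly (fun σ => incl (wA σ)) gens U D).map fun e => e.1 * e.2⁻¹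
  let A : Set (FreeGroup (ι ⊕ Fin 2)) :=
    {v | ∃ w ∈ VA, ∃ i : ℕ, v = incl w * (D ^ i * U * (D ^ i)⁻¹) * (incl w)⁻¹}
  have hincl : ∀ v, FreeGroup.lift g (incl v) = pmat (FreeGroup.lift gA v) := fun v => by
    rw [← lift_comp_hom]
    exact DFunLike.congr_fun (FreeGroup.ext_hom ((FreeGroup.lift g).comp incl)
      (FreeGroup.lift fun i => pmat (gA i)) fun i => by simp [incl, g]) v
  have hU : FreeGroup.lift g U = slX (four hn 0) (four hn 1) 1 := FreeGroup.lift_apply_of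
  have hD : FreeGroup.lift g D = hdiag (four hn 0) (four hn 1) ω := FreeGroup.lift_apply_of
  have hgen2 := hP.gen2
  have h01 := four01 hn
  have hw : wgt (four hn 0) (four hn 1) ω (four hn 0) (four hn 1) = (ω : F) ^ 2 := by
    simp [wgt, h01, h01.symm, sq]
  have actS : ∀ i : ℕ, FreeGroup.lift g (D ^ i * U * (D ^ i)⁻¹) =
      slX (four hn 0) (four hn 1) (((ω : F) ^ 2) ^ i) := by
    intro i
    induction i with
    | zero => simp [hU]
    | succ i ih =>
      rw [pow_succ' D, show D * D ^ i * U * (D * D ^ i)⁻¹ = D * (D ^ i * U * (D ^ i)⁻¹) * D⁻¹ by group,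
        map_mul, map_mul, map_inv, ih, hD, hdiag_conj _ _ ω h01, hw, ← pow_succ']
  refine ⟨ι ⊕ Fin 2, inferInstance, g, R, Subgroup.closure A, ?_, ?_, ?_, ?_, ?_⟩
  · simp only [Fintype.card_sum, Fintype.card_fin]; omega
  · simp [R, eqs, pairs]; omega
  · intro w hw
    simp only [R, List.mem_append, List.mem_map] at hw
    rcases hw with ⟨v, hv, rfl⟩ | ⟨e, he, rfl⟩
    · rw [hincl, hval v hv, map_one]
    · rw [map_mul, map_inv, mul_inv_eq_one]
      have key := eqs_matrix (hn := hn) hP hpoly hfix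
      have e1 : (fun σ => FreeGroup.lift g (incl (wA σ))) = fun σ => pmat (F := F) σ :=
        funext fun σ => by rw [hincl, hwA']
      rw [← hU, ← hD, ← e1, map_eqs P (FreeGroup.lift g)] at key
      exact key _ (List.mem_map_of_mem he)
  · refine cover_closure g A (CfsgLib.Classical.sl_eq_top _ fun i j hij c => ?_)
    obtain ⟨σ, rfl, rfl⟩ := exists_pair_map hn _ _ i j h01 hij
    set H := Subgroup.closure (FreeGroup.lift g '' A)
    suffices ∀ c t, slX (σ.1 (four hn 0)) (σ.1 (four hn 1)) (((ω : F) ^ 2) ^ t * c) ∈ H by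
      have := this c 0
      rwa [pow_zero, one_mul, slX_eq hij] at this
    intro c
    have hadd := (stRel_slX (F := F) (n := n)).add hij
    refine forall_of_generated (p := q) ((ω : F) ^ 2) hgen2
      (fun c => ∀ t : ℕ, slX (σ.1 (four hn 0)) (σ.1 (four hn 1)) (((ω : F) ^ 2) ^ t * c) ∈ H) ?_ ?_ ?_ ?_ c
    · intro t
      have := hadd 0 0
      rw [add_zero, left_eq_mul] at this
      rw [mul_zero, this]
      exact one_mem _
    · intro t
      refine Subgroup.subset_closure ⟨_, ⟨wA σ, hwA σ, t, rfl⟩, ?_⟩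
      rw [map_mul, map_mul, map_inv, hincl, hwA', actS, pmat_conj _ h01, mul_one]
    · intro b c hb hc t
      rw [mul_add, hadd]
      exact mul_mem (hb t) (hc t)
    · intro b hb t
      rw [← mul_assoc, ← pow_succ]
      exact hb (t + 1)
  · intro G _ g' hg'
    obtain ⟨ρ, hρ⟩ := hhom G (fun i => g' (Sum.inl i)) fun w hw => by
      have := hg' (incl w) (List.mem_append_left _ (List.mem_map_of_mem hw))
      rwa [show FreeGroup.lift g' (incl w) = FreeGroup.lift (fun i => g' (Sum.inl i)) w from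
        DFunLike.congr_fun (FreeGroup.ext_hom ((FreeGroup.lift g').comp incl)
          (FreeGroup.lift fun i => g' (Sum.inl i)) fun i => by simp [incl]) w] at this
    have hW : ∀ v ∈ VA, FreeGroup.lift g' (incl v) = ρ (FreeGroup.lift gA v) := fun v hv => by
      rw [hρ v hv]
      exact DFunLike.congr_fun (FreeGroup.ext_hom ((FreeGroup.lift g').comp incl)
        (FreeGroup.lift fun i => g' (Sum.inl i)) fun i => by simp [incl]) v
    set u := FreeGroup.lift g' U with hu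
    set d := FreeGroup.lift g' D with hd
    have e1 : (fun σ => FreeGroup.lift g' (incl (wA σ))) = fun σ => ρ σ :=
      funext fun σ => by rw [hW _ (hwA σ), hwA']
    have heqs : ∀ e ∈ eqs P ω hn poly (fun σ => ρ σ) gens u d, e.1 = e.2 := by
      rw [← e1, hu, hd, map_eqs P (FreeGroup.lift g'), List.forall_mem_map]
      intro e he
      have := hg' (e.1 * e.2⁻¹) (List.mem_append_right _ (List.mem_map_of_mem he))
      rwa [map_mul, map_inv, mul_inv_eq_one] at this
    obtain ⟨hR, hB⟩ := rels_of_eqs hgens ρ u d heqs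
    have hint : ∀ a : F, IsIntegral (ZMod q) a := fun a => Algebra.IsIntegral.isIntegral a
    have hc : ∀ i j, Commute (conjPow u (d ^ P.m) i) (conjPow u (d ^ P.m) j) := by
      cases hb : P.big with
      | true =>
        exact commute_conjPow (Commute.pow_pow (Commute.refl d) P.m P.k) hR.hu1 (hR.hu2 hb)
      | false =>
        exact commute_conjPow_of_small hR.hu1 (hP.hμ' ▸ minpoly.monic (hint _))
          (hP.hμ' ▸ minpoly.natDegree_pos (hint _)) (hP.small hb).2 hR.hμ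
    obtain ⟨x, hxadd, hx1, hxd, hxpw⟩ := exists_param hR.hup hc (((ω : F) ^ P.m) ^ 2) hP.genm
      (hP.hμ' ▸ hR.hμ)
    obtain ⟨hst, hS⟩ := stRel_of_rels hP hn ρ gens hgens poly hpoly hR x hxadd hx1 hxd hxpw
      (hB x hx1).1 (hB x hx1).2
    have adx : Act d x ((ω : F) ^ 2) := fun b => (param_equivariant ((Commute.refl d).pow_left P.m) x hxadd _ _
      hP.genm hxd (by rw [hx1, hR.hd, hxpw, hpoly]) b).symm
    obtain ⟨φ, hφ⟩ := hS.exists_hom (by omega)
    refine ⟨φ, agree_closure φ g g' A ?_⟩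
    rintro v ⟨w, hw', i, rfl⟩
    have ei : FreeGroup.lift g' (D ^ i * U * (D ^ i)⁻¹) = x (((ω : F) ^ 2) ^ i) := by
      induction i with
      | zero => simp [← hu, hx1]
      | succ i ih =>
        rw [pow_succ' D, show D * D ^ i * U * (D * D ^ i)⁻¹ = D * (D ^ i * U * (D ^ i)⁻¹) * D⁻¹ by group,
          map_mul, map_mul, map_inv, ih, ← hd, adx, ← pow_succ']
    rw [map_mul (FreeGroup.lift g), map_mul (FreeGroup.lift g), map_inv (FreeGroup.lift g), hincl, actS,
      pmat_conj _ h01, slX_eq ((_root_.Subtype.val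
      (FreeGroup.lift gA w)).injective.ne h01), hφ, map_mul (FreeGroup.lift g'), map_mul (FreeGroup.lift g'),
      map_inv, ei, hW w hw', famX_eq hst]

end CfsgLib.Lie.BoundedPres
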