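import Cfsg.Agent.Lib.Lie.BoundedPres.SpTwo

/-!
# Copies of `Sp₄(F)` on all couples of pairs, consistent on intersections, give `Sp_{2n}(F)`
-/

set_option autoImplicit false

namespace CfsgLib.Lie.BoundedPres

open Matrix CfsgLib.Sp CfsgLib.Char.SpAmalgam

attribute [-simp] Matrix.mulVec_single_one Matrix.mulVec_single

variable {F : Type*} [Field F] {n : ℕ} {Γ : Type*} [Group Γ]

/-- commuting subgroups with agreeing intersections -/
theorem injOn_sup_commute {H : Type*} [Group H] (π : Γ →* H) (A B : Subgroup Γ)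
    (hc : ∀ a ∈ A, ∀ b ∈ B, Commute a b) (hA : Set.InjOn π A) (hB : Set.InjOn π B)
    (he : ∀ a ∈ A, ∀ b ∈ B, π a = π b → a = b) : Set.InjOn π ↑(A ⊔ B) := by
  have hform : ∀ x ∈ A ⊔ B, ∃ a ∈ A, ∃ b ∈ B, x = a * b := by
    intro x hx
    rw [← Subgroup.closure_eq A, ← Subgroup.closure_eq B, ← Subgroup.closure_union] at hx
    induction hx using Subgroup.closure_induction with
    | mem y hy =>
      rcases hy with hy | hy
      · exact ⟨y, hy, 1, B.one_mem, (mul_one y).symm⟩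
      · exact ⟨1, A.one_mem, y, hy, (one_mul y).symm⟩
    | one => exact ⟨1, A.one_mem, 1, B.one_mem, (mul_one 1).symm⟩
    | mul y z _ _ hy hz =>
      obtain ⟨a, ha, b, hb, rfl⟩ := hy
      obtain ⟨a', ha', b', hb', rfl⟩ := hz
      refine ⟨a * a', A.mul_mem ha ha', b * b', B.mul_mem hb hb', ?_⟩
      rw [mul_assoc a b, ← mul_assoc b a', ← (hc a' ha' b hb).eq]
      group
    | inv y _ hy =>
      obtain ⟨a, ha, b, hb, rfl⟩ := hy
      exact ⟨a⁻¹, A.inv_mem ha, b⁻¹, B.inv_mem hb, by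
        rw [_root_.mul_inv_rev, ((hc a ha b hb).inv_inv).eq]⟩
  intro x hx y hy hxy
  obtain ⟨a, ha, b, hb, rfl⟩ := hform x hx
  obtain ⟨a', ha', b', hb', rfl⟩ := hform y hy
  have h : π (a'⁻¹ * a) = π (b' * b⁻¹) := by
    simp only [map_mul, map_inv] at hxy ⊢
    rw [eq_mul_inv_iff_mul_eq, mul_assoc, hxy, inv_mul_cancel_left]
  have e := he _ (A.mul_mem (A.inv_mem ha') ha) _ (B.mul_mem hb' (B.inv_mem hb)) h
  calc a * b = a' * (a'⁻¹ * a) * b := by group
    _ = a' * b' := by rw [e]; group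

/-- consistent copies of `Sp₄(F)` -/
structure SpFam (π : Γ →* Spg n F) (Ψ : Fin n → Fin n → (Spg 2 F →* Γ)) : Prop where
  hπ : ∀ a b, a ≠ b → ∀ A, π (Ψ a b A) = ext2 a b A
  flip : ∀ a b, a ≠ b → ∀ A, Ψ b a A = Ψ a b (flip2 A)
  share : ∀ a b c, a ≠ b → a ≠ c → ∀ A, InS 0 A → Ψ a b A = Ψ a c A
  comS : ∀ a b c, a ≠ b → c ≠ a → c ≠ b → ∀ A B, InM 0 A → InS 0 B → Commute (Ψ a b A) (Ψ c a B)
  comM : ∀ a b c d, a ≠ b → c ≠ d → ∀ A B, InM 0 A → InM 0 B → Commute (Ψ a b A) (Ψ c d B)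
  tri : ∀ a b c, a ≠ b → a ≠ c → b ≠ c →
    Ψ a b X2 * Ψ a c X2 = Ψ b c L2 * Ψ a b X2 * (Ψ b c L2)⁻¹

variable {π : Γ →* Spg n F} {Ψ : Fin n → Fin n → (Spg 2 F →* Γ)}

theorem ext2_fix_inS {a b : Fin n} (hab : a ≠ b) {A : Spg 2 F}
    (h : (ext2 a b A).1 *ᵥ lv b = lv b ∧ (ext2 a b A).1 *ᵥ rv b = rv b) : InS 0 A := by
  intro k hk
  obtain rfl : k = 1 := by omega
  constructor
  · have := congrArg (pull a b) h.1
    rwa [show (lv b : Vs n F) = push a b (lv 1) from (push_lv a b 1).symm, ext2_push hab, pull_push hab,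
      pull_push hab] at this
  · have := congrArg (pull a b) h.2
    rwa [show (rv b : Vs n F) = push a b (rv 1) from (push_rv a b 1).symm, ext2_push hab, pull_push hab,
      pull_push hab] at this

theorem ext2_inS {a b : Fin n} (hab : a ≠ b) {A : Spg 2 F} (hA : InS 0 A) : InS a (ext2 a b A) := by
  intro k hk
  by_cases hkb : k = b
  · subst hkb
    rw [show (lv k : Vs n F) = push a k (lv 1) from (push_lv a k 1).symm,
      show (rv k : Vs n F) = push a k (rv 1) from (push_rv a k 1).symm, ext2_push hab, ext2_push hab,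
      (hA 1 (by decide)).1, (hA 1 (by decide)).2]
    exact ⟨rfl, rfl⟩
  · exact ext2_fix hab A hk hkb

/-- the subgroup of the first `SL₂` -/
def sub2S : Subgroup (Spg 2 F) where
  carrier := {A | InS 0 A}
  mul_mem' ha hb := ha.mul hb
  one_mem' := InS.one 0
  inv_mem' ha := ha.inv

/-- the symmetric unipotent subgroup -/
def sub2M : Subgroup (Spg 2 F) where
  carrier := {A | InM 0 A}
  mul_mem' ha hb := ha.mul hb
  one_mem' := ⟨fun _ => sp_one_mulVec _, fun _ _ _ => sp_one_mulVec _⟩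
  inv_mem' ha := ha.inv

/-- a pair different from a given one -/
def oth (hn : 2 ≤ n) (j : Fin n) : Fin n :=
  if j.val = 0 then ⟨1, by omega⟩ else ⟨0, by omega⟩

theorem ne_oth (hn : 2 ≤ n) (j : Fin n) : j ≠ oth hn j := by
  unfold oth
  split_ifs with h <;> simp [Fin.ext_iff, h]

/-- the long root `SL₂` on the pair `j` -/
noncomputable def famS (hn : 2 ≤ n) (Ψ : Fin n → Fin n → (Spg 2 F →* Γ)) (j : Fin n) : Subgroup Γ :=
  sub2S.map (Ψ j (oth hn j))

/-- the unipotent groups on neighbouring pairs -/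
noncomputable def famM (Ψ : Fin n → Fin n → (Spg 2 F →* Γ)) (i : ℕ) : Subgroup Γ :=
  if h : i + 1 < n then sub2M.map (Ψ ⟨i, by omega⟩ ⟨i + 1, h⟩) else ⊥

/-- the group they generate -/
noncomputable def famK (hn : 2 ≤ n) (Ψ : Fin n → Fin n → (Spg 2 F →* Γ)) : Subgroup Γ :=
  Subgroup.closure {x | (∃ j, x ∈ famS hn Ψ j) ∨ ∃ i, i + 1 < n ∧ x ∈ famM Ψ i}

namespace SpFam

variable (R : SpFam π Ψ)
include R

theorem injective {a b : Fin n} (hab : a ≠ b) : Function.Injective (fun A => π (Ψ a b A)) :=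
  fun A B e => ext2_injective hab (by simpa only [R.hπ a b hab] using e)

theorem injOn_range {a b : Fin n} (hab : a ≠ b) : Set.InjOn π ↑(Ψ a b).range := by
  rintro _ ⟨A, rfl⟩ _ ⟨B, rfl⟩ e
  rw [R.injective hab e]

/-- equal images come from equal elements -/
theorem pi_eq {a b c d : Fin n} (hab : a ≠ b) (hcd : c ≠ d) {A B : Spg 2 F}
    (e : π (Ψ a b A) = π (Ψ c d B)) : Ψ a b A = Ψ c d B := by
  have one : ∀ (a b d : Fin n), a ≠ b → a ≠ d → ∀ A B, π (Ψ a b A) = π (Ψ a d B) → Ψ a b A = Ψ a d B := by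
    intro a b d hab had A B e
    by_cases hbd : b = d
    · subst hbd; rw [R.injective hab e]
    rw [R.hπ a b hab, R.hπ a d had] at e
    have hA : InS 0 A := ext2_fix_inS hab (by rw [e]; exact ext2_fix had B hab.symm hbd)
    have hB : InS 0 B := ext2_fix_inS had (by rw [← e]; exact ext2_fix hab A had.symm (Ne.symm hbd))
    have e' := R.share a b d hab had A hA
    rw [e']
    congr 1
    refine ext2_injective had ?_
    rw [← R.hπ a d had, ← e', R.hπ a b hab, e]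
  by_cases hac : a = c
  · subst hac; exact one a b d hab hcd A B e
  by_cases had : a = d
  · subst had
    rw [← flip2_flip2 B, ← R.flip c a hcd] at e ⊢
    exact one a b c hab hcd.symm A _ e
  by_cases hbc : b = c
  · subst hbc
    rw [← flip2_flip2 A, ← R.flip a b hab] at e ⊢
    exact one b a d hab.symm hcd _ B e
  by_cases hbd : b = d
  · subst hbd
    rw [← flip2_flip2 A, ← R.flip a b hab, ← flip2_flip2 B, ← R.flip c b hcd] at e ⊢
    exact one b a c hab.symm hcd.symm _ _ e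
  rw [R.hπ a b hab, R.hπ c d hcd] at e
  have hX : ext2 a b A = (1 : Spg n F) := by
    refine sp_ext_basis fun j => ?_
    rw [sp_one_mulVec, sp_one_mulVec]
    by_cases hja : j = a
    · subst hja; rw [e]; exact ext2_fix hcd B hac had
    by_cases hjb : j = b
    · subst hjb; rw [e]; exact ext2_fix hcd B hbc hbd
    exact ext2_fix hab A hja hjb
  have hA : A = 1 := ext2_injective hab (by rw [hX, map_one])
  have hB : B = 1 := ext2_injective hcd (by rw [← e, hX, map_one])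
  rw [hA, hB, map_one, map_one]

theorem mem_famS (hn : 2 ≤ n) {j k : Fin n} (hjk : j ≠ k) {A : Spg 2 F} (hA : InS 0 A) :
    Ψ j k A ∈ famS hn Ψ j :=
  ⟨A, hA, R.share j _ k (ne_oth hn j) hjk A hA⟩

theorem mem_famS' (hn : 2 ≤ n) {j k : Fin n} (hjk : j ≠ k) {A : Spg 2 F} (hA : InS 0 (flip2 A)) :
    Ψ k j A ∈ famS hn Ψ j := by
  rw [R.flip j k hjk]
  exact R.mem_famS hn hjk hA

theorem famS_le_range (hn : 2 ≤ n) {j k : Fin n} (hjk : j ≠ k) : famS hn Ψ j ≤ (Ψ j k).range := by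
  rintro _ ⟨A, hA, rfl⟩
  exact ⟨A, (R.share j _ k (ne_oth hn j) hjk A hA).symm⟩

theorem range_flip {a b : Fin n} (hab : a ≠ b) : (Ψ b a).range ≤ (Ψ a b).range := by
  rintro _ ⟨A, rfl⟩
  exact ⟨flip2 A, (R.flip a b hab A).symm⟩

theorem range_le_of_mem {a b : Fin n} (hab : a ≠ b) (G : Subgroup Γ)
    (hS : ∀ A, InS 0 A → Ψ a b A ∈ G ∧ Ψ b a A ∈ G) (hX : Ψ a b X2 ∈ G) : (Ψ a b).range ≤ G := by
  rw [MonoidHom.range_eq_map, ← closure_two, MonoidHom.map_closure, Subgroup.closure_le]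
  rintro _ ⟨A, (hA | hA) | rfl, rfl⟩
  · exact (hS A hA).1
  · rw [← flip2_flip2 A, ← R.flip a b hab]
    exact (hS _ hA).2
  · exact hX

theorem range_le_join (hn : 2 ≤ n) {i : ℕ} (hi : i + 1 < n) :
    (Ψ ⟨i, by omega⟩ ⟨i + 1, hi⟩).range ≤
      famS hn Ψ ⟨i, by omega⟩ ⊔ famM Ψ i ⊔ famS hn Ψ ⟨i + 1, hi⟩ := by
  have hne : (⟨i, by omega⟩ : Fin n) ≠ ⟨i + 1, hi⟩ := by simp [Fin.ext_iff]
  refine R.range_le_of_mem hne _ (fun A hA => ⟨?_, ?_⟩) ?_
  · exact Subgroup.mem_sup_left (Subgroup.mem_sup_left (R.mem_famS hn hne hA))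
  · exact Subgroup.mem_sup_right (R.mem_famS hn hne.symm hA)
  · refine Subgroup.mem_sup_left (Subgroup.mem_sup_right ?_)
    rw [famM, dif_pos hi]
    exact ⟨X2, inM_X2, rfl⟩

/-- the elements conjugate under `L` -/
theorem L_commute {a b c : Fin n} (hab : a ≠ b) (hac : a ≠ c) (hbc : b ≠ c) :
    Commute (Ψ b c L2) (Ψ a c X2) := by
  have e : Ψ b c L2 = Ψ b c W2 * Ψ b c (kv (lv 0) (lv 1) (-1)) * (Ψ b c W2)⁻¹ := by
    rw [← map_mul, ← map_inv, ← map_mul, L2]
  have h1 : Commute (Ψ a c X2) (Ψ b a W2) := R.comS a c b hac hab.symm hbc X2 W2 inM_X2 inS_W2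
  rw [R.share b a c hab.symm hbc W2 inS_W2] at h1
  have h2 : Commute (Ψ a c X2) (Ψ b c (kv (lv 0) (lv 1) (-1))) :=
    R.comM a c b c hac hbc _ _ inM_X2 (inM_kv _)
  rw [e]
  exact ((h1.mul_right h2).mul_right h1.inv_right).symm

/-- transport along three pairs -/
theorem conj_A2 {a b c : Fin n} (hab : a ≠ b) (hac : a ≠ c) (hbc : b ≠ c) :
    Ψ b c A2 * Ψ a b X2 * (Ψ b c A2)⁻¹ = Ψ a c X2 := by
  set x := Ψ a b X2
  set y := Ψ a c X2
  set p := Ψ b c L2
  set q := Ψ c b L2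
  have hA : Ψ b c A2 = p * q⁻¹ * p := by
    rw [A2, map_mul, map_mul, map_inv, ← R.flip b c hbc]
  have t1 : x * y = p * x * p⁻¹ := R.tri a b c hab hac hbc
  have t2 : y * x = q * y * q⁻¹ := R.tri a c b hac hab hbc.symm
  have cxy : Commute x y := R.comM a b a c hab hac _ _ inM_X2 inM_X2
  have cpy : Commute p y := R.L_commute hab hac hbc
  have cqx : Commute q x := R.L_commute hac hab hbc.symm
  have e1 : q⁻¹ * y * q = y * x⁻¹ := by
    have h : q⁻¹ * y * q * x = y := by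
      calc q⁻¹ * y * q * x = q⁻¹ * y * (q * x) := by group
        _ = q⁻¹ * (y * x) * q := by rw [cqx.eq]; group
        _ = y := by rw [t2]; group
    exact eq_mul_inv_of_mul_eq h
  rw [hA]
  calc p * q⁻¹ * p * x * (p * q⁻¹ * p)⁻¹ = p * (q⁻¹ * (p * x * p⁻¹) * q) * p⁻¹ := by group
    _ = p * ((q⁻¹ * x * q) * (q⁻¹ * y * q)) * p⁻¹ := by rw [← t1]; group
    _ = p * (x * (y * x⁻¹)) * p⁻¹ := by rw [e1, cqx.inv_mul_cancel]
    _ = p * y * p⁻¹ := by rw [← mul_assoc x, cxy.eq, mul_inv_cancel_right]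
    _ = y := by rw [cpy.eq, mul_inv_cancel_right]

theorem range_le_famK (hn : 2 ≤ n) {a b : Fin n} (hab : a ≠ b) : (Ψ a b).range ≤ famK hn Ψ := by
  have hS : ∀ j, famS hn Ψ j ≤ famK hn Ψ := fun j x hx => Subgroup.subset_closure (Or.inl ⟨j, hx⟩)
  have hM : ∀ i, i + 1 < n → famM Ψ i ≤ famK hn Ψ := fun i hi x hx =>
    Subgroup.subset_closure (Or.inr ⟨i, hi, hx⟩)
  have key : ∀ (d : ℕ) (a b : Fin n), b.val = a.val + d + 1 → (Ψ a b).range ≤ famK hn Ψ := by
    intro d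
    induction d with
    | zero =>
      intro a b h
      have hb := b.isLt
      have := R.range_le_join hn (i := a.val) (by omega)
      rw [show (⟨a.val + 1, by omega⟩ : Fin n) = b from Fin.ext (by simp [h]),
        show (⟨a.val, by omega⟩ : Fin n) = a from rfl] at this
      exact this.trans (sup_le (sup_le (hS _) (hM _ (by omega))) (hS _))
    | succ d ih =>
      intro a c h
      have hc := c.isLt
      let b : Fin n := ⟨a.val + 1, by omega⟩
      have hab : a ≠ b := by simp [b, Fin.ext_iff]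
      have hac : a ≠ c := by simp [Fin.ext_iff]; omega
      have hbc : b ≠ c := by simp [b, Fin.ext_iff]; omega
      have h1 : (Ψ a b).range ≤ famK hn Ψ := by
        have := R.range_le_join hn (i := a.val) (by omega)
        exact this.trans (sup_le (sup_le (hS _) (hM _ (by omega))) (hS _))
      have h2 : (Ψ b c).range ≤ famK hn Ψ := ih b c (by simp [b]; omega)
      refine R.range_le_of_mem hac _ (fun A hA => ⟨hS _ (R.mem_famS hn hac hA), hS _ (R.mem_famS hn hac.symm hA)⟩) ?_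
      rw [← R.conj_A2 hab hac hbc]
      exact mul_mem (mul_mem (h2 ⟨_, rfl⟩) (h1 ⟨_, rfl⟩)) (inv_mem (h2 ⟨_, rfl⟩))
  rcases lt_or_gt_of_ne (fun h => hab (Fin.ext h) : a.val ≠ b.val) with h | h
  · exact key (b.val - a.val - 1) a b (by omega)
  · exact (R.range_flip hab.symm).trans (key (a.val - b.val - 1) b a (by omega))

/-- the generated group maps injectively -/
theorem injOn (hn : 2 ≤ n) : Set.InjOn π ↑(famK hn Ψ) := by
  classical
  set K := famK hn Ψ with hK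
  let S := famS hn Ψ
  let M := famM Ψ
  have hSr : ∀ {j k : Fin n}, j ≠ k → S j ≤ (Ψ j k).range := fun h => R.famS_le_range hn h
  have hMr : ∀ {i : ℕ} (hi : i + 1 < n), M i ≤ (Ψ ⟨i, by omega⟩ ⟨i + 1, hi⟩).range := by
    intro i hi x hx
    simp only [M, famM, dif_pos hi] at hx
    obtain ⟨A, -, rfl⟩ := hx
    exact ⟨A, rfl⟩
  have hne : ∀ {i : ℕ} (hi : i + 1 < n), (⟨i, by omega⟩ : Fin n) ≠ ⟨i + 1, hi⟩ := fun hi => by
    simp [Fin.ext_iff]
  have hSS : ∀ j l, Set.InjOn π ↑(S j ⊔ S l) := by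
    intro j l
    by_cases h : j = l
    · subst h
      rw [sup_idem]
      exact (R.injOn_range (ne_oth hn j)).mono (hSr (ne_oth hn j))
    · exact (R.injOn_range h).mono (sup_le (hSr h) ((hSr (Ne.symm h)).trans (R.range_flip h)))
  have hMS : ∀ i j, i + 1 < n → Set.InjOn π ↑(M i ⊔ S j) := by
    intro i j hi
    by_cases hja : j = ⟨i, by omega⟩
    · subst hja
      exact (R.injOn_range (hne hi)).mono (sup_le (hMr hi) (hSr (hne hi)))
    by_cases hjb : j = ⟨i + 1, hi⟩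
    · subst hjb
      exact (R.injOn_range (hne hi)).mono (sup_le (hMr hi) ((hSr (hne hi).symm).trans (R.range_flip (hne hi))))
    refine injOn_sup_commute π _ _ (fun x hx y hy => ?_) ((R.injOn_range (hne hi)).mono (hMr hi))
      ((R.injOn_range (ne_oth hn j)).mono (hSr (ne_oth hn j))) fun x hx y hy e => ?_
    · simp only [M, famM, dif_pos hi] at hx
      obtain ⟨A, hA, rfl⟩ := hx
      obtain ⟨B, hB, rfl⟩ := hy
      rw [R.share j _ ⟨i, by omega⟩ (ne_oth hn j) hja B hB]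
      exact R.comS _ _ _ (hne hi) hja hjb A B hA hB
    · obtain ⟨A, rfl⟩ := hMr hi hx
      obtain ⟨B, rfl⟩ := hSr (ne_oth hn j) hy
      exact R.pi_eq (hne hi) (ne_oth hn j) e
  have hMM : ∀ i i', i + 1 < n → i' + 1 < n → Set.InjOn π ↑(M i ⊔ M i') := by
    intro i i' hi hi'
    refine injOn_sup_commute π _ _ (fun x hx y hy => ?_) ((R.injOn_range (hne hi)).mono (hMr hi))
      ((R.injOn_range (hne hi')).mono (hMr hi')) fun x hx y hy e => ?_
    · simp only [M, famM, dif_pos hi] at hx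
      simp only [M, famM, dif_pos hi'] at hy
      obtain ⟨A, hA, rfl⟩ := hx
      obtain ⟨B, hB, rfl⟩ := hy
      exact R.comM _ _ _ _ (hne hi) (hne hi') A B hA hB
    · obtain ⟨A, rfl⟩ := hMr hi hx
      obtain ⟨B, rfl⟩ := hMr hi' hy
      exact R.pi_eq (hne hi) (hne hi') e
  have hSK : ∀ j, S j ≤ K := fun j x hx => Subgroup.subset_closure (Or.inl ⟨j, hx⟩)
  have hMK : ∀ i, i + 1 < n → M i ≤ K := fun i hi x hx => Subgroup.subset_closure (Or.inr ⟨i, hi, hx⟩)
  let π' : ↥K →* Spg n F := π.comp K.subtype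
  have hinj : ∀ A B : Subgroup Γ, Set.InjOn π ↑(A ⊔ B) →
      Set.InjOn π' ↑(A.subgroupOf K ⊔ B.subgroupOf K) := by
    intro A B hAB x hx y hy hxy
    have hle : A.subgroupOf K ⊔ B.subgroupOf K ≤ (A ⊔ B).subgroupOf K :=
      sup_le (fun _ hz => Subgroup.mem_sup_left (T := B) hz)
        (fun _ hz => Subgroup.mem_sup_right (S := A) hz)
    exact Subtype.ext (hAB (hle hx) (hle hy) hxy)
  have hA : Amal n π' (fun j => (S j).subgroupOf K) (fun i => (M i).subgroupOf K) := by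
    refine ⟨fun j A => ?_, fun i hi A => ?_, fun j l => hinj _ _ (hSS j l), fun i j hi => hinj _ _ (hMS i j hi),
      fun i i' hi hi' => hinj _ _ (hMM i i' hi hi'), Subgroup.closure_closure_coe_preimage⟩
    · have ho := ne_oth hn j
      constructor
      · intro hA
        obtain ⟨B, rfl⟩ := exists_ext2 ho fun k hk _ => hA k hk
        have hB : InS 0 B := ext2_fix_inS ho (hA _ ho.symm)
        exact ⟨⟨Ψ j _ B, hSK j (R.mem_famS hn ho hB)⟩, R.mem_famS hn ho hB, R.hπ _ _ ho B⟩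
      · rintro ⟨⟨x, hx⟩, hxm, rfl⟩
        obtain ⟨B, hB, rfl⟩ := (hxm : x ∈ S j)
        show InS j (π (Ψ j _ B))
        rw [R.hπ _ _ ho]
        exact ext2_inS ho hB
    · have ho := hne hi
      set a : Fin n := ⟨i, by omega⟩ with ha
      set b : Fin n := ⟨i + 1, hi⟩ with hb
      have hlv : ∀ k : Fin 2, (lv (![a, b] k) : Vs n F) = push a b (lv k) := fun k => (push_lv a b k).symm
      constructor
      · intro hA
        obtain ⟨B, rfl⟩ := exists_ext2 ho fun k hka hkb => ⟨hA.1 k, hA.2 k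
          (fun e => hka (Fin.ext e)) (fun e => hkb (Fin.ext e))⟩
        have hB : InM 0 B := ⟨fun k => by
          have := hA.1 (![a, b] k)
          rw [hlv, ext2_push ho] at this
          have h2 := congrArg (pull a b) this
          rwa [pull_push ho, pull_push ho] at h2, fun k h0 h1 => by omega⟩
        have hm : Ψ a b B ∈ M i := by simp only [M, famM, dif_pos hi]; exact ⟨B, hB, rfl⟩
        exact ⟨⟨Ψ a b B, hMK i hi hm⟩, hm, R.hπ _ _ ho B⟩
      · rintro ⟨⟨x, hx⟩, hxm, rfl⟩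
        have hxm' : x ∈ M i := hxm
        simp only [M, famM, dif_pos hi] at hxm'
        obtain ⟨B, hB, rfl⟩ := hxm'
        show InM i (π (Ψ a b B))
        rw [R.hπ _ _ ho]
        refine ⟨fun k => ?_, fun k h0 h1 => (ext2_fix ho B (fun e => h0 (by rw [e])) fun e => h1 (by rw [e])).2⟩
        by_cases hka : k = a
        · rw [hka, show (lv a : Vs n F) = push a b (lv 0) from hlv 0, ext2_push ho, hB.1]
        by_cases hkb : k = b
        · rw [hkb, show (lv b : Vs n F) = push a b (lv 1) from hlv 1, ext2_push ho, hB.1]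
        exact (ext2_fix ho B hka hkb).1
  have hT : Tri n π' (fun j => (S j).subgroupOf K) (fun i => (M i).subgroupOf K) := by
    intro i hi
    set a : Fin n := ⟨i, by omega⟩ with ha
    set b : Fin n := ⟨i + 1, by omega⟩ with hb
    set c : Fin n := ⟨i + 2, hi⟩ with hc
    have hab : a ≠ b := by simp [a, b, Fin.ext_iff]
    have hac : a ≠ c := by simp [a, c, Fin.ext_iff]
    have hbc : b ≠ c := by simp [b, c, Fin.ext_iff]
    have hm : Ψ a b X2 ∈ M i := by
      simp only [M, famM, dif_pos (show i + 1 < n by omega)]; exact ⟨X2, inM_X2, rfl⟩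
    have hK' := R.range_le_famK hn hbc
    have hJ : ∀ A, (⟨Ψ b c A, hK' ⟨A, rfl⟩⟩ : ↥K) ∈
        (S b).subgroupOf K ⊔ (M (i + 1)).subgroupOf K ⊔ (S c).subgroupOf K := by
      intro A
      rw [← Subgroup.subgroupOf_sup (hSK _) (hMK _ hi), ← Subgroup.subgroupOf_sup
        (sup_le (hSK _) (hMK _ hi)) (hSK _)]
      exact R.range_le_join hn (i := i + 1) hi ⟨A, rfl⟩
    have hpl : ∀ (A : Spg 2 F) (k : Fin 2),
        (π (Ψ b c A)).1 *ᵥ (lv (![b, c] k) : Vs n F) = push b c (A.1 *ᵥ lv k) := fun A k => by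
      rw [R.hπ _ _ hbc, ← push_lv, ext2_push hbc]
    refine ⟨⟨Ψ a b X2, hMK i (by omega) hm⟩, hm, ⟨Ψ b c A2, hK' ⟨_, rfl⟩⟩, hJ A2,
      ⟨Ψ b c L2, hK' ⟨_, rfl⟩⟩, hJ L2, ?_, ?_, ?_, ?_⟩
    · show π (Ψ a b X2) = _
      rw [R.hπ _ _ hab, X2, ext2_kv hab, push_lv, push_lv]
      rfl
    · show (π (Ψ b c A2)).1 *ᵥ (lv (![b, c] 0) : Vs n F) = _
      rw [hpl, A2_lv, push_lv]
      rfl
    · show (π (Ψ b c L2)).1 *ᵥ (lv (![b, c] 0) : Vs n F) = _
      rw [hpl, L2_lv.1, map_add, push_lv, push_lv]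
      rfl
    · refine Subtype.ext ?_
      show Ψ a b X2 * (Ψ b c A2 * Ψ a b X2 * (Ψ b c A2)⁻¹) = Ψ b c L2 * Ψ a b X2 * (Ψ b c L2)⁻¹
      rw [R.conj_A2 hab hac hbc, R.tri a b c hab hac hbc]
  have hb := Amal.bijective_of_tri n hA (Or.inr hT)
  intro x hx y hy e
  exact congrArg Subtype.val (hb.injective (a₁ := ⟨x, hx⟩) (a₂ := ⟨y, hy⟩) e)

end SpFam

end CfsgLib.Lie.BoundedPres
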