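import Cfsg.Agent.Lib.Lie.BoundedPres.SpMat
import Cfsg.Agent.Lib.Char.SpAmalgam.Main

/-!
# `Sp₄(F)` on two of the hyperbolic pairs of `Sp_{2n}(F)`
-/

set_option autoImplicit false

namespace CfsgLib.Lie.BoundedPres

open Matrix CfsgLib.Sp CfsgLib.Char.SpAmalgam

attribute [-simp] Matrix.mulVec_single_one Matrix.mulVec_single

variable {F : Type*} [Field F] {n : ℕ}

/-- restriction to two pairs -/
def pull (a b : Fin n) : Vs n F →ₗ[F] Vs 2 F where
  toFun u := fun x => u (Sum.map ![a, b] ![a, b] x)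
  map_add' _ _ := rfl
  map_smul' _ _ := rfl

/-- extension by zero from two pairs -/
def push (a b : Fin n) : Vs 2 F →ₗ[F] Vs n F where
  toFun y := y (.inl 0) • lv a + y (.inl 1) • lv b + (y (.inr 0) • rv a + y (.inr 1) • rv b)
  map_add' y z := by simp only [Pi.add_apply, add_smul]; abel
  map_smul' c y := by simp only [Pi.smul_apply, smul_eq_mul, RingHom.id_apply, mul_smul, smul_add]

theorem push_lv (a b : Fin n) (i : Fin 2) : push a b (lv i : Vs 2 F) = lv (![a, b] i) := by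
  fin_cases i <;> simp [push, lv]

theorem push_rv (a b : Fin n) (i : Fin 2) : push a b (rv i : Vs 2 F) = rv (![a, b] i) := by
  fin_cases i <;> simp [push, rv]

theorem pull_push {a b : Fin n} (h : a ≠ b) (y : Vs 2 F) : pull a b (push a b y) = y := by
  funext x
  rcases x with i | i <;> fin_cases i <;> simp [pull, push, lv, rv, Pi.single_apply, h, h.symm]

theorem sf_push (a b : Fin n) (y : Vs 2 F) (v : Vs n F) : sf (push a b y) v = sf y (pull a b v) := by
  have e1 : ∀ i : Fin n, sf (lv i : Vs n F) v = -v (.inr i) := fun i => by rw [sf_swap, sf_lv]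
  have e2 : ∀ i : Fin n, sf (rv i : Vs n F) v = v (.inl i) := fun i => by rw [sf_swap, sf_rv, neg_neg]
  simp only [push, LinearMap.coe_mk, AddHom.coe_mk, sf_add_left, sf_smul_left, e1, e2]
  rw [sf_eq, Fin.sum_univ_two]
  simp [pull]
  ring

/-- the linear map of the extension -/
def extLin (a b : Fin n) (A : Spg 2 F) : Vs n F →ₗ[F] Vs n F :=
  LinearMap.id + (push a b).comp ((Matrix.mulVecLin A.1).comp (pull a b) - pull a b)

theorem extLin_apply (a b : Fin n) (A : Spg 2 F) (v : Vs n F) :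
    extLin a b A v = v + push a b (A.1 *ᵥ pull a b v - pull a b v) := rfl

/-- `Sp₄(F)` acting on the pairs `a`, `b` -/
noncomputable def ext2 (a b : Fin n) : Spg 2 F →* Spg n F where
  toFun A :=
    if h : a ≠ b then ⟨LinearMap.toMatrix' (extLin a b A), mem_sp_iff.2 fun u v => by
      rw [LinearMap.toMatrix'_mulVec, LinearMap.toMatrix'_mulVec, extLin_apply, extLin_apply, sf_add_left,
        sf_add_right, sf_add_right, sf_push, sf_push, sf_swap u (push a b _), sf_push, pull_push h]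
      set p := pull a b u
      set q := pull a b v
      simp only [sub_eq_add_neg, ← neg_one_smul F p, ← neg_one_smul F q, sf_add_left, sf_add_right,
        sf_smul_left, sf_smul_right, sf_sp, sf_swap (A.1 *ᵥ q) p, sf_swap q p]
      ring⟩
    else 1
  map_one' := by
    split_ifs with h
    · refine sp_ext_vec fun v => ?_
      show LinearMap.toMatrix' _ *ᵥ v = _
      rw [LinearMap.toMatrix'_mulVec, sp_one_mulVec, extLin_apply, sp_one_mulVec, sub_self, map_zero, add_zero]
    · rfl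
  map_mul' A B := by
    split_ifs with h
    · refine sp_ext_vec fun v => ?_
      show LinearMap.toMatrix' _ *ᵥ v = _
      rw [sp_mul_mulVec]
      simp only [LinearMap.toMatrix'_mulVec]
      rw [extLin_apply, extLin_apply, extLin_apply, sp_mul_mulVec]
      simp only [map_add, pull_push h, Matrix.mulVec_add, add_sub_cancel]
      simp only [map_sub]
      abel
    · rw [one_mul]

theorem ext2_apply {a b : Fin n} (h : a ≠ b) (A : Spg 2 F) (v : Vs n F) :
    (ext2 a b A).1 *ᵥ v = v + push a b (A.1 *ᵥ pull a b v - pull a b v) := by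
  simp only [ext2, MonoidHom.coe_mk, OneHom.coe_mk, dif_pos h, LinearMap.toMatrix'_mulVec, extLin_apply]

theorem ext2_push {a b : Fin n} (h : a ≠ b) (A : Spg 2 F) (y : Vs 2 F) :
    (ext2 a b A).1 *ᵥ push a b y = push a b (A.1 *ᵥ y) := by
  rw [ext2_apply h, pull_push h, map_sub, add_sub_cancel]

theorem ext2_fix {a b : Fin n} (h : a ≠ b) (A : Spg 2 F) {j : Fin n} (ha : j ≠ a) (hb : j ≠ b) :
    (ext2 a b A).1 *ᵥ lv j = lv j ∧ (ext2 a b A).1 *ᵥ rv j = rv j := by
  have hl : pull a b (lv j : Vs n F) = 0 := by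
    funext x
    rcases x with i | i <;> fin_cases i <;> simp [pull, lv, ha.symm, hb.symm]
  have hr : pull a b (rv j : Vs n F) = 0 := by
    funext x
    rcases x with i | i <;> fin_cases i <;> simp [pull, rv, ha.symm, hb.symm]
  constructor
  · rw [ext2_apply h, hl, Matrix.mulVec_zero, sub_zero, map_zero, add_zero]
  · rw [ext2_apply h, hr, Matrix.mulVec_zero, sub_zero, map_zero, add_zero]

theorem ext2_injective {a b : Fin n} (h : a ≠ b) : Function.Injective (ext2 (F := F) a b) :=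
  fun A B e => sp_ext_vec fun y => by
    have := congrArg (fun C : Spg n F => pull a b (C.1 *ᵥ push a b y)) e
    simpa [ext2_push h, pull_push h] using this

/-- vectors are determined on the basis -/
theorem sp_ext_basis {A B : Spg n F} (h : ∀ j, A.1 *ᵥ lv j = B.1 *ᵥ lv j ∧ A.1 *ᵥ rv j = B.1 *ᵥ rv j) :
    A = B :=
  sp_ext_vec fun u => LinearMap.congr_fun
    ((Pi.basisFun F (Fin n ⊕ Fin n)).ext (f₁ := Matrix.mulVecLin A.1) (f₂ := Matrix.mulVecLin B.1) fun x => by
      rcases x with j | j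
      · simpa using (h j).1
      · simpa using (h j).2) u

theorem exists_ext2 {a b : Fin n} (h : a ≠ b) {A : Spg n F}
    (hA : ∀ j, j ≠ a → j ≠ b → A.1 *ᵥ lv j = lv j ∧ A.1 *ᵥ rv j = rv j) :
    ∃ B : Spg 2 F, ext2 a b B = A := by
  have key : ∀ y : Vs 2 F, A.1 *ᵥ push a b y = push a b (pull a b (A.1 *ᵥ push a b y)) := by
    intro y
    funext x
    have hz : ∀ v : Vs n F, ∀ j, j ≠ a → j ≠ b →
        push a b (pull a b v) (.inl j) = 0 ∧ push a b (pull a b v) (.inr j) = 0 := by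
      intro v j ja jb
      simp [push, lv, rv, ja, jb]
    rcases x with j | j
    · by_cases ja : j = a
      · subst ja; simp [push, pull, lv, rv, h]
      by_cases jb : j = b
      · subst jb; simp [push, pull, lv, rv, Ne.symm h]
      rw [(hz _ j ja jb).1, ← neg_eq_zero, ← sf_rv (A.1 *ᵥ push a b y) j, ← (hA j ja jb).2, sf_sp, sf_rv]
      simp [push, lv, rv, ja, jb]
    · by_cases ja : j = a
      · subst ja; simp [push, pull, lv, rv, h]
      by_cases jb : j = b
      · subst jb; simp [push, pull, lv, rv, Ne.symm h]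
      rw [(hz _ j ja jb).2, ← sf_lv (A.1 *ᵥ push a b y) j, ← (hA j ja jb).1, sf_sp, sf_lv]
      simp [push, lv, rv, ja, jb]
  let L : Vs 2 F →ₗ[F] Vs 2 F := (pull a b).comp ((Matrix.mulVecLin A.1).comp (push a b))
  have hL : ∀ u v, sf (L u) (L v) = sf u v := fun u v => by
    show sf (pull a b (A.1 *ᵥ push a b u)) (pull a b (A.1 *ᵥ push a b v)) = _
    rw [← sf_push a b, ← key, sf_sp, sf_push, pull_push h]
  refine ⟨⟨LinearMap.toMatrix' L, mem_sp_iff.2 fun u v => by simpa only [LinearMap.toMatrix'_mulVec] using hL u v⟩,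
    sp_ext_basis fun j => ?_⟩
  have hin : ∀ y : Vs 2 F, ∀ B : Spg 2 F, B.1 = LinearMap.toMatrix' L →
      (ext2 a b B).1 *ᵥ push a b y = A.1 *ᵥ push a b y := fun y B hB => by
    rw [ext2_push h, hB, LinearMap.toMatrix'_mulVec, key]
    rfl
  by_cases ja : j = a
  · rw [ja, show a = ![a, b] 0 from rfl, ← push_lv, ← push_rv]
    exact ⟨hin _ _ rfl, hin _ _ rfl⟩
  by_cases jb : j = b
  · rw [jb, show b = ![a, b] 1 from rfl, ← push_lv, ← push_rv]
    exact ⟨hin _ _ rfl, hin _ _ rfl⟩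
  rw [(hA j ja jb).1, (hA j ja jb).2]
  exact ext2_fix h _ ja jb

theorem ext2_tv {a b : Fin n} (h : a ≠ b) (v : Vs 2 F) (c : F) :
    ext2 a b (tv v c) = tv (push a b v) c := by
  refine sp_ext_vec fun u => ?_
  rw [ext2_apply h, tv_mulVec, tv_mulVec, add_sub_cancel_left, map_smul, sf_swap u (push a b v), sf_push,
    ← sf_swap (pull a b u) v]

theorem ext2_kv {a b : Fin n} (h : a ≠ b) (u v : Vs 2 F) (c : F) :
    ext2 a b (kv u v c) = kv (push a b u) (push a b v) c := by
  simp only [kv, map_mul, ext2_tv h, map_add]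

theorem spPerm_ext2 (σ : Equiv.Perm (Fin n)) {a b : Fin n} (h : a ≠ b) (A : Spg 2 F) :
    spPerm σ * ext2 a b A * (spPerm σ)⁻¹ = ext2 (σ a) (σ b) A := by
  have h' : σ a ≠ σ b := σ.injective.ne h
  rw [mul_inv_eq_iff_eq_mul]
  refine sp_ext_vec fun v => ?_
  have hp : ∀ y : Vs 2 F, (spPerm σ : Spg n F).1 *ᵥ push a b y = push (σ a) (σ b) y := fun y => by
    simp only [push, LinearMap.coe_mk, AddHom.coe_mk, Matrix.mulVec_add, Matrix.mulVec_smul, spPerm_lv,
      spPerm_rv]
  have hq : pull (σ a) (σ b) ((spPerm σ : Spg n F).1 *ᵥ v) = pull a b v := by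
    funext x
    rw [spPerm_apply]
    rcases x with i | i <;> fin_cases i <;> simp [pull]
  rw [sp_mul_mulVec, sp_mul_mulVec, ext2_apply h, ext2_apply h', Matrix.mulVec_add, hp, hq]

/-- exchanging the two pairs -/
noncomputable def flip2 : Spg 2 F →* Spg 2 F :=
  (MulAut.conj (spPerm (Equiv.swap (0 : Fin 2) 1) : Spg 2 F)).toMonoidHom

theorem flip2_apply (A : Spg 2 F) :
    flip2 A = spPerm (Equiv.swap (0 : Fin 2) 1) * A * spPerm (Equiv.swap 0 1) := by
  show _ * A * _⁻¹ = _
  rw [← map_inv, Equiv.swap_inv]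

theorem swap2_mulVec_self (v : Vs 2 F) :
    (spPerm (Equiv.swap (0 : Fin 2) 1) : Spg 2 F).1 *ᵥ
      ((spPerm (Equiv.swap (0 : Fin 2) 1) : Spg 2 F).1 *ᵥ v) = v := by
  rw [← sp_mul_mulVec, ← map_mul, Equiv.swap_mul_self, map_one, sp_one_mulVec]

theorem ext2_flip {a b : Fin n} (h : a ≠ b) (A : Spg 2 F) : ext2 b a A = ext2 a b (flip2 A) := by
  refine sp_ext_vec fun v => ?_
  have hsw : ∀ w : Vs n F, pull b a w = (spPerm (Equiv.swap (0 : Fin 2) 1) : Spg 2 F).1 *ᵥ pull a b w := by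
    intro w
    rw [spPerm_apply]
    funext x
    rcases x with i | i <;> fin_cases i <;> simp [pull]
  have hpu : ∀ y : Vs 2 F, push b a y = push a b ((spPerm (Equiv.swap (0 : Fin 2) 1) : Spg 2 F).1 *ᵥ y) := by
    intro y
    rw [spPerm_apply]
    simp only [push, LinearMap.coe_mk, AddHom.coe_mk, Sum.map_inl, Sum.map_inr, Equiv.symm_swap,
      Equiv.swap_apply_left, Equiv.swap_apply_right]
    abel
  rw [ext2_apply h.symm, ext2_apply h, hsw, hpu, Matrix.mulVec_sub, swap2_mulVec_self, flip2_apply,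
    sp_mul_mulVec, sp_mul_mulVec]

theorem inS_flip {A : Spg 2 F} : InS 0 A ↔ InS 1 (flip2 A) := by
  have h : ∀ k : Fin 2, ∀ B : Spg 2 F,
      (flip2 B).1 *ᵥ lv k = (spPerm (Equiv.swap 0 1) : Spg 2 F).1 *ᵥ (B.1 *ᵥ lv (Equiv.swap 0 1 k)) ∧
      (flip2 B).1 *ᵥ rv k = (spPerm (Equiv.swap 0 1) : Spg 2 F).1 *ᵥ (B.1 *ᵥ rv (Equiv.swap 0 1 k)) := by
    intro k B
    rw [flip2_apply, sp_mul_mulVec, sp_mul_mulVec, sp_mul_mulVec, sp_mul_mulVec, spPerm_lv, spPerm_rv]
    exact ⟨rfl, rfl⟩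
  have hinj := fun u v (e : (spPerm (Equiv.swap (0 : Fin 2) 1) : Spg 2 F).1 *ᵥ u =
      (spPerm (Equiv.swap (0 : Fin 2) 1) : Spg 2 F).1 *ᵥ v) =>
    (show u = v by rw [← swap2_mulVec_self u, e, swap2_mulVec_self])
  constructor
  · intro hA k hk
    obtain rfl : k = 0 := by omega
    rw [(h 0 A).1, (h 0 A).2, Equiv.swap_apply_left, (hA 1 (by decide)).1, (hA 1 (by decide)).2,
      spPerm_lv, spPerm_rv, Equiv.swap_apply_right]
    exact ⟨rfl, rfl⟩
  · intro hA k hk
    obtain rfl : k = 1 := by omega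
    have h0 := hA 0 (by decide)
    rw [(h 0 A).1, (h 0 A).2, Equiv.swap_apply_left] at h0
    exact ⟨hinj _ _ (h0.1.trans (by rw [spPerm_lv, Equiv.swap_apply_right])),
      hinj _ _ (h0.2.trans (by rw [spPerm_rv, Equiv.swap_apply_right]))⟩

end CfsgLib.Lie.BoundedPres
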