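import Cfsg.Agent.Lib.Sp.Centre

/-!
# Permutation and diagonal elements of `Sp_{2n}(F)`
-/

set_option autoImplicit false

namespace CfsgLib.Lie.BoundedPres

open Matrix CfsgLib.Sp

variable {F : Type*} [Field F] {n : ℕ}

local notation "Spn" => Matrix.symplecticGroup (Fin n) F
local notation "V" => (Fin n ⊕ Fin n → F)

theorem spPermMat_mulVec (σ : Equiv.Perm (Fin n)) (u : V) :
    ((1 : Matrix (Fin n ⊕ Fin n) (Fin n ⊕ Fin n) F).submatrix (Sum.map σ.symm σ.symm) id) *ᵥ u =
      fun x => u (Sum.map σ.symm σ.symm x) := by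
  funext x
  show (fun j => (1 : Matrix (Fin n ⊕ Fin n) (Fin n ⊕ Fin n) F) (Sum.map σ.symm σ.symm x) j) ⬝ᵥ u = _
  exact congrFun (Matrix.one_mulVec u) (Sum.map σ.symm σ.symm x)

/-- the same permutation of the two halves of the hyperbolic basis -/
def spPerm : Equiv.Perm (Fin n) →* Spn where
  toFun σ := ⟨(1 : Matrix (Fin n ⊕ Fin n) (Fin n ⊕ Fin n) F).submatrix (Sum.map σ.symm σ.symm) id,
    mem_sp_iff.2 fun u v => by
      rw [spPermMat_mulVec, spPermMat_mulVec, sf_eq, sf_eq]
      exact Fintype.sum_equiv σ.symm _ _ fun i => rfl⟩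
  map_one' := sp_ext_vec fun u => by
    rw [sp_one_mulVec, spPermMat_mulVec]
    funext x
    rcases x with i | i <;> rfl
  map_mul' σ τ := sp_ext_vec fun u => by
    rw [sp_mul_mulVec, spPermMat_mulVec, spPermMat_mulVec, spPermMat_mulVec]
    funext x
    rcases x with i | i <;> rfl

theorem spPerm_apply (σ : Equiv.Perm (Fin n)) (u : V) :
    (spPerm σ : Spn).1 *ᵥ u = fun x => u (Sum.map σ.symm σ.symm x) := spPermMat_mulVec σ u

theorem spPerm_lv (σ : Equiv.Perm (Fin n)) (i : Fin n) : (spPerm σ : Spn).1 *ᵥ lv i = lv (σ i) := by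
  rw [spPerm_apply]
  funext x
  rcases x with j | j <;> simp [lv, Pi.single_apply, Equiv.symm_apply_eq]

theorem spPerm_rv (σ : Equiv.Perm (Fin n)) (i : Fin n) : (spPerm σ : Spn).1 *ᵥ rv i = rv (σ i) := by
  rw [spPerm_apply]
  funext x
  rcases x with j | j <;> simp [rv, Pi.single_apply, Equiv.symm_apply_eq]

/-- diagonal elements -/
def spDiag (d : Fin n → Fˣ) : Spn :=
  ⟨Matrix.diagonal (Sum.elim (fun i => (d i : F)) fun i => ((d i)⁻¹ : Fˣ)), mem_sp_iff.2 fun u v => by
    rw [sf_eq, sf_eq]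
    refine Finset.sum_congr rfl fun i _ => ?_
    simp only [Matrix.mulVec_diagonal, Sum.elim_inl, Sum.elim_inr, Units.val_inv_eq_inv_val]
    field_simp⟩

theorem spDiag_apply (d : Fin n → Fˣ) (u : V) :
    (spDiag d : Spn).1 *ᵥ u =
      fun x => (Sum.elim (fun i => (d i : F)) fun i => ((d i)⁻¹ : Fˣ)) x * u x :=
  funext fun x => Matrix.mulVec_diagonal _ u x

theorem spDiag_mul (d d' : Fin n → Fˣ) : (spDiag d : Spn) * spDiag d' = spDiag (d * d') :=
  sp_ext_vec fun u => by
    rw [sp_mul_mulVec, spDiag_apply, spDiag_apply, spDiag_apply]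
    funext x
    rcases x with i | i <;> simp <;> ring

theorem spDiag_one : (spDiag 1 : Spn) = 1 :=
  sp_ext_vec fun u => by
    rw [sp_one_mulVec, spDiag_apply]
    funext x
    rcases x with i | i <;> simp

theorem spDiag_pow (d : Fin n → Fˣ) (k : ℕ) : (spDiag d : Spn) ^ k = spDiag (d ^ k) := by
  induction k with
  | zero => rw [pow_zero, pow_zero, spDiag_one]
  | succ k ih => rw [pow_succ, pow_succ, ih, spDiag_mul]

theorem spDiag_lv (d : Fin n → Fˣ) (i : Fin n) : (spDiag d : Spn).1 *ᵥ lv i = (d i : F) • lv i := by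
  rw [spDiag_apply]
  funext x
  rcases x with j | j
  · rcases eq_or_ne j i with rfl | h <;> simp [lv, Pi.single_apply, *]
  · simp [lv, Pi.single_apply]

theorem spDiag_rv (d : Fin n → Fˣ) (i : Fin n) :
    (spDiag d : Spn).1 *ᵥ rv i = ((d i)⁻¹ : Fˣ).val • rv i := by
  rw [spDiag_apply]
  funext x
  rcases x with j | j
  · simp [rv, Pi.single_apply]
  · rcases eq_or_ne j i with rfl | h <;> simp [rv, Pi.single_apply, *]

end CfsgLib.Lie.BoundedPres
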