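import Cfsg.Agent.Lib.Lie.BoundedPres.SpTwo
import Cfsg.Agent.Lib.Lie.ShortPres.B2Prm

/-!
# The first long root `SL₂` of `Sp₄(F)` is generated by two elements
-/

set_option autoImplicit false

namespace CfsgLib.Lie.BoundedPres

open Matrix CfsgLib.Sp CfsgLib.Char.SpAmalgam CfsgLib.Lie.ShortPres

attribute [-simp] Matrix.mulVec_single_one Matrix.mulVec_single

variable {F : Type*} [Field F]

theorem zU_add (s t : F) : (zU (n := 1) (s + t) : Spg 2 F) = zU s * zU t := (tv_mul _ _ _).symm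

theorem zD_add (s t : F) : (zD (n := 1) (s + t) : Spg 2 F) = zD s * zD t := by
  simp only [zD, tv_mul, neg_add]

theorem W2_eq : (W2 : Spg 2 F) = zU (n := 1) (-1) * (zD 1 * zU (-1)) := by
  simp only [W2, zU, zD, e0_eq, f0_eq]

theorem W2_zU (t : F) : W2 * zU (n := 1) t * W2⁻¹ = zD (-t) := by
  rw [zU, zD, tv_conj, e0_eq, f0_eq, W2_lv, neg_neg]

theorem W2_rv : (W2 : Spg 2 F).1 *ᵥ rv 0 = -lv 0 := by
  have a : sf (lv (0 : Fin 2) : Vs 2 F) (rv 0) = -1 := by rw [sf_rv]; simp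
  have b : sf (rv (0 : Fin 2) : Vs 2 F) (lv 0) = 1 := by rw [sf_lv]; simp
  simp only [W2, sp_mul_mulVec, tv_mulVec, sf_add_left, sf_smul_left, sf_self, a, b]
  module

/-- two elements generating the first `SL₂` -/
theorem exists_two_inS [Fintype F] :
    ∃ g₁ g₂ : Spg 2 F, InS 0 g₁ ∧ InS 0 g₂ ∧ ∀ A, InS 0 A → A ∈ Subgroup.closure ({g₁, g₂} : Set (Spg 2 F)) := by
  classical
  obtain ⟨p, hchar⟩ := CharP.exists F
  haveI hp : Fact p.Prime := ⟨CharP.char_is_prime F p⟩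
  obtain ⟨N, -, hN⟩ := FiniteField.card F p
  letI : Algebra (ZMod p) F := ZMod.algebra F p
  obtain ⟨P, ω₀, hP⟩ := BTwo.exists_prm (F := F) hN
  obtain ⟨ω, rfl⟩ : ∃ ω : Fˣ, (ω : F) = ω₀ := ⟨Units.mk0 ω₀ hP.ne_zero, rfl⟩
  suffices key : ∃ g₁ g₂ : Spg 2 F, InS 0 g₁ ∧ InS 0 g₂ ∧
      ∀ t, zU (n := 1) t ∈ Subgroup.closure ({g₁, g₂} : Set (Spg 2 F)) ∧
        zD (n := 1) t ∈ Subgroup.closure ({g₁, g₂} : Set (Spg 2 F)) by
    obtain ⟨g₁, g₂, h1, h2, h⟩ := key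
    refine ⟨g₁, g₂, h1, h2, fun A hA => ?_⟩
    have hle : pair0 1 F ≤ Subgroup.closure ({g₁, g₂} : Set (Spg 2 F)) := by
      refine (Subgroup.closure_le _).2 ?_
      rintro B (⟨t, rfl⟩ | ⟨r, rfl⟩)
      exacts [(h t).1, (h r).2]
    exact hle (mem_pair0_of_inS hA)
  by_cases hsq : (ω : F) ^ 2 = 1
  · -- the prime field with at most three elements
    refine ⟨zU 1, zD 1, inS_zU 1, inS_zD 1, ?_⟩
    set G := Subgroup.closure ({zU (n := 1) (1 : F), zD 1} : Set (Spg 2 F))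
    have hU : zU (n := 1) (1 : F) ∈ G := Subgroup.subset_closure (Set.mem_insert _ _)
    have hD : zD (n := 1) (1 : F) ∈ G := Subgroup.subset_closure (Set.mem_insert_of_mem _ rfl)
    refine forall_of_generated (p := p) ((ω : F) ^ 2) hP.gen2 (fun t => zU t ∈ G ∧ zD t ∈ G) ?_ ⟨hU, hD⟩ ?_ ?_
    · simp only [zU, zD, neg_zero, tv_zero]; exact ⟨G.one_mem, G.one_mem⟩
    · intro b c hb hc
      rw [zU_add, zD_add]
      exact ⟨G.mul_mem hb.1 hc.1, G.mul_mem hb.2 hc.2⟩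
    · intro b hb
      rwa [hsq, one_mul]
  let d : Spg 2 F := spDiag (Pi.mulSingle 0 ω)
  have hd : InS 0 d := by
    intro k hk
    obtain rfl : k = 1 := by omega
    simp only [d, spDiag_lv, spDiag_rv]
    simp
  have hdU : ∀ t : F, d * zU (n := 1) t * d⁻¹ = zU ((ω : F) ^ 2 * t) := fun t => by
    rw [zU, zU, tv_conj, e0_eq, show d.1 *ᵥ lv 0 = (ω : F) • lv 0 by simp [d, spDiag_lv], tv_smul, sq]
  refine ⟨d, zU 1 * W2, hd, (inS_zU 1).mul inS_W2, ?_⟩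
  set G := Subgroup.closure ({d, zU (n := 1) (1 : F) * W2} : Set (Spg 2 F))
  have hdG : d ∈ G := Subgroup.subset_closure (Set.mem_insert _ _)
  have hyG : zU (n := 1) (1 : F) * W2 ∈ G := Subgroup.subset_closure (Set.mem_insert_of_mem _ rfl)
  have hWd : W2 * d * W2⁻¹ = d⁻¹ := by
    refine eq_inv_of_mul_eq_one_left (sp_ext_basis fun j => ?_)
    have hWi : ((W2 : Spg 2 F)⁻¹).1 *ᵥ lv 0 = -rv 0 ∧ ((W2 : Spg 2 F)⁻¹).1 *ᵥ rv 0 = lv 0 := by
      constructor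
      · rw [show (lv 0 : Vs 2 F) = -((W2 : Spg 2 F).1 *ᵥ rv 0) by rw [W2_rv, neg_neg], Matrix.mulVec_neg,
          sp_inv_mulVec]
      · rw [← W2_lv, sp_inv_mulVec]
    rw [sp_one_mulVec, sp_one_mulVec]
    fin_cases j
    · simp only [Fin.zero_eta, sp_mul_mulVec, d, spDiag_lv, spDiag_rv, Pi.mulSingle_eq_same, Matrix.mulVec_smul,
        hWi.1, hWi.2, Matrix.mulVec_neg, W2_lv, W2_rv]
      simp [smul_smul]
    · have hi : ((W2 : Spg 2 F)⁻¹).1 *ᵥ lv 1 = lv 1 ∧ ((W2 : Spg 2 F)⁻¹).1 *ᵥ rv 1 = rv 1 :=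
        inS_W2.inv 1 (by decide)
      simp only [Fin.mk_one, sp_mul_mulVec, (hd 1 (by decide)).1, (hd 1 (by decide)).2, hi.1, hi.2,
        (inS_W2 (F := F) 1 (by decide)).1, (inS_W2 (F := F) 1 (by decide)).2]
      exact ⟨trivial, trivial⟩
  have hz : zU (n := 1) (1 - ((ω : F) ^ 2)⁻¹) ∈ G := by
    have h := G.mul_mem (G.mul_mem (G.mul_mem hyG hdG) (G.inv_mem hyG)) hdG
    have e : zU (n := 1) (1 : F) * W2 * d * (zU 1 * W2)⁻¹ * d =
        zU (n := 1) (1 - ((ω : F) ^ 2)⁻¹) := by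
      calc zU (n := 1) (1 : F) * W2 * d * (zU 1 * W2)⁻¹ * d
          = zU 1 * (W2 * d * W2⁻¹) * (zU 1)⁻¹ * d := by group
        _ = zU 1 * (d⁻¹ * zU (-1) * d) := by
            rw [hWd, inv_eq_of_mul_eq_one_right (show zU (n := 1) (1 : F) * zU (-1) = 1 by
              rw [← zU_add, add_neg_cancel, zU, tv_zero])]
            group
        _ = zU 1 * zU (-((ω : F) ^ 2)⁻¹) := by
            congr 1
            have h2 := hdU (-((ω : F) ^ 2)⁻¹)
            rw [mul_neg, mul_inv_cancel₀ (pow_ne_zero _ ω.ne_zero)] at h2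
            rw [← h2]; group
        _ = _ := by rw [← zU_add, sub_eq_add_neg]
    rwa [e] at h
  have hc0 : (1 : F) - ((ω : F) ^ 2)⁻¹ ≠ 0 := by
    rw [sub_ne_zero]
    intro e
    exact hsq (by rw [← inv_inv ((ω : F) ^ 2), ← e, inv_one])
  have hU : ∀ t, zU (n := 1) t ∈ G := by
    intro t
    suffices ∀ t (i : ℕ), zU (n := 1) (((ω : F) ^ 2) ^ i * ((1 - ((ω : F) ^ 2)⁻¹) * t)) ∈ G by
      have h := this (t / (1 - ((ω : F) ^ 2)⁻¹)) 0
      rwa [pow_zero, one_mul, mul_div_cancel₀ _ hc0] at h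
    intro t
    refine forall_of_generated (p := p) ((ω : F) ^ 2) hP.gen2
      (fun t => ∀ i : ℕ, zU (n := 1) (((ω : F) ^ 2) ^ i * ((1 - ((ω : F) ^ 2)⁻¹) * t)) ∈ G) ?_ ?_ ?_ ?_ t
    · intro i; simp only [mul_zero, zU, tv_zero]; exact G.one_mem
    · intro i
      induction i with
      | zero => simpa using hz
      | succ i ih =>
        have := G.mul_mem (G.mul_mem hdG ih) (G.inv_mem hdG)
        rwa [hdU, ← mul_assoc, ← pow_succ'] at this
    · intro b c hb hc i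
      rw [mul_add, mul_add, zU_add]
      exact G.mul_mem (hb i) (hc i)
    · intro b hb i
      have := hb (i + 1)
      convert this using 2
      ring
  have hW : (W2 : Spg 2 F) ∈ G := by
    have h := G.mul_mem (G.inv_mem (hU 1)) hyG
    rwa [inv_mul_cancel_left] at h
  intro t
  refine ⟨hU t, ?_⟩
  have h := G.mul_mem (G.mul_mem hW (hU (-t))) (G.inv_mem hW)
  rwa [W2_zU, neg_neg] at h

end CfsgLib.Lie.BoundedPres
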