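import Cfsg.Agent.Lib.Lie.BoundedPres.SpSys
import Cfsg.Agent.Lib.Lie.BoundedPres.AltFour

/-!
# Presentations of `Sp_{2n}(F)` and `PSp_{2n}(F)` with few generators
-/

set_option autoImplicit false

namespace CfsgLib.Lie.BoundedPres

open Matrix CfsgLib.Sp CfsgLib.Char.SpAmalgam Equiv Equiv.Perm

attribute [-simp] Matrix.mulVec_single_one Matrix.mulVec_single

/-- two elements generate the even permutations fixing given points -/
theorem exists_stab_two {n : ℕ} (T : Finset (Fin n)) :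
    ∃ f : Fin 2 → alternatingGroup (Fin n), (∀ i, ∀ x ∈ T, (f i).1 x = x) ∧
      ∀ σ : alternatingGroup (Fin n), (∀ x ∈ T, σ.1 x = x) → σ ∈ Subgroup.closure (Set.range f) := by
  classical
  set s : Finset (Fin n) := Finset.univ.filter fun x => x ∉ T with hs
  obtain ⟨f, hf⟩ := exists_alt_two s
  refine ⟨fun i => alternatingGroup.ofSubtype s (f i), fun i x hx => ?_, fun σ hσ => ?_⟩
  · show Perm.ofSubtype ((f i : Perm s)) _ = _
    exact Perm.ofSubtype_apply_of_not_mem _ (by simp [hs, hx])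
  · have hmem : ∀ x, σ.1 x ∈ s ↔ x ∈ s := fun x => by
      simp only [hs, Finset.mem_filter, Finset.mem_univ, true_and]
      exact ⟨fun h e => h (by rwa [hσ x e]), fun h e => h ((σ.1.injective (hσ _ e)) ▸ e)⟩
    have e : Perm.ofSubtype (σ.1.subtypePerm hmem) = σ.1 := by
      refine Perm.ofSubtype_subtypePerm _ fun x hx => ?_
      simp only [hs, Finset.mem_filter, Finset.mem_univ, true_and]
      exact fun h => hx (hσ x h)
    have hev : σ.1.subtypePerm hmem ∈ alternatingGroup s := by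
      rw [mem_alternatingGroup, ← sign_ofSubtype, e]
      exact σ.2
    rw [← (show alternatingGroup.ofSubtype s ⟨_, hev⟩ = σ from Subtype.ext e),
      show (fun i => alternatingGroup.ofSubtype s (f i)) = alternatingGroup.ofSubtype s ∘ f from rfl,
      Set.range_comp, ← MonoidHom.map_closure, hf]
    exact ⟨_, trivial, rfl⟩

variable {F : Type*} [Field F] {n : ℕ}

/-- a system for `Sp` gives one for `PSp` -/
theorem sysJ_psp {k r j : ℕ} (hn : 1 ≤ n) (h : HasSysJ (Spg n F) k r j) : HasSysJ (Cfsg.PSp n F) k (r + 1) j := by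
  let z : Spg n F := spDiag fun _ => -1
  have hz : ∀ u, z.1 *ᵥ u = -u := fun u => by
    rw [spDiag_apply]
    funext x
    rcases x with i | i <;> simp
  refine h.quotient (QuotientGroup.mk' _) (QuotientGroup.mk'_surjective _) z ?_
  rw [QuotientGroup.ker_mk']
  refine le_antisymm (fun A hA => ?_) (Subgroup.zpowers_le.2 ?_)
  · rcases center_scalar hn (fun v _ => (Subgroup.mem_center_iff.1 hA _).symm) with h1 | h1
    · rw [show A = 1 from Subtype.ext h1]; exact one_mem _
    · have : A = z := sp_ext_vec fun u => by rw [h1, hz, Matrix.neg_mulVec, Matrix.one_mulVec]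
      rw [this]; exact Subgroup.mem_zpowers z
  · exact Subgroup.mem_center_iff.2 fun A => sp_ext_vec fun u => by
      rw [sp_mul_mulVec, sp_mul_mulVec, hz, hz, Matrix.mulVec_neg]

variable [Fintype F]

omit n in
theorem sysJ_spFour : HasSysJ (Spg 2 F) 6 27 0 := by
  classical
  obtain ⟨p, hchar⟩ := CharP.exists F
  haveI hp : Fact p.Prime := ⟨CharP.char_is_prime F p⟩
  obtain ⟨N, -, hN⟩ := FiniteField.card F p
  letI : Algebra (ZMod p) F := ZMod.algebra F p
  obtain ⟨⟨rels, hr, ⟨iso⟩⟩, -⟩ := CfsgLib.Lie.ShortPres.BTwo.presentation (F := F) hN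
  simpa using (HasSysJ.of_presentation rels iso).mono (r' := 27) (by omega) le_rfl

theorem sysJ_sp_alt (hn : 4 ≤ n) {kP rP : ℕ} (hP : HasSys (alternatingGroup (Fin n)) kP rP) :
    HasSysJ (Spg n F) (kP + 6) (rP + 27 + 15) kP := by
  classical
  obtain ⟨g₁, g₂, hg₁, hg₂, hgen⟩ := exists_two_inS (F := F)
  obtain ⟨S₁, h1, h1'⟩ := exists_stab_two {four hn 0}
  obtain ⟨S₂, h2, h2'⟩ := exists_stab_two {four hn 0, four hn 1}
  exact sys_spJ_of (spPts_alt hn) hP.toJ (sysJ_spFour (F := F)) (S₁ := S₁) (S₂ := S₂)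
    (fun i => h1 i _ (Finset.mem_singleton_self _))
    (fun σ h => h1' σ fun x hx => by rw [Finset.mem_singleton.1 hx]; exact h)
    (fun i => ⟨h2 i _ (by simp), h2 i _ (by simp)⟩)
    (fun σ ha hb => h2' σ fun x hx => by
      simp only [Finset.mem_insert, Finset.mem_singleton] at hx
      rcases hx with rfl | rfl
      exacts [ha, hb])
    hg₁ hg₂ hgen

theorem sysJ_sp_three : HasSysJ (Spg 3 F) 8 50 2 := by
  classical
  obtain ⟨g₁, g₂, hg₁, hg₂, hgen⟩ := exists_two_inS (F := F)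
  have hP : HasSysJ (Perm (Fin 3)) 2 12 0 := by
    have h := HasSysJ.of_gens ![swap (0 : Fin 3) 1, swap 1 2] (by
      rw [eq_top_iff]
      intro σ _
      have hs : ∀ σ : Perm (Fin 3), σ = 1 ∨ σ = swap 0 1 ∨ σ = swap 1 2 ∨ σ = swap 0 1 * swap 1 2 ∨
          σ = swap 1 2 * swap 0 1 ∨ σ = swap 0 1 * swap 1 2 * swap 0 1 := by decide
      have ha : swap (0 : Fin 3) 1 ∈ Subgroup.closure (Set.range ![swap (0 : Fin 3) 1, swap 1 2]) :=
        Subgroup.subset_closure ⟨0, rfl⟩
      have hb : swap (1 : Fin 3) 2 ∈ Subgroup.closure (Set.range ![swap (0 : Fin 3) 1, swap 1 2]) :=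
        Subgroup.subset_closure ⟨1, rfl⟩
      rcases hs σ with rfl | rfl | rfl | rfl | rfl | rfl
      exacts [one_mem _, ha, hb, mul_mem ha hb, mul_mem hb ha, mul_mem (mul_mem ha hb) ha])
    rwa [Fintype.card_perm, Fintype.card_fin] at h
  refine (sys_spJ_of spPts_three hP (sysJ_spFour (F := F)) (S₁ := ![swap 1 2]) (S₂ := ![]) ?_ ?_ ?_ ?_
    hg₁ hg₂ hgen).mono le_rfl le_rfl
  · simp only [MonoidHom.id_apply]; decide
  · intro σ hσ
    have : ∀ σ : Perm (Fin 3), σ 0 = 0 → σ = 1 ∨ σ = swap 1 2 := by decide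
    rcases this σ hσ with rfl | rfl
    · exact one_mem _
    · exact Subgroup.subset_closure ⟨0, rfl⟩
  · exact fun i => Fin.elim0 i
  · intro σ h0 h1
    have : ∀ σ : Perm (Fin 3), σ 0 = 0 → σ 1 = 1 → σ = 1 := by decide
    rw [this σ h0 h1]
    exact one_mem _

end CfsgLib.Lie.BoundedPres
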