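import Cfsg.Agent.Lib.Lie.BoundedPres.SpRel
import Cfsg.Agent.Lib.Lie.BoundedPres.AltStab

/-!
# Permutation groups moving the first points enough, and relations in `Sp_{2n}(F)` itself
-/

set_option autoImplicit false

namespace CfsgLib.Lie.BoundedPres

open Matrix CfsgLib.Sp CfsgLib.Char.SpAmalgam Equiv Equiv.Perm

attribute [-simp] Matrix.mulVec_single_one Matrix.mulVec_single

variable {n : ℕ}

/-- six elements generate the even permutations fixing a point -/
theorem exists_stab1_gens (a : Fin n) :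
    ∃ f : Fin 6 → alternatingGroup (Fin n), (∀ i, (f i).1 a = a) ∧
      ∀ σ : alternatingGroup (Fin n), σ.1 a = a → σ ∈ Subgroup.closure (Set.range f) := by
  classical
  set s : Finset (Fin n) := Finset.univ.filter fun x => x ≠ a with hs
  obtain ⟨f, hf⟩ := exists_six_gens s
  refine ⟨fun i => alternatingGroup.ofSubtype s (f i), fun i => ?_, fun σ ha => ?_⟩
  · show Perm.ofSubtype ((f i : Perm s)) _ = _
    exact Perm.ofSubtype_apply_of_not_mem _ (by simp [hs])
  · have hmem : ∀ x, σ.1 x ∈ s ↔ x ∈ s := fun x => by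
      simp only [hs, Finset.mem_filter, Finset.mem_univ, true_and, ne_eq]
      exact ⟨fun h e => h (e ▸ ha), fun h e => h (σ.1.injective (e.trans ha.symm))⟩
    have e : Perm.ofSubtype (σ.1.subtypePerm hmem) = σ.1 := by
      refine Perm.ofSubtype_subtypePerm _ fun x hx => ?_
      simp only [hs, Finset.mem_filter, Finset.mem_univ, true_and, ne_eq]
      exact fun h => hx (by rw [h, ha])
    have hev : σ.1.subtypePerm hmem ∈ alternatingGroup s := by
      rw [mem_alternatingGroup, ← sign_ofSubtype, e]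
      exact σ.2
    rw [← (show alternatingGroup.ofSubtype s ⟨_, hev⟩ = σ from Subtype.ext e),
      show (fun i => alternatingGroup.ofSubtype s (f i)) = alternatingGroup.ofSubtype s ∘ f from rfl,
      Set.range_comp, ← MonoidHom.map_closure, hf]
    exact ⟨_, trivial, rfl⟩

theorem spPts_alt (hn : 4 ≤ n) :
    SpPts (alternatingGroup (Fin n)).subtype (four hn 0) (four hn 1) (four hn 2) (four hn 3) := by
  have h : ∀ s t : Fin 4, s ≠ t → four hn s ≠ four hn t := fun s t => (four_inj hn).ne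
  set a := four hn 0
  set b := four hn 1
  set e := four hn 2
  set f := four hn 3
  have hab : a ≠ b := h _ _ (by decide)
  have hae : a ≠ e := h _ _ (by decide)
  have hbe : b ≠ e := h _ _ (by decide)
  have haf : a ≠ f := h _ _ (by decide)
  have hbf : b ≠ f := h _ _ (by decide)
  have hef : e ≠ f := h _ _ (by decide)
  have i3 : ∀ {i j k : Fin n}, i ≠ j → i ≠ k → j ≠ k → Function.Injective ![i, j, k] := by
    intro i j k a b c x y
    fin_cases x <;> fin_cases y <;> simp [a, b, c, a.symm, b.symm, c.symm]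
  refine ⟨hab, hae, hbe, hef, fun i j hij => exists_pair_map hn a b i j hab hij,
    fun i j k h1 h2 h3 => ?_, fun i j k h1 h2 h3 => ?_, fun i j k l h1 h2 h3 h4 h5 h6 => ?_⟩
  · obtain ⟨σ, h | h⟩ := exists_even_map ![a, b, e] ![i, j, k] (i3 hab hae hbe) (i3 h1 h2 h3) a b hab
    · exact ⟨σ, h 2, Or.inl ⟨h 0, h 1⟩⟩
    · have g0 := h 0; have g1 := h 1; have g2 := h 2
      simp [swap_apply_of_ne_of_ne hae.symm hbe.symm] at g0 g1 g2
      exact ⟨σ, g2, Or.inr ⟨g1, g0⟩⟩
  · obtain ⟨σ, h | h⟩ := exists_even_map ![a, b, e] ![i, j, k] (i3 hab hae hbe) (i3 h1 h2 h3) b e hbe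
    · exact ⟨σ, h 0, Or.inl ⟨h 1, h 2⟩⟩
    · have g0 := h 0; have g1 := h 1; have g2 := h 2
      simp [swap_apply_of_ne_of_ne hab hae] at g0 g1 g2
      exact ⟨σ, g0, Or.inr ⟨g2, g1⟩⟩
  · have i4 : ∀ {i j k l : Fin n}, i ≠ j → i ≠ k → i ≠ l → j ≠ k → j ≠ l → k ≠ l →
        Function.Injective ![i, j, k, l] := by
      intro i j k l a b c d e f x y
      fin_cases x <;> fin_cases y <;> simp [a, b, c, d, e, f, a.symm, b.symm, c.symm, d.symm, e.symm, f.symm]
    obtain ⟨σ, h | h⟩ := exists_even_map ![a, b, e, f] ![i, j, k, l] (i4 hab hae haf hbe hbf hef)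
      (i4 h1 h2 h3 h4 h5 h6) a b hab
    · exact ⟨σ, ⟨h 2, h 3⟩, Or.inl ⟨h 0, h 1⟩⟩
    · have g0 := h 0; have g1 := h 1; have g2 := h 2; have g3 := h 3
      simp [swap_apply_of_ne_of_ne hae.symm hbe.symm, swap_apply_of_ne_of_ne haf.symm hbf.symm]
        at g0 g1 g2 g3
      exact ⟨σ, ⟨g2, g3⟩, Or.inr ⟨g1, g0⟩⟩

theorem spPts_three : SpPts (MonoidHom.id (Perm (Fin 3))) 0 1 2 0 := by
  refine ⟨by decide, by decide, by decide, by decide, ?_, ?_, ?_,
    fun i j k l _ _ _ _ _ _ => absurd rfl (?_ : i ≠ i)⟩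
  · simp only [MonoidHom.id_apply]; decide
  · simp only [MonoidHom.id_apply]; decide
  · simp only [MonoidHom.id_apply]; decide
  · omega

variable {F : Type*} [Field F]

theorem ext2_share {a b b' : Fin n} (h : a ≠ b) (h' : a ≠ b') {A : Spg 2 F} (hA : InS 0 A) :
    ext2 a b A = ext2 a b' A := by
  have hz : ∀ v : Vs 2 F, (A.1 *ᵥ v = v) → ∀ u, sf u v = 0 → sf (A.1 *ᵥ u) v = 0 := fun v hv u hu => by
    rw [← hv, sf_sp, hu]
  have hp : ∀ u : Vs 2 F, u (.inl 1) = 0 → u (.inr 1) = 0 → ∀ x y : Fin n,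
      push x y u = u (.inl 0) • lv x + u (.inr 0) • rv x := fun u h1 h2 x y => by simp [push, h1, h2]
  have hc : ∀ u : Vs 2 F, u (.inl 1) = 0 → u (.inr 1) = 0 →
      (A.1 *ᵥ u) (.inl 1) = 0 ∧ (A.1 *ᵥ u) (.inr 1) = 0 := by
    intro u h1 h2
    have e1 := hz _ (hA 1 (by decide)).2 u (by rw [sf_rv, h1, neg_zero])
    have e2 := hz _ (hA 1 (by decide)).1 u (by rw [sf_lv, h2])
    rw [sf_rv, neg_eq_zero] at e1
    rw [sf_lv] at e2
    exact ⟨e1, e2⟩
  refine sp_ext_basis fun k => ?_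
  by_cases hk : k = a
  · subst hk
    have hl := hc (lv 0) (by simp [lv]) (by simp [lv])
    have hr := hc (rv 0) (by simp [rv]) (by simp [rv])
    constructor
    · conv_lhs => rw [show (lv k : Vs n F) = push k b (lv 0) from (push_lv k b 0).symm, ext2_push h]
      conv_rhs => rw [show (lv k : Vs n F) = push k b' (lv 0) from (push_lv k b' 0).symm, ext2_push h']
      rw [hp _ hl.1 hl.2, hp _ hl.1 hl.2]
    · conv_lhs => rw [show (rv k : Vs n F) = push k b (rv 0) from (push_rv k b 0).symm, ext2_push h]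
      conv_rhs => rw [show (rv k : Vs n F) = push k b' (rv 0) from (push_rv k b' 0).symm, ext2_push h']
      rw [hp _ hr.1 hr.2, hp _ hr.1 hr.2]
  · have h1 := ext2_inS h hA k hk
    have h2 := ext2_inS h' hA k hk
    exact ⟨h1.1.trans h2.1.symm, h1.2.trans h2.2.symm⟩

theorem ext2_X2 {a b : Fin n} (h : a ≠ b) : ext2 a b (X2 : Spg 2 F) = kv (lv a) (lv b) 1 := by
  rw [X2, ext2_kv h, push_lv, push_lv]
  rfl

theorem kv_lv_commute (a b a' b' : Fin n) :
    Commute (kv (lv a) (lv b) (1 : F)) (kv (lv a') (lv b') 1) := by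
  have h := kv_conj (kv (lv a) (lv b) (1 : F)) (lv a' : Vs n F) (lv b') (sf_lv_lv _ _) 1
  have e : ∀ k : Fin n, (kv (lv a) (lv b) (1 : F)).1 *ᵥ lv k = lv k := fun k => by
    rw [kv_mulVec _ _ (sf_lv_lv _ _), sf_lv_lv, sf_lv_lv]; simp
  rw [e, e, mul_inv_eq_iff_eq_mul] at h
  exact h

theorem X2_commute_S {a b e : Fin n} (hab : a ≠ b) (hea : e ≠ a) (heb : e ≠ b) {B : Spg 2 F} (hB : InS 0 B) :
    Commute (ext2 a b X2) (ext2 e a B) := by
  have h := kv_conj (ext2 e a B) (lv a : Vs n F) (lv b) (sf_lv_lv _ _) 1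
  rw [(ext2_inS hea hB a hea.symm).1, (ext2_inS hea hB b heb.symm).1, mul_inv_eq_iff_eq_mul] at h
  rw [ext2_X2 hab]
  exact h.symm

theorem tri_model {a b e : Fin n} (hab : a ≠ b) (hae : a ≠ e) (hbe : b ≠ e) :
    ext2 a b (X2 : Spg 2 F) * ext2 a e X2 = ext2 b e L2 * ext2 a b X2 * (ext2 b e L2)⁻¹ := by
  have hb : (ext2 b e (L2 : Spg 2 F)).1 *ᵥ (lv b : Vs n F) = lv b + lv e := by
    rw [show (lv b : Vs n F) = push b e (lv 0) from (push_lv b e 0).symm, ext2_push hbe, L2_lv.1, map_add,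
      push_lv, push_lv]
    rfl
  rw [ext2_X2 hab, ext2_X2 hae, kv_conj _ _ _ (sf_lv_lv _ _), hb, (ext2_fix hbe _ hab hae).1]
  have hw : sf (lv a : Vs n F) (lv b + lv e) = 0 := by rw [sf_add_right, sf_lv_lv, sf_lv_lv, add_zero]
  refine sp_ext_vec fun x => ?_
  rw [sp_mul_mulVec, kv_mulVec _ _ (sf_lv_lv a b), kv_mulVec _ _ (sf_lv_lv a e), kv_mulVec _ _ hw]
  simp only [sf_add_left, sf_add_right, sf_smul_left, sf_lv_lv, mul_zero, add_zero]
  module

end CfsgLib.Lie.BoundedPres
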