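import Cfsg.Agent.Lib.Lie.BoundedPres.SpCore

/-!
# A family of copies of `Sp₄(F)` from one copy and a transitive group of permutations
-/

set_option autoImplicit false

namespace CfsgLib.Lie.BoundedPres

open Matrix CfsgLib.Sp CfsgLib.Char.SpAmalgam

attribute [-simp] Matrix.mulVec_single_one Matrix.mulVec_single

variable {F : Type*} [Field F] {n : ℕ}

theorem flip2_X2 : flip2 (X2 : Spg 2 F) = X2 := by
  have h : ∀ A : Spg 2 F, flip2 A =
      spPerm (Equiv.swap (0 : Fin 2) 1) * A * (spPerm (Equiv.swap (0 : Fin 2) 1))⁻¹ := fun _ => rfl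
  rw [h, X2, kv_conj _ _ _ (sf_lv_lv 0 1), spPerm_lv, spPerm_lv, Equiv.swap_apply_left,
    Equiv.swap_apply_right]
  refine sp_ext_vec fun x => ?_
  rw [kv_mulVec _ _ (sf_lv_lv 1 0), kv_mulVec _ _ (sf_lv_lv 0 1)]
  module

theorem inM_flip {A : Spg 2 F} (h : InM 0 A) : InM 0 (flip2 A) :=
  ⟨fun k => by rw [flip2_lv, h.1, spPerm_lv, Equiv.swap_apply_self], fun k h0 h1 => by omega⟩

theorem inM_commute {A B : Spg 2 F} (hA : InM 0 A) (hB : InM 0 B) : Commute A B := by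
  have key : ∀ {C : Spg 2 F}, InM 0 C → ∀ k i, (C.1 *ᵥ rv k - rv k : Vs 2 F) (.inr i) = 0 := by
    intro C hC k i
    have h := sf_sp C (rv k) (lv i)
    rw [hC.1, sf_lv, sf_lv] at h
    rw [Pi.sub_apply, h, sub_self]
  have fixed : ∀ {C : Spg 2 F}, InM 0 C → ∀ v : Vs 2 F, (∀ i, v (.inr i) = 0) → C.1 *ᵥ v = v := by
    intro C hC v hv
    have e : v = v (.inl 0) • lv 0 + v (.inl 1) • lv 1 := by
      funext x
      rcases x with i | i <;> fin_cases i <;> simp [lv, hv]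
    rw [e, Matrix.mulVec_add, Matrix.mulVec_smul, Matrix.mulVec_smul, hC.1, hC.1]
  refine sp_ext_basis fun k => ⟨by simp only [sp_mul_mulVec, hA.1, hB.1], ?_⟩
  rw [sp_mul_mulVec, sp_mul_mulVec,
    show B.1 *ᵥ rv k = rv k + (B.1 *ᵥ rv k - rv k) by abel,
    show A.1 *ᵥ rv k = rv k + (A.1 *ᵥ rv k - rv k) by abel,
    Matrix.mulVec_add A.1, Matrix.mulVec_add B.1, fixed hA _ (key hB k), fixed hB _ (key hA k)]
  abel

theorem inS_commute {A B : Spg 2 F} (hA : InS 0 A) (hB : InS 1 B) : Commute A B := by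
  obtain ⟨B', -, rfl⟩ := exists_emb_inS (j := (0 : Fin 1)) hB
  exact pair0_commute_emb hA B'

/-- unipotent elements are made of root elements -/
theorem exists_form_inM_two {A : Spg 2 F} (hA : InM 0 A) :
    ∃ A₀ C A₁ : Spg 2 F, (InS 0 A₀ ∧ InM 0 A₀) ∧
      (C = 1 ∨ ∃ d : Spg 2 F, InS 0 (flip2 d) ∧ C = d * X2 * d⁻¹) ∧
      (InS 0 (flip2 A₁) ∧ InM 0 A₁) ∧ A = A₀ * C * A₁ := by
  obtain ⟨t, c, t', rfl⟩ := exists_form_inM (n := 0) hA
  refine ⟨zU t, xU (c • lv 0), emb (zU t'), ⟨inS_zU t, inM_zU t⟩, ?_, ⟨?_, inM_emb_zU t'⟩, rfl⟩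
  · by_cases hc : c = 0
    · exact Or.inl (by rw [hc, zero_smul, xU_zero])
    refine Or.inr ⟨spDiag (Pi.mulSingle 1 (Units.mk0 c hc)), ?_, ?_⟩
    · refine inS_flip.2 ?_
      rw [flip2_flip2]
      intro k hk
      obtain rfl : k = 0 := by omega
      simp only [spDiag_lv, spDiag_rv]
      simp
    · rw [X2, kv_conj _ _ _ (sf_lv_lv 0 1), spDiag_lv, spDiag_lv]
      simp only [Pi.mulSingle_eq_same, Pi.mulSingle_eq_of_ne (show (0 : Fin 2) ≠ 1 by decide), Units.val_mk0,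
        Units.val_one, one_smul]
      rw [xU, e0_eq, show CfsgLib.Char.SpAmalgam.em (c • lv (0 : Fin 1)) = c • (lv (1 : Fin 2) : Vs 2 F) by
        rw [show (1 : Fin 2) = (0 : Fin 1).succ from rfl, ← em_lv, CfsgLib.Char.SpAmalgam.em,
          CfsgLib.Char.SpAmalgam.em, CfsgLib.Char.SpAmalgam.vec_smul]; simp]
  · refine inS_flip.2 ?_
    rw [flip2_flip2]
    exact (inS_emb (j := (0 : Fin 1))).2 (inS_zU t')

variable {Γ P : Type*} [Group Γ] [Group P]

open Classical in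
/-- the family obtained by moving one copy -/
noncomputable def famP (c : P →* Equiv.Perm (Fin n)) (ρ : P →* Γ) (ψ : Spg 2 F →* Γ) (a b i j : Fin n) :
    Spg 2 F →* Γ :=
  if h : ∃ σ, c σ a = i ∧ c σ b = j then (MulAut.conj (ρ h.choose)).toMonoidHom.comp ψ else ψ

/-- symmetry of the permutation group, enough to move the first points around -/
structure SpPts (c : P →* Equiv.Perm (Fin n)) (a b e f : Fin n) : Prop where
  hab : a ≠ b
  hae : a ≠ e
  hbe : b ≠ e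
  hef : e ≠ f
  tr2 : ∀ i j, i ≠ j → ∃ σ, c σ a = i ∧ c σ b = j
  trA : ∀ i j k, i ≠ j → i ≠ k → j ≠ k →
    ∃ σ, c σ e = k ∧ ((c σ a = i ∧ c σ b = j) ∨ (c σ a = j ∧ c σ b = i))
  trB : ∀ i j k, i ≠ j → i ≠ k → j ≠ k →
    ∃ σ, c σ a = i ∧ ((c σ b = j ∧ c σ e = k) ∨ (c σ b = k ∧ c σ e = j))
  tr4 : ∀ i j k l, i ≠ j → i ≠ k → i ≠ l → j ≠ k → j ≠ l → k ≠ l →
    ∃ σ, (c σ e = k ∧ c σ f = l) ∧ ((c σ a = i ∧ c σ b = j) ∨ (c σ a = j ∧ c σ b = i))

/-- the relations on the stabilisers and the exchange of the two first points -/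
structure SpBase (c : P →* Equiv.Perm (Fin n)) (ρ : P →* Γ) (ψ : Spg 2 F →* Γ) (a b : Fin n) : Prop where
  stabS : ∀ σ, c σ a = a → ∀ A, InS 0 A → Commute (ρ σ) (ψ A)
  stabX : ∀ σ, c σ a = a → c σ b = b → Commute (ρ σ) (ψ X2)
  tau : ∃ τ, c τ a = b ∧ c τ b = a ∧ (∀ A, InS 0 A → ρ τ * ψ A * (ρ τ)⁻¹ = ψ (flip2 A)) ∧
    ρ τ * ψ X2 * (ρ τ)⁻¹ = ψ (flip2 X2)

/-- the relations -/
structure SpRels (π : Γ →* Spg n F) (c : P →* Equiv.Perm (Fin n)) (ρ : P →* Γ) (ψ : Spg 2 F →* Γ)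
    (a b e f : Fin n) : Prop extends SpBase c ρ ψ a b where
  hρ : ∀ σ, π (ρ σ) = spPerm (c σ)
  hψ : ∀ A, π (ψ A) = ext2 a b A
  bXS : ∀ B, InS 0 B → Commute (ψ X2) (famP c ρ ψ a b e a B)
  bXX : Commute (ψ X2) (famP c ρ ψ a b a e X2)
  bX4 : Commute (ψ X2) (famP c ρ ψ a b e f X2)
  tri1 : ψ X2 * famP c ρ ψ a b a e X2 =
    famP c ρ ψ a b b e L2 * ψ X2 * (famP c ρ ψ a b b e L2)⁻¹
  tri2 : famP c ρ ψ a b a e X2 * ψ X2 =
    famP c ρ ψ a b e b L2 * famP c ρ ψ a b a e X2 * (famP c ρ ψ a b e b L2)⁻¹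

namespace SpBase

variable {c : P →* Equiv.Perm (Fin n)} {ρ : P →* Γ} {ψ : Spg 2 F →* Γ} {a b : Fin n}

variable (R : SpBase c ρ ψ a b)
include R

theorem stab_pair {σ : P} (ha : c σ a = a) (hb : c σ b = b) (A : Spg 2 F) : Commute (ρ σ) (ψ A) := by
  obtain ⟨τ, t0, t1, hτ, -⟩ := R.tau
  have hm : A ∈ Subgroup.closure ({A : Spg 2 F | InS 0 A} ∪ {A : Spg 2 F | InS 0 (flip2 A)} ∪ {X2}) := by
    rw [closure_two]; trivial
  induction hm using Subgroup.closure_induction with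
  | mem B hB =>
    rcases hB with (hB | hB) | rfl
    · exact R.stabS σ ha B hB
    · have h := R.stabS (τ⁻¹ * σ * τ) (by
        rw [map_mul, map_mul, map_inv]
        simp [t0, hb, Equiv.Perm.inv_def, Equiv.symm_apply_eq]) _ hB
      have h' := (Commute.conj_iff (ρ τ)).2 h
      rw [hτ _ hB, flip2_flip2] at h'
      rwa [show ρ τ * ρ (τ⁻¹ * σ * τ) * (ρ τ)⁻¹ = ρ σ by simp only [map_mul, map_inv]; group] at h'
    · exact R.stabX σ ha hb
  | one => rw [map_one]; exact Commute.one_right _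
  | mul x y _ _ hx hy => rw [map_mul]; exact hx.mul_right hy
  | inv x _ hx => rw [map_inv]; exact hx.inv_right

theorem famP_eq (σ : P) (A : Spg 2 F) :
    famP c ρ ψ a b (c σ a) (c σ b) A = ρ σ * ψ A * (ρ σ)⁻¹ := by
  have h : ∃ s, c s a = c σ a ∧ c s b = c σ b := ⟨σ, rfl, rfl⟩
  rw [famP, dif_pos h]
  obtain ⟨h0, h1⟩ := h.choose_spec
  set s := h.choose
  show ρ s * ψ A * (ρ s)⁻¹ = _
  have key := R.stab_pair (σ := σ⁻¹ * s) (by simp [h0, Equiv.Perm.inv_def]) (by simp [h1, Equiv.Perm.inv_def]) A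
  calc ρ s * ψ A * (ρ s)⁻¹ = ρ σ * (ρ (σ⁻¹ * s) * ψ A * (ρ (σ⁻¹ * s))⁻¹) * (ρ σ)⁻¹ := by
        simp only [map_mul, map_inv]; group
    _ = _ := by rw [key.eq, mul_inv_cancel_right]

theorem famP_self (A : Spg 2 F) : famP c ρ ψ a b a b A = ψ A := by
  simpa using R.famP_eq 1 A

end SpBase

namespace SpRels

variable {π : Γ →* Spg n F} {c : P →* Equiv.Perm (Fin n)} {ρ : P →* Γ} {ψ : Spg 2 F →* Γ} {a b e f : Fin n}

variable (R : SpRels π c ρ ψ a b e f)
include R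

variable (S : SpPts c a b e f)
include S

theorem famP_conj (σ : P) {i j : Fin n} (h : i ≠ j) (A : Spg 2 F) :
    ρ σ * famP c ρ ψ a b i j A * (ρ σ)⁻¹ = famP c ρ ψ a b (c σ i) (c σ j) A := by
  obtain ⟨s, rfl, rfl⟩ := S.tr2 i j h
  rw [R.famP_eq, show c σ (c s a) = c (σ * s) a by simp, show c σ (c s b) = c (σ * s) b by simp, R.famP_eq,
    map_mul]
  group

theorem flipP {i j : Fin n} (h : i ≠ j) (A : Spg 2 F) :
    famP c ρ ψ a b j i A = famP c ρ ψ a b i j (flip2 A) := by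
  obtain ⟨s, rfl, rfl⟩ := S.tr2 i j h
  obtain ⟨τ, t0, t1, hτ, hτX⟩ := R.tau
  have hall : ρ τ * ψ A * (ρ τ)⁻¹ = ψ (flip2 A) := by
    have e : ((MulAut.conj (ρ τ)).toMonoidHom.comp ψ) = ψ.comp flip2 := by
      refine MonoidHom.eq_of_eqOn_dense closure_two ?_
      intro B hB
      show ρ τ * ψ B * (ρ τ)⁻¹ = ψ (flip2 B)
      rcases hB with (hB | hB) | rfl
      · exact hτ B hB
      · have h2 := (R.stab_pair (σ := τ * τ) (by simp [t0, t1]) (by simp [t0, t1]) (flip2 B)).eq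
        have h3 := hτ _ hB
        rw [flip2_flip2] at h3
        rw [← h3, eq_comm]
        calc ψ (flip2 B) = ρ (τ * τ) * ψ (flip2 B) * (ρ (τ * τ))⁻¹ := by rw [h2, mul_inv_cancel_right]
          _ = _ := by rw [map_mul]; group
      · exact hτX
    exact DFunLike.congr_fun e A
  have hs : c (s * τ) a = c s b ∧ c (s * τ) b = c s a := by simp [t0, t1]
  rw [← hs.1, ← hs.2, R.famP_eq, show c (s * τ) b = c s a from hs.2, show c (s * τ) a = c s b from hs.1,
    R.famP_eq, ← hall, map_mul]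
  group

theorem shareP {i j k : Fin n} (hij : i ≠ j) (hik : i ≠ k) {A : Spg 2 F} (hA : InS 0 A) :
    famP c ρ ψ a b i j A = famP c ρ ψ a b i k A := by
  obtain ⟨s, hs0, rfl⟩ := S.tr2 i j hij
  obtain ⟨t, ht0, rfl⟩ := S.tr2 i k hik
  have key := R.stabS (t⁻¹ * s) (by simp [hs0, ← ht0, Equiv.Perm.inv_def]) A hA
  calc famP c ρ ψ a b i (c s b) A = ρ s * ψ A * (ρ s)⁻¹ := by rw [← hs0, R.famP_eq]
    _ = ρ t * (ρ (t⁻¹ * s) * ψ A * (ρ (t⁻¹ * s))⁻¹) * (ρ t)⁻¹ := by simp only [map_mul, map_inv]; group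
    _ = _ := by rw [key.eq, mul_inv_cancel_right, ← ht0, R.famP_eq]

/-- long root groups on distinct pairs commute -/
theorem commSS {i j k l : Fin n} (hij : i ≠ j) (hkl : k ≠ l) (hik : i ≠ k) {A B : Spg 2 F} (hA : InS 0 A)
    (hB : InS 0 B) : Commute (famP c ρ ψ a b i j A) (famP c ρ ψ a b k l B) := by
  rw [R.shareP S hij hik hA, R.shareP S hkl hik.symm hB, R.flipP S hik]
  exact (inS_commute hA (inS_flip.1 hB)).map _

theorem commXS {i j k : Fin n} (hij : i ≠ j) (hki : k ≠ i) (hkj : k ≠ j) {B : Spg 2 F} (hB : InS 0 B) :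
    Commute (famP c ρ ψ a b i j X2) (famP c ρ ψ a b k i B) := by
  obtain ⟨σ, he, h⟩ := S.trA i j k hij hki.symm hkj.symm
  have key := (Commute.conj_iff (ρ σ)).2 (R.bXS B hB)
  rw [R.famP_conj S σ S.hae.symm] at key
  rw [← R.famP_self X2, R.famP_conj S σ S.hab, he] at key
  rcases h with ⟨rfl, rfl⟩ | ⟨rfl, rfl⟩
  · exact key
  · rw [R.flipP S hij.symm, flip2_X2, R.shareP S hki hkj hB]
    exact key

theorem commS {i j k : Fin n} (hij : i ≠ j) (hki : k ≠ i) (hkj : k ≠ j) {A B : Spg 2 F} (hA : InM 0 A)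
    (hB : InS 0 B) : Commute (famP c ρ ψ a b i j A) (famP c ρ ψ a b k i B) := by
  obtain ⟨A₀, C, A₁, h0, hC, h1, rfl⟩ := exists_form_inM_two hA
  rw [map_mul, map_mul]
  have c0 := R.commSS S hij hki hki.symm h0.1 hB
  have c1 : Commute (famP c ρ ψ a b i j A₁) (famP c ρ ψ a b k i B) := by
    rw [R.flipP S hij.symm]
    exact R.commSS S hij.symm hki hkj.symm h1.1 hB
  refine (c0.mul_left ?_).mul_left c1
  rcases hC with rfl | ⟨d, hd, rfl⟩
  · rw [map_one]; exact Commute.one_left _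
  have cd : Commute (famP c ρ ψ a b i j d) (famP c ρ ψ a b k i B) := by
    rw [R.flipP S hij.symm]
    exact R.commSS S hij.symm hki hkj.symm hd hB
  rw [map_mul, map_mul, map_inv]
  exact (cd.mul_left (R.commXS S hij hki hkj hB)).mul_left cd.inv_left

theorem commXX_share {i j l : Fin n} (hij : i ≠ j) (hil : i ≠ l) (hjl : j ≠ l) :
    Commute (famP c ρ ψ a b i j X2) (famP c ρ ψ a b i l X2) := by
  obtain ⟨σ, ha, h⟩ := S.trB i j l hij hil hjl
  have key := (Commute.conj_iff (ρ σ)).2 R.bXX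
  rw [R.famP_conj S σ S.hae, ← R.famP_self X2, R.famP_conj S σ S.hab, ha] at key
  rcases h with ⟨rfl, rfl⟩ | ⟨rfl, rfl⟩
  exacts [key, key.symm]

theorem commXX_disjoint {i j k l : Fin n} (h1 : i ≠ j) (h2 : i ≠ k) (h3 : i ≠ l) (h4 : j ≠ k) (h5 : j ≠ l)
    (h6 : k ≠ l) : Commute (famP c ρ ψ a b i j X2) (famP c ρ ψ a b k l X2) := by
  obtain ⟨σ, ⟨he, hf⟩, h⟩ := S.tr4 i j k l h1 h2 h3 h4 h5 h6
  have key := (Commute.conj_iff (ρ σ)).2 R.bX4
  rw [R.famP_conj S σ S.hef, ← R.famP_self X2, R.famP_conj S σ S.hab, he, hf] at key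
  rcases h with ⟨rfl, rfl⟩ | ⟨rfl, rfl⟩
  · exact key
  · rwa [R.flipP S h1.symm, flip2_X2]

theorem commM_share {i j l : Fin n} (hij : i ≠ j) (hil : i ≠ l) (hjl : j ≠ l) {A B : Spg 2 F} (hA : InM 0 A)
    (hB : InM 0 B) : Commute (famP c ρ ψ a b i j A) (famP c ρ ψ a b i l B) := by
  obtain ⟨A₀, C, A₁, h0, hC, h1, rfl⟩ := exists_form_inM_two hA
  obtain ⟨B₀, D, B₁, g0, hD, g1, hBe⟩ := exists_form_inM_two hB
  -- the parts of `A` at `i`, at `j`, and the root element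
  have p0 : Commute (famP c ρ ψ a b i j A₀) (famP c ρ ψ a b i l B) := by
    rw [R.shareP S hij hil h0.1]
    exact (inM_commute h0.2 hB).map _
  have side : ∀ E, InS 0 (flip2 E) → Commute (famP c ρ ψ a b i j E) (famP c ρ ψ a b i l B) := by
    intro E hE
    rw [R.flipP S hij.symm]
    exact (R.commS S hil hij.symm hjl hB hE).symm
  rw [map_mul, map_mul]
  refine (p0.mul_left ?_).mul_left (side _ h1.1)
  rcases hC with rfl | ⟨d, hd, rfl⟩
  · rw [map_one]; exact Commute.one_left _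
  have cd := side d hd
  -- the root element of `A` with `B`
  have cX : Commute (famP c ρ ψ a b i j X2) (famP c ρ ψ a b i l B) := by
    subst hBe
    rw [map_mul, map_mul]
    have q0 : Commute (famP c ρ ψ a b i j X2) (famP c ρ ψ a b i l B₀) := by
      rw [R.shareP S hil hij g0.1]
      exact (inM_commute inM_X2 g0.2).map _
    have side' : ∀ E, InS 0 (flip2 E) → Commute (famP c ρ ψ a b i j X2) (famP c ρ ψ a b i l E) := by
      intro E hE
      rw [R.flipP S hil.symm]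
      exact R.commXS S hij hil.symm hjl.symm hE
    refine (q0.mul_right ?_).mul_right (side' _ g1.1)
    rcases hD with rfl | ⟨d', hd', rfl⟩
    · rw [map_one]; exact Commute.one_right _
    rw [map_mul, map_mul, map_inv]
    exact ((side' d' hd').mul_right (R.commXX_share S hij hil hjl)).mul_right (side' d' hd').inv_right
  rw [map_mul, map_mul, map_inv]
  exact (cd.mul_left cX).mul_left cd.inv_left

theorem commM_disjoint {i j k l : Fin n} (h1 : i ≠ j) (h2 : i ≠ k) (h3 : i ≠ l) (h4 : j ≠ k) (h5 : j ≠ l)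
    (h6 : k ≠ l) {A B : Spg 2 F} (hA : InM 0 A) (hB : InM 0 B) :
    Commute (famP c ρ ψ a b i j A) (famP c ρ ψ a b k l B) := by
  -- long root parts of either element commute with the whole of the other
  have sideL : ∀ {i j k l : Fin n}, i ≠ j → i ≠ k → i ≠ l → j ≠ k → j ≠ l → k ≠ l → ∀ {E M : Spg 2 F},
      InS 0 (flip2 E) → InM 0 M → Commute (famP c ρ ψ a b i j E) (famP c ρ ψ a b k l M) := by
    intro i j k l h1 h2 h3 h4 h5 h6 E M hE hM
    rw [R.flipP S h1.symm, R.shareP S h1.symm h4 hE]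
    exact (R.commS S h6 h4 h5 hM hE).symm
  have sideR : ∀ {i j k l : Fin n}, i ≠ j → i ≠ k → i ≠ l → j ≠ k → j ≠ l → k ≠ l → ∀ {E M : Spg 2 F},
      InS 0 E → InM 0 M → Commute (famP c ρ ψ a b i j E) (famP c ρ ψ a b k l M) := by
    intro i j k l h1 h2 h3 h4 h5 h6 E M hE hM
    rw [R.shareP S h1 h2 hE]
    exact (R.commS S h6 h2 h3 hM hE).symm
  obtain ⟨A₀, C, A₁, h0, hC, g0, rfl⟩ := exists_form_inM_two hA
  rw [map_mul, map_mul]
  refine ((sideR h1 h2 h3 h4 h5 h6 h0.1 hB).mul_left ?_).mul_left (sideL h1 h2 h3 h4 h5 h6 g0.1 hB)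
  rcases hC with rfl | ⟨d, hd, rfl⟩
  · rw [map_one]; exact Commute.one_left _
  have cd := sideL h1 h2 h3 h4 h5 h6 hd hB
  have cX : Commute (famP c ρ ψ a b i j X2) (famP c ρ ψ a b k l B) := by
    obtain ⟨B₀, D, B₁, f0, hD, f1, rfl⟩ := exists_form_inM_two hB
    rw [map_mul, map_mul]
    refine ((sideR h6 h2.symm h4.symm h3.symm h5.symm h1 f0.1 inM_X2).symm.mul_right ?_).mul_right
      (sideL h6 h2.symm h4.symm h3.symm h5.symm h1 f1.1 inM_X2).symm
    rcases hD with rfl | ⟨d', hd', rfl⟩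
    · rw [map_one]; exact Commute.one_right _
    have cd' := (sideL h6 h2.symm h4.symm h3.symm h5.symm h1 hd' (inM_X2 (F := F))).symm
    rw [map_mul, map_mul, map_inv]
    exact (cd'.mul_right (R.commXX_disjoint S h1 h2 h3 h4 h5 h6)).mul_right cd'.inv_right
  rw [map_mul, map_mul, map_inv]
  exact (cd.mul_left cX).mul_left cd.inv_left

theorem triP {i j k : Fin n} (hij : i ≠ j) (hik : i ≠ k) (hjk : j ≠ k) :
    famP c ρ ψ a b i j X2 * famP c ρ ψ a b i k X2 =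
      famP c ρ ψ a b j k L2 * famP c ρ ψ a b i j X2 * (famP c ρ ψ a b j k L2)⁻¹ := by
  obtain ⟨σ, ha, h⟩ := S.trB i j k hij hik hjk
  have hc1 : ∀ x y : Γ, ρ σ * (x * y) * (ρ σ)⁻¹ = (ρ σ * x * (ρ σ)⁻¹) * (ρ σ * y * (ρ σ)⁻¹) :=
    fun x y => by group
  have hc2 : ∀ x y : Γ, ρ σ * (x * y * x⁻¹) * (ρ σ)⁻¹ =
      (ρ σ * x * (ρ σ)⁻¹) * (ρ σ * y * (ρ σ)⁻¹) * (ρ σ * x * (ρ σ)⁻¹)⁻¹ := fun x y => by group
  rcases h with ⟨hb, he⟩ | ⟨hb, he⟩
  · have key := congrArg (fun g => ρ σ * g * (ρ σ)⁻¹) R.tri1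
    simp only [hc2, hc1, ← R.famP_self X2, R.famP_conj S σ S.hab, R.famP_conj S σ S.hae,
      R.famP_conj S σ S.hbe, ha, hb, he] at key
    exact key
  · have key := congrArg (fun g => ρ σ * g * (ρ σ)⁻¹) R.tri2
    simp only [hc2, hc1, ← R.famP_self X2, R.famP_conj S σ S.hab, R.famP_conj S σ S.hae,
      R.famP_conj S σ S.hbe.symm, ha, hb, he] at key
    exact key

theorem spFam : SpFam π (famP c ρ ψ a b) where
  hπ i j hij A := by
    obtain ⟨σ, rfl, rfl⟩ := S.tr2 i j hij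
    rw [R.famP_eq, map_mul, map_mul, map_inv, R.hρ, R.hψ, spPerm_ext2 _ S.hab]
  flip i j hij A := R.flipP S hij A
  share i j k hij hik A hA := R.shareP S hij hik hA
  comS i j k hij hki hkj A B hA hB := R.commS S hij hki hkj hA hB
  comM i j k l hij hkl A B hA hB := by
    -- move a common index to the front
    by_cases hik : i = k
    · subst hik
      by_cases hjl : j = l
      · subst hjl; exact (inM_commute hA hB).map _
      · exact R.commM_share S hij hkl hjl hA hB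
    by_cases hil : i = l
    · subst hil
      rw [R.flipP S hkl.symm]
      by_cases hjk : j = k
      · subst hjk; exact (inM_commute hA (inM_flip hB)).map _
      · exact R.commM_share S hij hkl.symm hjk hA (inM_flip hB)
    by_cases hjk : j = k
    · subst hjk
      rw [R.flipP S hij.symm]
      exact R.commM_share S hij.symm hkl hil (inM_flip hA) hB
    by_cases hjl : j = l
    · subst hjl
      rw [R.flipP S hij.symm, R.flipP S hkl.symm]
      exact R.commM_share S hij.symm hkl.symm hik (inM_flip hA) (inM_flip hB)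
    exact R.commM_disjoint S hij hik hil hjk hjl hkl hA hB
  tri i j k hij hik hjk := R.triP S hij hik hjk

end SpRels

end CfsgLib.Lie.BoundedPres
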