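import Cfsg.Agent.Lib.Lie.BoundedPres.SpPts
import Cfsg.Agent.Lib.Lie.BoundedPres.SpPairGen
import Cfsg.Agent.Lib.Lie.BoundedPres.SysPres
import Cfsg.Agent.Lib.Lie.ShortPres.B2Main

/-!
# `Sp_{2n}(F)`, `n ≥ 3`: boundedly many relations
-/

set_option autoImplicit false

namespace CfsgLib.Lie.BoundedPres

open Matrix CfsgLib.Sp CfsgLib.Char.SpAmalgam

attribute [-simp] Matrix.mulVec_single_one Matrix.mulVec_single

variable {F : Type*} [Field F] {n : ℕ} {P : Type} [Group P]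

/-- the equations; `q` lists the five permutations used -/
noncomputable def eqsSp {G : Type*} [Group G] (W : P → G) (U : Spg 2 F → G) {s₁ s₂ : ℕ} (S₁ : Fin s₁ → P)
    (S₂ : Fin s₂ → P) (g₁ g₂ : Spg 2 F) (τ : P) (q : Fin 5 → P) : List (G × G) :=
  let Y := fun σ A => W σ * U A * (W σ)⁻¹
  (List.ofFn fun i => (W (S₁ i) * U g₁, U g₁ * W (S₁ i))) ++
  (List.ofFn fun i => (W (S₁ i) * U g₂, U g₂ * W (S₁ i))) ++
  (List.ofFn fun i => (W (S₂ i) * U X2, U X2 * W (S₂ i))) ++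
  [(Y τ g₁, U (flip2 g₁)), (Y τ g₂, U (flip2 g₂)), (Y τ X2, U (flip2 X2)),
    (U X2 * Y (q 0) g₁, Y (q 0) g₁ * U X2), (U X2 * Y (q 0) g₂, Y (q 0) g₂ * U X2),
    (U X2 * Y (q 1) X2, Y (q 1) X2 * U X2), (U X2 * Y (q 2) X2, Y (q 2) X2 * U X2),
    (U X2 * Y (q 1) X2, Y (q 3) L2 * U X2 * (Y (q 3) L2)⁻¹),
    (Y (q 1) X2 * U X2, Y (q 4) L2 * Y (q 1) X2 * (Y (q 4) L2)⁻¹)]

theorem map_eqsSp {G H : Type*} [Group G] [Group H] (φ : G →* H) (W : P → G) (U : Spg 2 F → G) {s₁ s₂ : ℕ}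
    (S₁ : Fin s₁ → P) (S₂ : Fin s₂ → P) (g₁ g₂ : Spg 2 F) (τ : P) (q : Fin 5 → P) :
    eqsSp (fun σ => φ (W σ)) (fun A => φ (U A)) S₁ S₂ g₁ g₂ τ q =
      (eqsSp W U S₁ S₂ g₁ g₂ τ q).map (Prod.map φ φ) := by
  simp [eqsSp, map_mul, map_inv, Function.comp_def, List.ofFn_comp']

/-- the positions of the five permutations -/
structure SpSel (c : P →* Equiv.Perm (Fin n)) (a b e f : Fin n) (τ : P) (q : Fin 5 → P) : Prop where
  t : c τ a = b ∧ c τ b = a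
  q0 : c (q 0) a = e ∧ c (q 0) b = a
  q1 : c (q 1) a = a ∧ c (q 1) b = e
  q2 : c (q 2) a = e ∧ c (q 2) b = f
  q3 : c (q 3) a = b ∧ c (q 3) b = e
  q4 : c (q 4) a = e ∧ c (q 4) b = b

variable {c : P →* Equiv.Perm (Fin n)} {a b e f : Fin n} {s₁ s₂ : ℕ} {S₁ : Fin s₁ → P} {S₂ : Fin s₂ → P}
  {g₁ g₂ : Spg 2 F} {τ : P} {q : Fin 5 → P}

theorem rels_of_eqsSp {Γ : Type*} [Group Γ] {π : Γ →* Spg n F} {ρ : P →* Γ} {ψ : Spg 2 F →* Γ}
    (hρ : ∀ σ, π (ρ σ) = spPerm (c σ)) (hψ : ∀ A, π (ψ A) = ext2 a b A) (Q : SpSel c a b e f τ q)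
    (hS₁ : ∀ σ, c σ a = a → σ ∈ Subgroup.closure (Set.range S₁))
    (hS₂ : ∀ σ, c σ a = a → c σ b = b → σ ∈ Subgroup.closure (Set.range S₂))
    (hgen : ∀ A, InS 0 A → A ∈ Subgroup.closure ({g₁, g₂} : Set (Spg 2 F)))
    (h : ∀ x ∈ eqsSp (fun σ => ρ σ) (fun A => ψ A) S₁ S₂ g₁ g₂ τ q, x.1 = x.2) :
    SpRels π c ρ ψ a b e f := by
  simp only [eqsSp, List.forall_mem_append, List.forall_mem_cons, List.forall_mem_ofFn_iff, List.not_mem_nil,
    IsEmpty.forall_iff, implies_true, and_true] at h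
  obtain ⟨⟨⟨hu, hv⟩, hx⟩, t1, t2, t3, x1, x2, xx, x4, r1, r2⟩ := h
  have stabS : ∀ σ, c σ a = a → ∀ A, InS 0 A → Commute (ρ σ) (ψ A) := by
    intro σ hσ A hA
    refine commute_closure (s := ρ '' Set.range S₁) (t := ψ '' {g₁, g₂}) ?_ ?_ ?_
    · rintro _ ⟨_, ⟨i, rfl⟩, rfl⟩ _ ⟨B, hB, rfl⟩
      rcases hB with rfl | rfl
      exacts [hu i, hv i]
    · rw [← MonoidHom.map_closure]; exact ⟨σ, hS₁ σ hσ, rfl⟩
    · rw [← MonoidHom.map_closure]; exact ⟨A, hgen A hA, rfl⟩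
  have stabX : ∀ σ, c σ a = a → c σ b = b → Commute (ρ σ) (ψ X2) := by
    intro σ ha hb
    refine commute_closure (s := ρ '' Set.range S₂) (t := {ψ X2}) ?_ ?_ (Subgroup.subset_closure rfl)
    · rintro _ ⟨_, ⟨i, rfl⟩, rfl⟩ _ rfl
      exact hx i
    · rw [← MonoidHom.map_closure]; exact ⟨σ, hS₂ σ ha hb, rfl⟩
  have htau : ∀ A, InS 0 A → ρ τ * ψ A * (ρ τ)⁻¹ = ψ (flip2 A) := fun A hA =>
    MonoidHom.eqOn_closure (f := (MulAut.conj (ρ τ)).toMonoidHom.comp ψ) (g := ψ.comp flip2)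
      (fun B hB => by rcases hB with rfl | rfl; exacts [t1, t2]) (hgen A hA)
  have B : SpBase c ρ ψ a b := ⟨stabS, stabX, τ, Q.t.1, Q.t.2, htau, t3⟩
  have e0 := B.famP_eq (q 0)
  have e1 := B.famP_eq (q 1)
  have e2 := B.famP_eq (q 2)
  have e3 := B.famP_eq (q 3)
  have e4 := B.famP_eq (q 4)
  rw [Q.q0.1, Q.q0.2] at e0
  rw [Q.q1.1, Q.q1.2] at e1
  rw [Q.q2.1, Q.q2.2] at e2
  rw [Q.q3.1, Q.q3.2] at e3
  rw [Q.q4.1, Q.q4.2] at e4
  refine { toSpBase := B, hρ := hρ, hψ := hψ, bXS := ?_, bXX := ?_, bX4 := ?_, tri1 := ?_, tri2 := ?_ }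
  · intro A hA
    refine commute_closure (s := {ψ X2}) (t := famP c ρ ψ a b e a '' {g₁, g₂}) ?_
      (Subgroup.subset_closure rfl) ?_
    · rintro _ rfl _ ⟨B, hB, rfl⟩
      rw [e0]
      rcases hB with rfl | rfl
      exacts [x1, x2]
    · rw [← MonoidHom.map_closure]; exact ⟨A, hgen A hA, rfl⟩
  · rw [e1]; exact xx
  · rw [e2]; exact x4
  · rw [e1, e3]; exact r1
  · rw [e1, e4]; exact r2

theorem eqsSp_model (S : SpPts c a b e f) (Q : SpSel c a b e f τ q) (hS₁ : ∀ i, c (S₁ i) a = a)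
    (hS₂ : ∀ i, c (S₂ i) a = a ∧ c (S₂ i) b = b) (hg₁ : InS 0 g₁) (hg₂ : InS 0 g₂) :
    ∀ x ∈ eqsSp (fun σ => (spPerm (c σ) : Spg n F)) (fun A => ext2 a b A) S₁ S₂ g₁ g₂ τ q, x.1 = x.2 := by
  have hc : ∀ σ A, spPerm (c σ) * ext2 a b A * (spPerm (c σ))⁻¹ = ext2 (c σ a) (c σ b) (A : Spg 2 F) :=
    fun σ A => spPerm_ext2 _ S.hab A
  have hs : ∀ i A, InS 0 A → spPerm (c (S₁ i)) * ext2 a b A = (ext2 a b A : Spg n F) * spPerm (c (S₁ i)) := by
    intro i A hA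
    have hb : c (S₁ i) b ≠ a := fun h => S.hab ((c (S₁ i)).injective (h.trans (hS₁ i).symm)).symm
    rw [← mul_inv_eq_iff_eq_mul, hc, hS₁]
    exact ext2_share hb.symm S.hab hA
  simp only [eqsSp, List.forall_mem_append, List.forall_mem_cons, List.forall_mem_ofFn_iff, List.not_mem_nil,
    IsEmpty.forall_iff, implies_true, and_true, hc, Q.t, Q.q0, Q.q1, Q.q2, Q.q3, Q.q4]
  refine ⟨⟨⟨fun i => hs i g₁ hg₁, fun i => hs i g₂ hg₂⟩, fun i => ?_⟩, ext2_flip S.hab _, ext2_flip S.hab _,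
    ext2_flip S.hab _, ?_, ?_, ?_, ?_, tri_model S.hab S.hae S.hbe, ?_⟩
  · rw [← mul_inv_eq_iff_eq_mul, hc, (hS₂ i).1, (hS₂ i).2]
  · exact (X2_commute_S S.hab S.hae.symm S.hbe.symm hg₁).eq
  · exact (X2_commute_S S.hab S.hae.symm S.hbe.symm hg₂).eq
  · rw [ext2_X2 S.hab, ext2_X2 S.hae]; exact (kv_lv_commute _ _ _ _).eq
  · rw [ext2_X2 S.hab, ext2_X2 S.hef]; exact (kv_lv_commute _ _ _ _).eq
  · exact tri_model S.hae S.hab S.hbe.symm

/-- relations for `Sp_{2n}(F)` from relations for the permutations and for `Sp₄(F)` -/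
theorem sys_spJ_of (S : SpPts c a b e f) {kP rP jP kB rB : ℕ} (hP : HasSysJ P kP rP jP)
    (hB : HasSysJ (Spg 2 F) kB rB 0) (hS₁ : ∀ i, c (S₁ i) a = a)
    (hS₁' : ∀ σ, c σ a = a → σ ∈ Subgroup.closure (Set.range S₁))
    (hS₂ : ∀ i, c (S₂ i) a = a ∧ c (S₂ i) b = b)
    (hS₂' : ∀ σ, c σ a = a → c σ b = b → σ ∈ Subgroup.closure (Set.range S₂))
    (hg₁ : InS 0 g₁) (hg₂ : InS 0 g₂)
    (hgen : ∀ A, InS 0 A → A ∈ Subgroup.closure ({g₁, g₂} : Set (Spg 2 F))) :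
    HasSysJ (Spg n F) (kP + kB) (rP + rB + (2 * s₁ + s₂ + 9)) kP := by
  classical
  obtain ⟨τ, ht⟩ := S.tr2 b a S.hab.symm
  obtain ⟨p0, h0⟩ := S.tr2 e a S.hae.symm
  obtain ⟨p1, h1⟩ := S.tr2 a e S.hae
  obtain ⟨p2, h2⟩ := S.tr2 e f S.hef
  obtain ⟨p3, h3⟩ := S.tr2 b e S.hbe
  obtain ⟨p4, h4⟩ := S.tr2 e b S.hbe.symm
  let q : Fin 5 → P := ![p0, p1, p2, p3, p4]
  have Q : SpSel c a b e f τ q := ⟨ht, h0, h1, h2, h3, h4⟩
  have hn : 2 ≤ n := by
    have := a.isLt; have := b.isLt; have := Fin.val_ne_of_ne S.hab; omega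
  obtain ⟨ι₁, i₁, gP, RP, VP, JP, hk₁, hr₁, hval₁, hcov₁, hhom₁, -, -⟩ := hP
  obtain ⟨ι₂, i₂, gB, RB, VB, JB, hk₂, hr₂, hval₂, hcov₂, hhom₂, hJB, hJB'⟩ := hB
  choose wP hwP hwP' using hcov₁
  choose wB hwB hwB' using hcov₂
  let incl : FreeGroup ι₁ →* FreeGroup (ι₁ ⊕ ι₂) := FreeGroup.map Sum.inl
  let incl' : FreeGroup ι₂ →* FreeGroup (ι₁ ⊕ ι₂) := FreeGroup.map Sum.inr
  let g : ι₁ ⊕ ι₂ → Spg n F := Sum.elim (fun i => spPerm (c (gP i))) fun i => ext2 a b (gB i)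
  let E := eqsSp (fun σ => incl (wP σ)) (fun A => incl' (wB A)) S₁ S₂ g₁ g₂ τ q
  let R : List (FreeGroup (ι₁ ⊕ ι₂)) := RP.map incl ++ RB.map incl' ++ E.map fun x => x.1 * x.2⁻¹
  let A : Set (FreeGroup (ι₁ ⊕ ι₂)) := {v | ∃ w ∈ VP, ∃ u ∈ VB, v = incl w * incl' u * (incl w)⁻¹}
  have gW : ∀ v, FreeGroup.lift g (incl v) = spPerm (c (FreeGroup.lift gP v)) := fun v => by
    rw [lift_map]; exact lift_comp_hom (spPerm.comp c) gP v
  have gU : ∀ v, FreeGroup.lift g (incl' v) = ext2 a b (FreeGroup.lift gB v) := fun v => by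
    rw [lift_map]; exact lift_comp_hom (ext2 a b) gB v
  have hcov : Subgroup.closure (FreeGroup.lift g '' A) = ⊤ := by
    set H := Subgroup.closure (FreeGroup.lift g '' A)
    have hall : ∀ i j, i ≠ j → ∀ B, ext2 i j B ∈ H := by
      intro i j hij B
      obtain ⟨σ, rfl, rfl⟩ := S.tr2 i j hij
      refine Subgroup.subset_closure ⟨_, ⟨wP σ, hwP σ, wB B, hwB B, rfl⟩, ?_⟩
      rw [map_mul, map_mul, map_inv, gW, gU, hwP', hwB', spPerm_ext2 _ S.hab]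
    rw [eq_top_iff, ← closure_gens n, Subgroup.closure_le]
    rintro M (⟨j, hj⟩ | ⟨i, hi, hiM⟩)
    · obtain ⟨B, rfl⟩ := exists_ext2 (ne_oth hn j) fun k hk _ => hj k hk
      exact hall _ _ (ne_oth hn j) B
    · have hne : (⟨i, by omega⟩ : Fin n) ≠ ⟨i + 1, hi⟩ := by simp [Fin.ext_iff]
      obtain ⟨B, rfl⟩ := exists_ext2 hne fun k h1 h2 =>
        ⟨hiM.1 k, hiM.2 k (fun he => h1 (Fin.ext he)) fun he => h2 (Fin.ext he)⟩
      exact hall _ _ hne B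
  refine ⟨ι₁ ⊕ ι₂, inferInstance, g, R, Subgroup.closure A, Finset.univ.map ⟨Sum.inl, Sum.inl_injective⟩,
    ?_, ?_, ?_, cover_closure g A hcov, ?_, by simp [hk₁], ?_⟩
  · rw [Fintype.card_sum]; omega
  · simp [R, E, eqsSp]; omega
  · intro w hw
    simp only [R, List.mem_append, List.mem_map] at hw
    rcases hw with (⟨v, hv, rfl⟩ | ⟨v, hv, rfl⟩) | ⟨x, hx, rfl⟩
    · rw [gW, hval₁ v hv, map_one, map_one]
    · rw [gU, hval₂ v hv, map_one]
    · rw [map_mul, map_inv, mul_inv_eq_one]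
      have key := eqsSp_model (F := F) S Q hS₁ hS₂ hg₁ hg₂
      have e1 : (fun σ => FreeGroup.lift g (incl (wP σ))) = fun σ => spPerm (c σ) :=
        funext fun σ => by rw [gW, hwP']
      have e2 : (fun M => FreeGroup.lift g (incl' (wB M))) = fun M => ext2 a b M :=
        funext fun M => by rw [gU, hwB']
      rw [← e1, ← e2, map_eqsSp (FreeGroup.lift g)] at key
      exact key _ (List.mem_map_of_mem hx)
  · intro G _ g' hg'
    obtain ⟨ρG, hρG⟩ := hhom₁ G (fun i => g' (Sum.inl i)) fun w hw => by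
      rw [← lift_map]; exact hg' _ (List.mem_append_left _ (List.mem_append_left _ (List.mem_map_of_mem hw)))
    obtain ⟨ψG, hψG⟩ := hhom₂ G (fun i => g' (Sum.inr i)) fun w hw => by
      rw [← lift_map]; exact hg' _ (List.mem_append_left _ (List.mem_append_right _ (List.mem_map_of_mem hw)))
    let ρ : P →* Spg n F × G := ((spPerm).comp c).prod ρG
    let ψ : Spg 2 F →* Spg n F × G := (ext2 a b).prod ψG
    have hW : ∀ v ∈ VP, (FreeGroup.lift g (incl v), FreeGroup.lift g' (incl v)) = ρ (FreeGroup.lift gP v) :=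
      fun v hv => by rw [gW, lift_map Sum.inl g', ← hρG v hv]; rfl
    have hU : ∀ v ∈ VB, (FreeGroup.lift g (incl' v), FreeGroup.lift g' (incl' v)) = ψ (FreeGroup.lift gB v) :=
      fun v hv => by rw [gU, lift_map Sum.inr g', ← hψG v hv]; rfl
    have heqs : ∀ x ∈ eqsSp (fun σ => ρ σ) (fun M => ψ M) S₁ S₂ g₁ g₂ τ q, x.1 = x.2 := by
      have e1 : (fun σ => FreeGroup.lift (fun i => (g i, g' i)) (incl (wP σ))) = fun σ => ρ σ :=
        funext fun σ => by rw [lift_prod, hW _ (hwP σ), hwP']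
      have e2 : (fun M => FreeGroup.lift (fun i => (g i, g' i)) (incl' (wB M))) = fun M => ψ M :=
        funext fun M => by rw [lift_prod, hU _ (hwB M), hwB']
      rw [← e1, ← e2, map_eqsSp (FreeGroup.lift fun i => (g i, g' i)), List.forall_mem_map]
      intro x hx
      show FreeGroup.lift _ x.1 = FreeGroup.lift _ x.2
      have hmem : x.1 * x.2⁻¹ ∈ R := List.mem_append_right _ (List.mem_map_of_mem hx)
      rw [lift_prod, lift_prod]
      refine Prod.ext ?_ ?_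
      · show FreeGroup.lift g x.1 = FreeGroup.lift g x.2
        have key := eqsSp_model (F := F) S Q hS₁ hS₂ hg₁ hg₂
        have e1 : (fun σ => FreeGroup.lift g (incl (wP σ))) = fun σ => spPerm (c σ) :=
          funext fun σ => by rw [gW, hwP']
        have e2 : (fun M => FreeGroup.lift g (incl' (wB M))) = fun M => ext2 a b M :=
          funext fun M => by rw [gU, hwB']
        rw [← e1, ← e2, map_eqsSp (FreeGroup.lift g)] at key
        exact key _ (List.mem_map_of_mem hx)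
      · show FreeGroup.lift g' x.1 = FreeGroup.lift g' x.2
        have := hg' _ hmem
        rwa [map_mul, map_inv, mul_inv_eq_one] at this
    have hR : SpRels (MonoidHom.fst (Spg n F) G) c ρ ψ a b e f :=
      rels_of_eqsSp (fun σ => rfl) (fun M => rfl) Q hS₁' hS₂' hgen heqs
    have hFam := hR.spFam S
    refine exists_hom_of_cover g g' _ (cover_closure g A hcov) fun v hv hv1 => ?_
    have hin : ((FreeGroup.lift g v, FreeGroup.lift g' v) : Spg n F × G) ∈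
        famK hn (famP c ρ ψ a b) := by
      rw [← lift_prod]
      refine (Subgroup.closure_le ((famK hn (famP c ρ ψ a b)).comap (FreeGroup.lift fun i => (g i, g' i)))).2
        ?_ hv
      rintro _ ⟨w, hw, u, hu, rfl⟩
      rw [SetLike.mem_coe, Subgroup.mem_comap, map_mul, map_mul, map_inv, lift_prod, lift_prod, hW w hw,
        hU u hu, ← hR.toSpBase.famP_eq]
      exact hFam.range_le_famK hn ((c (FreeGroup.lift gP w)).injective.ne S.hab) ⟨_, rfl⟩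
    have := hFam.injOn hn hin (one_mem (famK hn (famP c ρ ψ a b))) (by rw [map_one]; exact hv1)
    exact congrArg Prod.snd this
  · rintro (x | x) hx
    · exact absurd (Finset.mem_map.2 ⟨x, Finset.mem_univ x, rfl⟩) hx
    · refine Subgroup.subset_closure ⟨1, one_mem _, FreeGroup.of x, hJB' x ?_, by simp [incl']⟩
      rw [Finset.card_eq_zero.1 (Nat.le_zero.1 hJB)]
      exact Finset.notMem_empty x

/-- the same, forgetting the exact numbers -/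
theorem sys_sp_of (S : SpPts c a b e f) {kP rP kB rB : ℕ} (hP : HasSys P kP rP)
    (hB : HasSysJ (Spg 2 F) kB rB 0) (hS₁ : ∀ i, c (S₁ i) a = a)
    (hS₁' : ∀ σ, c σ a = a → σ ∈ Subgroup.closure (Set.range S₁))
    (hS₂ : ∀ i, c (S₂ i) a = a ∧ c (S₂ i) b = b)
    (hS₂' : ∀ σ, c σ a = a → c σ b = b → σ ∈ Subgroup.closure (Set.range S₂))
    (hg₁ : InS 0 g₁) (hg₂ : InS 0 g₂)
    (hgen : ∀ A, InS 0 A → A ∈ Subgroup.closure ({g₁, g₂} : Set (Spg 2 F))) :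
    HasSys (Spg n F) (kP + kB) (rP + rB + (2 * s₁ + s₂ + 9)) :=
  (sys_spJ_of S hP.toJ hB hS₁ hS₁' hS₂ hS₂' hg₁ hg₂ hgen).toHasSys

variable [Fintype F]

/-- `Sp_{2n}(F)`, `n ≥ 3`, by at most 75 relations -/
theorem sys_sp (hn : 3 ≤ n) : ∃ k, HasSys (Spg n F) k 75 := by
  classical
  obtain ⟨p, hchar⟩ := CharP.exists F
  haveI hp : Fact p.Prime := ⟨CharP.char_is_prime F p⟩
  obtain ⟨N, -, hN⟩ := FiniteField.card F p
  letI : Algebra (ZMod p) F := ZMod.algebra F p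
  obtain ⟨⟨rels, hr, ⟨iso⟩⟩, -⟩ := CfsgLib.Lie.ShortPres.BTwo.presentation (F := F) hN
  have hB : HasSysJ (Spg 2 F) 6 28 0 := by
    simpa using (HasSysJ.of_presentation rels iso).mono (r' := 28) (by omega) le_rfl
  obtain ⟨g₁, g₂, hg₁, hg₂, hgen⟩ := exists_two_inS (F := F)
  obtain rfl | h4 : n = 3 ∨ 4 ≤ n := by omega
  · refine ⟨_, (sys_sp_of spPts_three (HasSys.table (Equiv.Perm (Fin 3))) hB (S₁ := ![Equiv.swap 1 2])
      (S₂ := ![]) ?_ ?_ ?_ ?_ hg₁ hg₂ hgen).mono le_rfl ?_⟩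
    · simp only [MonoidHom.id_apply]; decide
    · intro σ hσ
      have : ∀ σ : Equiv.Perm (Fin 3), σ 0 = 0 → σ = 1 ∨ σ = Equiv.swap 1 2 := by decide
      rcases this σ hσ with rfl | rfl
      · exact one_mem _
      · exact Subgroup.subset_closure ⟨0, rfl⟩
    · exact fun i => Fin.elim0 i
    · intro σ h0 h1
      have : ∀ σ : Equiv.Perm (Fin 3), σ 0 = 0 → σ 1 = 1 → σ = 1 := by decide
      rw [this σ h0 h1]
      exact one_mem _
    · rw [Fintype.card_perm, Fintype.card_fin]; rfl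
  · obtain ⟨S₁, h1, h1'⟩ := exists_stab1_gens (four h4 0)
    obtain ⟨S₂, h2, h2'⟩ := exists_stab_gens (four h4 0) (four h4 1)
    exact ⟨_, (sys_sp_of (spPts_alt h4) (sys_alt_fin n (by omega)) hB (S₁ := S₁) (S₂ := S₂)
      h1 h1' h2 h2' hg₁ hg₂ hgen).mono le_rfl (by norm_num)⟩

end CfsgLib.Lie.BoundedPres
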