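import Cfsg.Agent.Lib.Lie.BoundedPres.SpExt

/-!
# Elements and generators of `Sp₄(F)` adapted to two hyperbolic pairs
-/

set_option autoImplicit false

namespace CfsgLib.Lie.BoundedPres

open Matrix CfsgLib.Sp CfsgLib.Char.SpAmalgam

attribute [-simp] Matrix.mulVec_single_one Matrix.mulVec_single

variable {F : Type*} [Field F]

theorem flip2_flip2 (A : Spg 2 F) : flip2 (flip2 A) = A := by
  refine sp_ext_vec fun v => ?_
  rw [flip2_apply, flip2_apply, sp_mul_mulVec, sp_mul_mulVec, sp_mul_mulVec, sp_mul_mulVec, swap2_mulVec_self,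
    swap2_mulVec_self]

theorem flip2_lv (A : Spg 2 F) (k : Fin 2) :
    (flip2 A).1 *ᵥ lv k =
      (spPerm (Equiv.swap (0 : Fin 2) 1) : Spg 2 F).1 *ᵥ (A.1 *ᵥ lv (Equiv.swap (0 : Fin 2) 1 k)) := by
  rw [flip2_apply, sp_mul_mulVec, sp_mul_mulVec, spPerm_lv]

/-- the symmetric short root element -/
noncomputable def X2 : Spg 2 F := kv (lv 0) (lv 1) 1

/-- the Weyl element of the first pair -/
noncomputable def W2 : Spg 2 F := tv (lv 0) (-1) * (tv (rv 0) (-1) * tv (lv 0) (-1))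

/-- the element `e₀ ↦ e₀ + e₁` -/
noncomputable def L2 : Spg 2 F := W2 * kv (lv 0) (lv 1) (-1) * W2⁻¹

/-- an element `e₀ ↦ e₁` -/
noncomputable def A2 : Spg 2 F := L2 * (flip2 L2)⁻¹ * L2

theorem sf_lv_lv {n : ℕ} (i j : Fin n) : sf (lv i : Vs n F) (lv j) = 0 := by rw [sf_lv]; simp

theorem inM_kv (c : F) : InM 0 (kv (lv 0) (lv 1) c : Spg 2 F) := by
  refine ⟨fun k => ?_, fun k h0 h1 => ?_⟩
  · rw [kv_mulVec _ _ (sf_lv_lv 0 1), sf_lv_lv, sf_lv_lv]; simp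
  · exfalso
    omega

theorem inM_X2 : InM 0 (X2 : Spg 2 F) := inM_kv 1

theorem inS_W2 : InS 0 (W2 : Spg 2 F) := by
  intro k hk
  obtain rfl : k = 1 := by omega
  have a : sf (lv (1 : Fin 2) : Vs 2 F) (rv 0) = 0 := by rw [sf_rv]; simp
  have b : sf (rv (1 : Fin 2) : Vs 2 F) (lv 0) = 0 := by rw [sf_lv]; simp
  have c : sf (rv (1 : Fin 2) : Vs 2 F) (rv 0) = 0 := by rw [sf_rv]; simp
  constructor <;> simp only [W2, sp_mul_mulVec, tv_mulVec, a, b, c, sf_lv_lv, sf_add_left, sf_smul_left] <;> simp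

theorem W2_lv : (W2 : Spg 2 F).1 *ᵥ lv 0 = rv 0 := by
  have a : sf (lv (0 : Fin 2) : Vs 2 F) (rv 0) = -1 := by rw [sf_rv]; simp
  have b : sf (rv (0 : Fin 2) : Vs 2 F) (lv 0) = 1 := by rw [sf_lv]; simp
  simp only [W2, sp_mul_mulVec, tv_mulVec, sf_add_left, sf_smul_left, sf_self, a, b]
  module

theorem L2_eq : (L2 : Spg 2 F) = kv (rv 0) (lv 1) (-1) := by
  rw [L2, kv_conj _ _ _ (sf_lv_lv 0 1), W2_lv, (inS_W2 1 (by decide)).1]

theorem L2_lv : (L2 : Spg 2 F).1 *ᵥ lv 0 = lv 0 + lv 1 ∧ (L2 : Spg 2 F).1 *ᵥ lv 1 = lv 1 := by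
  have h : sf (rv (0 : Fin 2) : Vs 2 F) (lv 1) = 0 := by rw [sf_lv]; simp
  rw [L2_eq, kv_mulVec _ _ h, kv_mulVec _ _ h, sf_lv_lv, sf_lv_lv, sf_rv, sf_rv]
  simp

theorem flip2_L2_lv : (flip2 L2 : Spg 2 F).1 *ᵥ lv 0 = lv 0 ∧
    (flip2 L2 : Spg 2 F).1 *ᵥ lv 1 = lv 1 + lv 0 := by
  rw [flip2_lv, flip2_lv, Equiv.swap_apply_left, Equiv.swap_apply_right, L2_lv.1, L2_lv.2,
    Matrix.mulVec_add, spPerm_lv, spPerm_lv, Equiv.swap_apply_left, Equiv.swap_apply_right]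
  exact ⟨rfl, rfl⟩

theorem A2_lv : (A2 : Spg 2 F).1 *ᵥ lv 0 = lv 1 := by
  have h1 : ((flip2 L2 : Spg 2 F)⁻¹).1 *ᵥ lv 0 = lv 0 := by
    conv_lhs => rw [← flip2_L2_lv.1, sp_inv_mulVec]
  have h2 : ((flip2 L2 : Spg 2 F)⁻¹).1 *ᵥ lv 1 = lv 1 - lv 0 := by
    have := sp_inv_mulVec (flip2 L2 : Spg 2 F) (lv 1)
    rw [flip2_L2_lv.2, Matrix.mulVec_add, h1] at this
    exact eq_sub_of_add_eq this
  rw [A2, sp_mul_mulVec, sp_mul_mulVec, L2_lv.1, Matrix.mulVec_add, h1, h2, add_sub_cancel, L2_lv.2]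

/-- the two `SL₂` and one short root element generate -/
theorem closure_two : Subgroup.closure
    ({A : Spg 2 F | InS 0 A} ∪ {A : Spg 2 F | InS 0 (flip2 A)} ∪ {X2}) = ⊤ := by
  set G := Subgroup.closure ({A : Spg 2 F | InS 0 A} ∪ {A : Spg 2 F | InS 0 (flip2 A)} ∪ {X2})
  have h0 : ∀ A : Spg 2 F, InS 0 A → A ∈ G := fun A h => Subgroup.subset_closure (Or.inl (Or.inl h))
  have h1 : ∀ A : Spg 2 F, InS 1 A → A ∈ G := fun A h =>
    Subgroup.subset_closure (Or.inl (Or.inr (inS_flip.2 (by rwa [flip2_flip2]))))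
  rw [eq_top_iff, ← closure_gens 2, Subgroup.closure_le]
  rintro A (⟨j, hj⟩ | ⟨i, hi, hiA⟩)
  · fin_cases j
    exacts [h0 A hj, h1 A hj]
  obtain rfl : i = 0 := by omega
  obtain ⟨t, c, t', rfl⟩ := exists_form_inM (n := 0) hiA
  refine G.mul_mem (G.mul_mem (h0 _ (inS_zU t)) ?_) (h1 _ (inS_emb (j := (0 : Fin 1)).2 (inS_zU t')))
  by_cases hc : c = 0
  · rw [hc, zero_smul, xU_zero]; exact G.one_mem
  let d : Spg 2 F := spDiag (Pi.mulSingle 0 (Units.mk0 c hc))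
  have hd : InS 0 d := by
    intro k hk
    obtain rfl : k = 1 := by omega
    simp only [d, spDiag_lv, spDiag_rv]
    simp
  have e : xU (c • lv (0 : Fin 1)) = d * X2 * d⁻¹ := by
    have h01 : sf ((c • lv (0 : Fin 2)) : Vs 2 F) (lv 1) = 0 := by rw [sf_smul_left, sf_lv_lv, mul_zero]
    have h01' : sf (lv (0 : Fin 2) : Vs 2 F) (c • lv 1) = 0 := by rw [sf_smul_right, sf_lv_lv, mul_zero]
    rw [X2, kv_conj _ _ _ (sf_lv_lv 0 1), (hd 1 (by decide)).1,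
      show d.1 *ᵥ lv 0 = c • lv 0 by simp [d, spDiag_lv]]
    rw [xU, show CfsgLib.Char.SpAmalgam.em (c • lv (0 : Fin 1)) = c • (lv (1 : Fin 2) : Vs 2 F) by
      rw [show (1 : Fin 2) = (0 : Fin 1).succ from rfl, ← em_lv, CfsgLib.Char.SpAmalgam.em, CfsgLib.Char.SpAmalgam.em, CfsgLib.Char.SpAmalgam.vec_smul]; simp, e0_eq]
    refine sp_ext_vec fun x => ?_
    rw [kv_mulVec _ _ h01', kv_mulVec _ _ h01, sf_smul_right, sf_smul_right]
    module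
  rw [e]
  exact G.mul_mem (G.mul_mem (h0 _ hd) (Subgroup.subset_closure (Or.inr rfl))) (G.inv_mem (h0 _ hd))

end CfsgLib.Lie.BoundedPres
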