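import Cfsg.Agent.Lib.Lie.BoundedPres.SpMat
import Cfsg.Agent.Lib.RegUnip.SpGen
import Cfsg.Agent.Lib.Lie.ShortPres.B2Prm

/-!
# `Sp_{2n}(F)` is generated by two elements

A transvection times a torus element of another hyperbolic pair, and a transvection times the signed cycle.
-/

set_option autoImplicit false

namespace CfsgLib.Lie.BoundedPres

open Matrix CfsgLib.Sp CfsgLib.Lie.ShortPres
open CfsgLib.Perm.Trans.Symp CfsgLib.RegUnip

attribute [-simp] Matrix.mulVec_single_one Matrix.mulVec_single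

variable {F : Type*} [Field F] [Fintype F] {k : ℕ}

local notation "Spn" => Matrix.symplecticGroup (Fin (k + 2)) F

/-- the shift vector -/
def shiftVec : Fin (k + 2) ⊕ Fin (k + 2) → F := rv 0 + lv 1

/-- the Weyl element of the first pair -/
def spW : Spn := tv (lv 0) (-1) * (tv (rv 0) (-1) * tv (lv 0) (-1))

/-- the second generator -/
def spB : Spn := tv shiftVec 1 * (spW * spPerm (finRotate (k + 2)))

omit [Fintype F] in
theorem spW_values :
    (spW (F := F) (k := k)).1 *ᵥ lv 0 = rv 0 ∧ (spW : Spn).1 *ᵥ rv 0 = -lv 0 ∧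
      ∀ j, j ≠ 0 → (spW : Spn).1 *ᵥ lv j = lv j ∧ (spW : Spn).1 *ᵥ rv j = rv j := by
  have a : sf (lv (0 : Fin (k + 2)) : Fin (k + 2) ⊕ Fin (k + 2) → F) (rv 0) = -1 := by
    rw [sf_rv]; simp
  have b : sf (rv (0 : Fin (k + 2)) : Fin (k + 2) ⊕ Fin (k + 2) → F) (lv 0) = 1 := by
    rw [sf_lv]; simp
  refine ⟨?_, ?_, fun j hj => ⟨?_, ?_⟩⟩
  · simp only [spW, sp_mul_mulVec, tv_mulVec, sf_add_left, sf_smul_left, sf_self, a, b]
    module
  · simp only [spW, sp_mul_mulVec, tv_mulVec, sf_add_left, sf_smul_left, sf_self, a, b]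
    module
  · have c : sf (lv j : Fin (k + 2) ⊕ Fin (k + 2) → F) (rv 0) = 0 := by
      rw [sf_rv]; simp [Ne.symm hj]
    have d : sf (lv j : Fin (k + 2) ⊕ Fin (k + 2) → F) (lv 0) = 0 := by rw [sf_lv]; simp
    simp only [spW, sp_mul_mulVec, tv_mulVec, sf_add_left, sf_smul_left, c, d]
    simp
  · have c : sf (rv j : Fin (k + 2) ⊕ Fin (k + 2) → F) (rv 0) = 0 := by rw [sf_rv]; simp
    have d : sf (rv j : Fin (k + 2) ⊕ Fin (k + 2) → F) (lv 0) = 0 := by
      rw [sf_lv]; simp [Ne.symm hj]
    simp only [spW, sp_mul_mulVec, tv_mulVec, sf_add_left, sf_smul_left, c, d]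
    simp

omit [Fintype F] in
theorem spB_lv (i : Fin (k + 1)) : (spB : Spn).1 *ᵥ lv i.castSucc = lv i.succ := by
  rw [spB, sp_mul_mulVec, sp_mul_mulVec, spPerm_lv, finRotate_succ_apply, Fin.coeSucc_eq_succ,
    (spW_values.2.2 _ (Fin.succ_ne_zero i)).1, tv_mulVec]
  simp [shiftVec, sf_add_right, sf_lv, sf_rv, Fin.succ_ne_zero i, (Fin.succ_ne_zero i).symm]

omit [Fintype F] in
theorem spB_last : (spB : Spn).1 *ᵥ lv (Fin.last (k + 1)) = rv 0 := by
  rw [spB, sp_mul_mulVec, sp_mul_mulVec, spPerm_lv, finRotate_succ_apply, Fin.last_add_one,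
    spW_values.1, tv_mulVec]
  simp [shiftVec, sf_add_right, sf_lv, sf_rv]

omit [Fintype F] in
theorem spB_rv (i : Fin (k + 1)) :
    (spB : Spn).1 *ᵥ rv i.castSucc =
      rv i.succ + sf (rv i.succ) (shiftVec (F := F) (k := k)) • shiftVec (F := F) (k := k) := by
  rw [spB, sp_mul_mulVec, sp_mul_mulVec, spPerm_rv, finRotate_succ_apply, Fin.coeSucc_eq_succ,
    (spW_values.2.2 _ (Fin.succ_ne_zero i)).2, tv_mulVec, one_mul]

theorem zmod2_cases : ∀ z : ZMod 2, z = 0 ∨ z = 1 := by decide

/-- `Sp_{2n}(F)` is generated by two elements -/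
theorem sp_two_gen : ∃ a b : Spn, Subgroup.closure ({a, b} : Set Spn) = ⊤ := by
  classical
  obtain ⟨p, hchar⟩ := CharP.exists F
  haveI hp : Fact p.Prime := ⟨CharP.char_is_prime F p⟩
  obtain ⟨N, -, hN⟩ := FiniteField.card F p
  letI : Algebra (ZMod p) F := ZMod.algebra F p
  obtain ⟨P, ω₀, hP⟩ := BTwo.exists_prm (F := F) hN
  obtain ⟨ω, rfl⟩ : ∃ ω : Fˣ, (ω : F) = ω₀ := ⟨Units.mk0 ω₀ hP.ne_zero, rfl⟩
  set e0 : Fin (k + 2) ⊕ Fin (k + 2) → F := lv 0 with he0
  set e1 : Fin (k + 2) ⊕ Fin (k + 2) → F := lv 1 with he1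
  set f1 : Fin (k + 2) ⊕ Fin (k + 2) → F := rv 1 with hf1
  have hz : (0 : Fin (k + 2)) ≠ 1 := by simp [Fin.ext_iff]
  let two : Spn := tv e1 1 * tv f1 1
  let H : Spn := if Fintype.card F = 2 then two else spDiag (Pi.mulSingle 1 ω)
  set a : Spn := tv e0 1 * H with ha
  refine ⟨a, spB, ?_⟩
  set G := Subgroup.closure ({a, spB} : Set Spn) with hG
  have haG : a ∈ G := Subgroup.subset_closure (Set.mem_insert _ _)
  have hbG : (spB : Spn) ∈ G := Subgroup.subset_closure (Set.mem_insert_of_mem _ rfl)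
  have hfix : H.1 *ᵥ e0 = e0 := by
    by_cases h : Fintype.card F = 2
    · simp only [H, if_pos h, two, sp_mul_mulVec, tv_mulVec, he0, he1, hf1, sf_add_left, sf_smul_left,
        sf_lv, sf_rv]
      simp [hz, hz.symm]
    · simp only [H, if_neg h, he0, spDiag_lv]
      simp [hz]
  have hcomm : Commute (tv e0 1) H := by
    have := tv_conj H e0 (1 : F)
    rw [hfix] at this
    exact ((mul_inv_eq_iff_eq_mul.1 this).symm : _)
  have hT : tv e0 1 ∈ G ∧ H ∈ G := by
    suffices tv e0 1 ∈ G from ⟨this, by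
      have h := G.mul_mem (G.inv_mem this) haG
      rwa [ha, inv_mul_cancel_left] at h⟩
    have hpow : ∀ n : ℕ, tv e0 (1 : F) ^ n = tv e0 (n : F) := fun n => by
      induction n with
      | zero => rw [pow_zero, Nat.cast_zero, tv_zero]
      | succ n ih => rw [pow_succ, ih, tv_mul, Nat.cast_succ]
    have h2 := G.pow_mem haG
    by_cases h : Fintype.card F = 2
    · haveI : CharP F 2 := by
        haveI : Fact (Nat.Prime 2) := ⟨Nat.prime_two⟩
        exact charP_of_card_eq_prime h
      have hH : H ^ 3 = 1 := by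
        refine sp_ext_vec fun u => ?_
        have q1 : sf (rv (1 : Fin (k + 2)) : Fin (k + 2) ⊕ Fin (k + 2) → F) (lv 1) = 1 := by
          rw [sf_lv]; simp
        have q2 : sf (lv (1 : Fin (k + 2)) : Fin (k + 2) ⊕ Fin (k + 2) → F) (rv 1) = 1 := by
          rw [sf_rv]; simp [CharTwo.neg_eq]
        simp only [pow_succ, pow_zero, one_mul, H, if_pos h, two, he1, hf1, sp_mul_mulVec, sp_one_mulVec,
          tv_mulVec, sf_add_left, sf_smul_left, sf_self, q1, q2]
        have h20 : (2 : F) = 0 := CharTwo.two_eq_zero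
        match_scalars
        · ring
        all_goals ring_nf
        all_goals simp [h20, show (4 : F) = 0 by linear_combination (2 : F) * h20,
          show (8 : F) = 0 by linear_combination (4 : F) * h20, show (3 : F) = 1 by linear_combination h20,
          show (12 : F) = 0 by linear_combination (6 : F) * h20, show (6 : F) = 0 by linear_combination (3 : F) * h20, show (5 : F) = 1 by linear_combination (2 : F) * h20]
      have h3 := h2 3
      rwa [ha, hcomm.mul_pow, hH, mul_one, hpow, show ((3 : ℕ) : F) = 1 by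
        push_cast; linear_combination (CharTwo.two_eq_zero : (2 : F) = 0)] at h3
    · have hH : H ^ (Fintype.card F - 1) = 1 := by
        simp only [H, if_neg h, spDiag_pow]
        rw [← spDiag_one]
        congr 1
        ext i
        rw [Pi.pow_apply, Pi.one_apply, Units.val_pow_eq_pow_val, Units.val_one,
          FiniteField.pow_card_sub_one_eq_one _ (Units.ne_zero _)]
      have h3 := h2 (Fintype.card F - 1)
      rw [ha, hcomm.mul_pow, hH, mul_one, hpow, Nat.cast_sub Fintype.card_pos, FiniteField.cast_card_eq_zero,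
        Nat.cast_one, zero_sub] at h3
      have h4 := G.inv_mem h3
      rwa [inv_eq_of_mul_eq_one_right (show tv e0 (-1 : F) * tv e0 1 = 1 by
        rw [tv_mul, neg_add_cancel, tv_zero])] at h4
  -- centres
  set M := G.map toGL with hM
  have hle : M ≤ isoSub (Cfsg.sympForm (k + 2) F) := by rintro _ ⟨A, -, rfl⟩; exact toGL_mem_iso A
  have hf := isSymplecticForm_sympForm (F := F) (m := k + 2)
  have hcen : ∀ v, (∀ c, tv v c ∈ G) → v ∈ centres hf M := fun v hv c => ⟨tv v c, hv c, toGL_tv v c⟩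
  have hmove : ∀ A ∈ G, ∀ v, (∀ c, tv v c ∈ G) → ∀ c, tv (A.1 *ᵥ v) c ∈ G := fun A hA v hv c => by
    rw [← tv_conj]
    exact G.mul_mem (G.mul_mem hA (hv c)) (G.inv_mem hA)
  have hbe0 : (spB : Spn).1 *ᵥ e0 = e1 := spB_lv (0 : Fin (k + 1))
  have hfull1 : ∀ c, tv e1 c ∈ G := by
    have h11 : tv e1 (1 : F) ∈ G := by
      rw [← hbe0, ← tv_conj]
      exact G.mul_mem (G.mul_mem hbG hT.1) (G.inv_mem hbG)
    by_cases h : Fintype.card F = 2
    · intro c
      haveI : Fact (Nat.Prime 2) := ⟨Nat.prime_two⟩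
      haveI : CharP F 2 := charP_of_card_eq_prime h
      obtain ⟨j, rfl⟩ := (ZMod.castHom_bijective F h).2 c
      rcases zmod2_cases j with rfl | rfl
      · rw [map_zero, tv_zero]; exact G.one_mem
      · rw [map_one]; exact h11
    · intro c
      suffices ∀ c (t : ℕ), tv e1 (((ω : F) ^ 2) ^ t * c) ∈ G by simpa using this c 0
      intro c
      refine forall_of_generated (p := p) ((ω : F) ^ 2) hP.gen2
        (fun c => ∀ t : ℕ, tv e1 (((ω : F) ^ 2) ^ t * c) ∈ G) ?_ ?_ ?_ ?_ c
      · intro t; rw [mul_zero, tv_zero]; exact G.one_mem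
      · intro t
        induction t with
        | zero => simpa using h11
        | succ t ih =>
          have := G.mul_mem (G.mul_mem hT.2 ih) (G.inv_mem hT.2)
          rw [tv_conj, show H.1 *ᵥ e1 = (ω : F) • e1 by simp [H, if_neg h, he1, spDiag_lv], tv_smul] at this
          convert this using 2
          ring
      · intro b c hb hc t
        rw [mul_add, ← tv_mul]
        exact G.mul_mem (hb t) (hc t)
      · intro b hb t
        rw [← mul_assoc, ← pow_succ]
        exact hb (t + 1)
  have hfull0 : ∀ c, tv e0 c ∈ G := by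
    rw [show e0 = (spB⁻¹ : Spn).1 *ᵥ e1 by rw [← hbe0, sp_inv_mulVec]]
    exact hmove _ (G.inv_mem hbG) _ hfull1
  let x : ℕ → Fin (k + 2) ⊕ Fin (k + 2) → F := fun j => (spB ^ j : Spn).1 *ᵥ e0
  have hxs : ∀ j, x (j + 1) = (spB : Spn).1 *ᵥ x j := fun j => by
    simp only [x, pow_succ', sp_mul_mulVec]
  have hxfull : ∀ j c, tv (x j) c ∈ G := fun j => hmove _ (G.pow_mem hbG j) _ hfull0
  have hxC : ∀ j, x j ∈ centres hf M := fun j => hcen _ (hxfull j)
  have hxe : ∀ i : Fin (k + 2), x i.val = lv i := by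
    intro i
    induction i using Fin.induction with
    | zero => simp [x, he0]
    | succ i ih => rw [Fin.val_succ, hxs, ← Fin.val_castSucc i, ih, spB_lv]
  have hxn : x (k + 2) = rv 0 := by
    rw [hxs, show k + 1 = (Fin.last (k + 1)).val from rfl, hxe, spB_last]
  have hxn1 : x (k + 3) = rv 1 + shiftVec := by
    rw [hxs, hxn, show (0 : Fin (k + 2)) = (0 : Fin (k + 1)).castSucc from rfl, spB_rv,
      show (0 : Fin (k + 1)).succ = (1 : Fin (k + 2)) from rfl]
    simp [shiftVec, sf_add_right, sf_lv, sf_rv, hz.symm]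
  have hspan : Submodule.span F (Set.range x) = ⊤ := by
    set S := Submodule.span F (Set.range x) with hS
    have hlv : ∀ i, lv i ∈ S := fun i => hxe i ▸ Submodule.subset_span ⟨_, rfl⟩
    have hw : shiftVec ∈ S := S.add_mem (hxn ▸ Submodule.subset_span ⟨_, rfl⟩) (hlv 1)
    have hb : ∀ v ∈ S, (spB : Spn).1 *ᵥ v ∈ S := by
      intro v hv
      induction hv using Submodule.span_induction with
      | mem v hv => obtain ⟨j, rfl⟩ := hv; exact Submodule.subset_span ⟨j + 1, hxs j⟩
      | zero => rw [Matrix.mulVec_zero]; exact S.zero_mem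
      | add u v _ _ hu hv => rw [Matrix.mulVec_add]; exact S.add_mem hu hv
      | smul c v _ hv => rw [Matrix.mulVec_smul]; exact S.smul_mem c hv
    have hrv : ∀ i, rv i ∈ S := by
      intro i
      induction i using Fin.induction with
      | zero => exact hxn ▸ Submodule.subset_span ⟨_, rfl⟩
      | succ i ih =>
        have h1 := S.sub_mem (hb _ ih) (S.smul_mem (sf (rv i.succ) shiftVec) hw)
        rwa [spB_rv, add_sub_cancel_right] at h1
    rw [eq_top_iff, ← (Pi.basisFun F (Fin (k + 2) ⊕ Fin (k + 2))).span_eq, Submodule.span_le]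
    rintro _ ⟨i | i, rfl⟩ <;> rw [Pi.basisFun_apply]
    exacts [hlv i, hrv i]
  have hpair : ∀ j d, Cfsg.sympForm (k + 2) F (x j) (x (j + d)) = sf (x 0) (x d) := by
    intro j d
    simp only [x, pow_add, sp_mul_mulVec, pow_zero, sp_one_mulVec]
    exact sf_sp _ _ _
  have hd0 : sf (x 0) (x (k + 2)) ≠ 0 := by
    rw [hxn, show x 0 = lv 0 from hxe 0, sf_rv]; simp
  have hd1 : sf (x 0) (x (k + 3)) ≠ 0 := by
    rw [hxn1, show x 0 = lv 0 from hxe 0]; simp [shiftVec, sf_add_right, sf_lv, sf_rv, hz]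
  have hconn : ∀ P : ℕ → Prop, (∀ i j, P i → Cfsg.sympForm (k + 2) F (x i) (x j) ≠ 0 → P j) →
      ∀ i j, P i → P j := by
    intro P hP
    have step : ∀ i d, sf (x 0) (x d) ≠ 0 → (P i ↔ P (i + d)) := fun i d hd =>
      ⟨fun h => hP _ _ h (by rwa [hpair]), fun h => hP _ _ h (by
        rw [hf.skew, hpair]; exact neg_ne_zero.2 hd)⟩
    have one : ∀ i, P i ↔ P (i + 1) := fun i => by
      rw [step i _ hd1, step (i + 1) _ hd0, show i + (k + 3) = i + 1 + (k + 2) by omega]
    have all : ∀ i, P i ↔ P 0 := fun i => by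
      induction i with
      | zero => rfl
      | succ i ih => rw [← one i]; exact ih
    exact fun i j h => (all j).2 ((all i).1 h)
  have he1C : e1 ∈ centres hf M := hcen _ hfull1
  have hall : ∀ v, v ∈ centres hf M := by
    by_cases h : Fintype.card F = 2
    · haveI : CharP F 2 := by
        haveI : Fact (Nat.Prime 2) := ⟨Nat.prime_two⟩
        exact charP_of_card_eq_prime h
      have hf1C : f1 ∈ centres hf M := by
        have hv : H.1 *ᵥ e1 = f1 := by
          simp only [H, if_pos h, two, he1, hf1, sp_mul_mulVec, tv_mulVec, sf_add_left, sf_smul_left,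
            sf_self, sf_lv, sf_rv]
          simp only [ne_eq, Sum.inl.injEq, Pi.single_eq_same, reduceCtorEq, not_false_eq_true,
            Pi.single_eq_of_ne, mul_one, mul_zero, add_zero, CharTwo.neg_eq]
          match_scalars <;> simp [CharTwo.add_self_eq_zero]
        rw [← hv]
        exact hcen _ (hmove _ hT.2 _ hfull1)
      have h1 : Cfsg.sympForm (k + 2) F f1 e1 = 1 := by
        show sf f1 e1 = 1
        rw [he1, sf_lv, hf1]; simp
      have o1 : sf (rv (0 : Fin (k + 2)) : Fin (k + 2) ⊕ Fin (k + 2) → F) f1 = 0 := by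
        rw [hf1, sf_rv]; simp
      have o2 : sf (rv (0 : Fin (k + 2)) : Fin (k + 2) ⊕ Fin (k + 2) → F) e1 = 0 := by
        rw [he1, sf_lv]; simp [hz.symm]
      have o3 : sf (lv (0 : Fin (k + 2)) : Fin (k + 2) ⊕ Fin (k + 2) → F) f1 = 0 := by
        rw [hf1, sf_rv]; simp [hz.symm]
      have o4 : sf (lv (0 : Fin (k + 2)) : Fin (k + 2) ⊕ Fin (k + 2) → F) e1 = 0 := by
        rw [he1, sf_lv]; simp
      set W := Submodule.span F ({f1, e1} : Set (Fin (k + 2) ⊕ Fin (k + 2) → F)) with hW'
      have hW := isNondegenerateOn_pair hf h1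
      have hWC : ∀ w ∈ W, w ∈ centres hf M := fun w hw =>
        sp_plane_full hf hle hf1C he1C (by rw [h1]; exact one_ne_zero) hw
      have hperp : ∀ r : Fin (k + 2) ⊕ Fin (k + 2) → F, sf r f1 = 0 → sf r e1 = 0 → r ∈ perp hf W := by
        intro r hr1 hr2 v hv
        obtain ⟨s, t, rfl⟩ := Submodule.mem_span_pair.1 hv
        show sf r (s • f1 + t • e1) = 0
        rw [sf_add_right, sf_smul_right, sf_smul_right, hr1, hr2, mul_zero, mul_zero, add_zero]
      have hseed := sp_seed hle hW hWC (e := f1 + e1) (p := 0) (r := rv 0) (r' := lv 0)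
        (W.add_mem (Submodule.subset_span (Set.mem_insert _ _))
          (Submodule.subset_span (Set.mem_insert_of_mem _ rfl)))
        (fun h0 => by
          have := congrFun h0 (.inl 1)
          simp [he1, hf1] at this)
        W.zero_mem (hperp _ o1 o2) (hperp _ o3 o4)
        (by show sf (rv 0) (lv 0) = 1; rw [sf_lv]; simp)
        (hxn ▸ hxC _)
        (by
          have := hxC (k + 3)
          rw [hxn1, shiftVec] at this
          convert this using 1
          rw [he1, hf1]; abel)
        (by rw [zero_add]; exact hxe 0 ▸ hxC _)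
      set W2 := W ⊔ Submodule.span F ({rv 0, lv 0} : Set (Fin (k + 2) ⊕ Fin (k + 2) → F))
      have hW4 : Cfsg.Geo.IsNondegenerateOn (Cfsg.sympForm (k + 2) F) W2 := by
        refine isNondegenerateOn_sup hf hW (isNondegenerateOn_pair hf (by
          show sf (rv 0) (lv 0) = 1; rw [sf_lv]; simp)) fun u hu z hz => ?_
        refine swap_zero hf (?_ : Cfsg.sympForm (k + 2) F z u = 0)
        obtain ⟨s, t, rfl⟩ := Submodule.mem_span_pair.1 hz
        exact (perp hf W).add_mem ((perp hf W).smul_mem s (hperp _ o1 o2))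
          ((perp hf W).smul_mem t (hperp _ o3 o4)) u hu
      have hrk : 3 ≤ Module.finrank F W2 := by
        let idx : Fin 3 → Fin (k + 2) ⊕ Fin (k + 2) := ![.inl 0, .inr 0, .inl 1]
        have hidx : Function.Injective idx := by
          intro u v; fin_cases u <;> fin_cases v <;> simp [idx, hz, hz.symm]
        have hli := (Pi.basisFun F (Fin (k + 2) ⊕ Fin (k + 2))).linearIndependent.comp idx hidx
        have hc := finrank_span_eq_card hli
        rw [Fintype.card_fin] at hc
        rw [← hc]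
        refine Submodule.finrank_mono (Submodule.span_le.2 ?_)
        rintro _ ⟨i, rfl⟩
        rw [Function.comp_apply, Pi.basisFun_apply]
        fin_cases i
        · exact Submodule.mem_sup_right (Submodule.subset_span (Set.mem_insert_of_mem _ rfl))
        · exact Submodule.mem_sup_right (Submodule.subset_span (Set.mem_insert _ _))
        · exact Submodule.mem_sup_left (Submodule.subset_span (Set.mem_insert_of_mem _ rfl))
      refine sp_centres_all hf hle x hxC hspan hconn hW4 (fun hbot => ?_) hseed (Or.inr hrk)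
      rw [hbot, finrank_bot] at hrk
      omega
    · have hu : Cfsg.sympForm (k + 2) F (x (k + 3)) e1 = 1 := by
        show sf _ e1 = 1
        rw [hxn1, he1]; simp [shiftVec, sf_add_left, sf_lv, hz, hz.symm]
      refine sp_centres_all hf hle x hxC hspan hconn (isNondegenerateOn_pair hf hu) (fun hbot => ?_)
        (fun w hw => sp_plane_full hf hle (hxC _) he1C (by rw [hu]; exact one_ne_zero) hw)
        (Or.inl (by have := Fintype.one_lt_card (α := F); omega))
      have : e1 ∈ (⊥ : Submodule F _) := hbot ▸ Submodule.subset_span (Set.mem_insert_of_mem _ rfl)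
      rw [Submodule.mem_bot] at this
      exact lv_ne_zero 1 this
  have hMeq := eq_isoSub_of_centres hf hle hall
  refine eq_top_iff.2 fun A _ => ?_
  obtain ⟨B, hB, hBA⟩ : toGL A ∈ M := hMeq ▸ toGL_mem_iso A
  exact toGL_injective hBA ▸ hB

end CfsgLib.Lie.BoundedPres
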