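import Mathlib

/-!
# Systems of relations determining a group

`HasSys S k r`: at most `k` elements of `S` with at most `r` relations among them, such that every group with
elements satisfying the relations receives a homomorphism from `S` compatible with a subgroup of words covering `S`.
-/

set_option autoImplicit false

namespace CfsgLib.Lie.BoundedPres

/-- see the module docstring -/
def HasSys (S : Type*) [Group S] (k r : ℕ) : Prop :=
  ∃ (ι : Type) (_ : Fintype ι) (g : ι → S) (R : List (FreeGroup ι)) (V : Subgroup (FreeGroup ι)),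
    Fintype.card ι ≤ k ∧ R.length ≤ r ∧ (∀ w ∈ R, FreeGroup.lift g w = 1) ∧
    (∀ s : S, ∃ v ∈ V, FreeGroup.lift g v = s) ∧
    ∀ (G : Type) [Group G] (g' : ι → G), (∀ w ∈ R, FreeGroup.lift g' w = 1) →
      ∃ φ : S →* G, ∀ v ∈ V, φ (FreeGroup.lift g v) = FreeGroup.lift g' v

theorem lift_comp_hom {ι S G : Type*} [Group S] [Group G] (f : S →* G) (g : ι → S) (w : FreeGroup ι) :
    FreeGroup.lift (fun i => f (g i)) w = f (FreeGroup.lift g w) :=
  DFunLike.congr_fun (FreeGroup.ext_hom (FreeGroup.lift fun i => f (g i)) (f.comp (FreeGroup.lift g))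
    fun i => by simp) w

/-- agreement on a set gives agreement on its closure -/
theorem agree_closure {ι S G : Type*} [Group S] [Group G] (φ : S →* G) (g : ι → S) (g' : ι → G)
    (A : Set (FreeGroup ι)) (h : ∀ v ∈ A, φ (FreeGroup.lift g v) = FreeGroup.lift g' v) :
    ∀ v ∈ Subgroup.closure A, φ (FreeGroup.lift g v) = FreeGroup.lift g' v :=
  fun _ hv => MonoidHom.eqOn_closure (f := φ.comp (FreeGroup.lift g)) (g := FreeGroup.lift g')
    (fun v hv => h v hv) hv

theorem cover_closure {ι S : Type*} [Group S] (g : ι → S) (A : Set (FreeGroup ι))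
    (h : Subgroup.closure (FreeGroup.lift g '' A) = ⊤) (s : S) :
    ∃ v ∈ Subgroup.closure A, FreeGroup.lift g v = s := by
  rw [← MonoidHom.map_closure] at h
  exact (h ▸ Subgroup.mem_top s : s ∈ (Subgroup.closure A).map (FreeGroup.lift g))

namespace HasSys

theorem of_presentation {S : Type*} [Group S] {ι : Type} [Fintype ι] (rels : Finset (FreeGroup ι))
    (e : PresentedGroup (↑rels : Set (FreeGroup ι)) ≃* S) : HasSys S (Fintype.card ι) rels.card := by
  have hl : ∀ w, FreeGroup.lift (fun i => e (PresentedGroup.of i)) w = e (PresentedGroup.mk _ w) := fun w =>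
    DFunLike.congr_fun (FreeGroup.ext_hom (FreeGroup.lift fun i => e (PresentedGroup.of i))
      (e.toMonoidHom.comp (PresentedGroup.mk _)) fun i => by
        rw [FreeGroup.lift_apply_of]; rfl) w
  refine ⟨ι, inferInstance, fun i => e (PresentedGroup.of i), rels.toList, ⊤, le_rfl, by simp, fun w hw => ?_,
    fun s => ?_, fun G _ g' hg' => ?_⟩
  · rw [hl, PresentedGroup.one_of_mem (Finset.mem_toList.1 hw), map_one]
  · obtain ⟨w, hw⟩ := PresentedGroup.mk_surjective _ (e.symm s)
    exact ⟨w, trivial, by rw [hl, hw, MulEquiv.apply_symm_apply]⟩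
  · refine ⟨(PresentedGroup.toGroup (rels := (↑rels : Set (FreeGroup ι)))
      fun w hw => hg' w (Finset.mem_toList.2 hw)).comp e.symm.toMonoidHom, fun v _ => ?_⟩
    rw [hl]
    simp only [MonoidHom.comp_apply, MulEquiv.coe_toMonoidHom, MulEquiv.symm_apply_apply]
    rfl

variable {S : Type*} [Group S] {k r : ℕ}

theorem mono (h : HasSys S k r) {k' r' : ℕ} (hk : k ≤ k') (hr : r ≤ r') : HasSys S k' r' := by
  obtain ⟨ι, i, g, R, V, h1, h2, h3⟩ := h
  exact ⟨ι, i, g, R, V, h1.trans hk, h2.trans hr, h3⟩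

theorem of_equiv {T : Type*} [Group T] (h : HasSys S k r) (e : S ≃* T) : HasSys T k r := by
  obtain ⟨ι, i, g, R, V, hk, hr, hval, hcov, hhom⟩ := h
  refine ⟨ι, i, fun x => e (g x), R, V, hk, hr, fun w hw => ?_, fun t => ?_, fun G _ g' hg' => ?_⟩
  · have := lift_comp_hom e.toMonoidHom g w
    simpa [hval w hw] using this
  · obtain ⟨v, hv, hs⟩ := hcov (e.symm t)
    refine ⟨v, hv, ?_⟩
    have := lift_comp_hom e.toMonoidHom g v
    simpa [hs] using this
  · obtain ⟨φ, hφ⟩ := hhom G g' hg'
    refine ⟨φ.comp e.symm.toMonoidHom, fun v hv => ?_⟩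
    have := lift_comp_hom e.toMonoidHom g v
    simp only [MulEquiv.coe_toMonoidHom] at this
    simp [this, hφ v hv]

theorem exists_generators (h : HasSys S k r) : ∃ f : Fin k → S, Subgroup.closure (Set.range f) = ⊤ := by
  classical
  obtain ⟨ι, i, g, R, V, hk, -, -, hcov, -⟩ := h
  obtain ⟨e⟩ : Nonempty (ι ↪ Fin k) :=
    Function.Embedding.nonempty_of_card_le (by rwa [Fintype.card_fin])
  refine ⟨Function.extend e g 1, ?_⟩
  rw [eq_top_iff]
  intro s hs
  clear hs
  obtain ⟨v, -, rfl⟩ := hcov s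
  induction v using FreeGroup.induction_on with
  | C1 => rw [map_one]; exact one_mem _
  | of x =>
    rw [FreeGroup.lift_apply_of]
    exact Subgroup.subset_closure ⟨e x, e.injective.extend_apply _ _ _⟩
  | inv_of x hx => rw [map_inv]; exact inv_mem hx
  | mul x y hx hy => rw [map_mul]; exact mul_mem hx hy

/-- one more relation for the quotient by a cyclic subgroup -/
theorem quotient {Q : Type*} [Group Q] (h : HasSys S k r) (π : S →* Q) (hπ : Function.Surjective π)
    (z : S) (hker : π.ker = Subgroup.zpowers z) : HasSys Q k (r + 1) := by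
  obtain ⟨ι, i, g, R, V, hk, hr, hval, hcov, hhom⟩ := h
  obtain ⟨vz, hvz, rfl⟩ := hcov z
  refine ⟨ι, i, fun x => π (g x), vz :: R, V, hk, by simp [hr], fun w hw => ?_, fun t => ?_,
    fun G _ g' hg' => ?_⟩
  · rw [lift_comp_hom]
    rcases List.mem_cons.1 hw with rfl | hw
    · rw [← MonoidHom.mem_ker, hker]; exact Subgroup.mem_zpowers _
    · rw [hval w hw, map_one]
  · obtain ⟨s, rfl⟩ := hπ t
    obtain ⟨v, hv, rfl⟩ := hcov s
    exact ⟨v, hv, lift_comp_hom π g v⟩
  · obtain ⟨φ, hφ⟩ := hhom G g' fun w hw => hg' w (List.mem_cons_of_mem _ hw)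
    have hk : π.ker ≤ φ.ker := by
      rw [hker, Subgroup.zpowers_le, MonoidHom.mem_ker, hφ vz hvz]
      exact hg' vz List.mem_cons_self
    refine ⟨π.liftOfSurjective hπ ⟨φ, hk⟩, fun v hv => ?_⟩
    rw [lift_comp_hom, ← hφ v hv]
    exact π.liftOfRightInverse_comp_apply _ _ ⟨φ, hk⟩ _

/-- a presentation on any two generators -/
theorem two_generator (h : HasSys S k r) (a b : S) (hab : Subgroup.closure ({a, b} : Set S) = ⊤) :
    ∃ rels : Finset (FreeGroup (Fin 2)), rels.card ≤ r + 2 ∧
      Nonempty (PresentedGroup (↑rels : Set (FreeGroup (Fin 2))) ≃* S) := by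
  classical
  obtain ⟨ι, i, g, R, V, -, hr, hval, hcov, hhom⟩ := h
  have hgen : ∀ s : S, ∃ w : FreeGroup (Fin 2), FreeGroup.lift ![a, b] w = s := by
    intro s
    have : (FreeGroup.lift ![a, b]).range = ⊤ := by
      rw [eq_top_iff, ← hab, Subgroup.closure_le]
      intro x hx
      rcases hx with rfl | rfl
      · exact ⟨FreeGroup.of 0, by simp⟩
      · exact ⟨FreeGroup.of 1, by simp⟩
    exact (this ▸ Subgroup.mem_top s : s ∈ (FreeGroup.lift ![a, b]).range)
  choose w hw using hgen
  obtain ⟨va, hva, hga⟩ := hcov a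
  obtain ⟨vb, hvb, hgb⟩ := hcov b
  let W := FreeGroup.lift (fun x => w (g x))
  have hW : ∀ v, FreeGroup.lift ![a, b] (W v) = FreeGroup.lift g v := fun v => by
    simp only [W]
    rw [← lift_comp_hom (FreeGroup.lift ![a, b])]
    simp only [hw]
  let L : List (FreeGroup (Fin 2)) :=
    FreeGroup.of 0 * (W va)⁻¹ :: FreeGroup.of 1 * (W vb)⁻¹ :: R.map W
  refine ⟨L.toFinset, (List.toFinset_card_le L).trans (by simp [L]; omega), ?_⟩
  set rels : Set (FreeGroup (Fin 2)) := ↑L.toFinset
  have hψ : ∀ x ∈ rels, FreeGroup.lift ![a, b] x = 1 := by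
    intro x hx
    simp only [rels, L, List.coe_toFinset, Set.mem_ofPred_eq, List.mem_cons, List.mem_map] at hx
    rcases hx with rfl | rfl | ⟨v, hv, rfl⟩
    · simp [hW, hga]
    · simp [hW, hgb]
    · rw [hW, hval v hv]
  let ψ : PresentedGroup rels →* S := PresentedGroup.toGroup hψ
  let g' : ι → PresentedGroup rels := fun x => PresentedGroup.mk rels (w (g x))
  have hg' : ∀ v, FreeGroup.lift g' v = PresentedGroup.mk rels (W v) := fun v => lift_comp_hom _ _ v
  obtain ⟨φ, hφ⟩ := hhom (PresentedGroup rels) g' fun v hv => by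
    rw [hg']
    exact PresentedGroup.one_of_mem (by simp [rels, L]; exact Or.inr (Or.inr ⟨v, hv, rfl⟩))
  have e0 : φ a = PresentedGroup.of 0 := by
    rw [← hga, hφ va hva, hg']
    have : PresentedGroup.mk rels (FreeGroup.of 0 * (W va)⁻¹) = 1 :=
      PresentedGroup.one_of_mem (by simp [rels, L])
    rw [map_mul, map_inv, mul_inv_eq_one] at this
    exact this.symm
  have e1 : φ b = PresentedGroup.of 1 := by
    rw [← hgb, hφ vb hvb, hg']
    have : PresentedGroup.mk rels (FreeGroup.of 1 * (W vb)⁻¹) = 1 :=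
      PresentedGroup.one_of_mem (by simp [rels, L])
    rw [map_mul, map_inv, mul_inv_eq_one] at this
    exact this.symm
  have p0 : ψ (PresentedGroup.of 0) = a := PresentedGroup.toGroup.of hψ
  have p1 : ψ (PresentedGroup.of 1) = b := PresentedGroup.toGroup.of hψ
  refine ⟨MonoidHom.toMulEquiv ψ φ ?_ ?_⟩
  · refine PresentedGroup.ext fun j => ?_
    fin_cases j
    · simp [p0, e0]
    · simp [p1, e1]
  · refine MonoidHom.eq_of_eqOn_dense hab fun x hx => ?_
    rcases hx with rfl | rfl
    · simp [p0, e0]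
    · simp [p1, e1]

end HasSys

end CfsgLib.Lie.BoundedPres
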